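import Groth.Agent.FEtFF.PurityLocal
import Groth.Agent.HenselLib.WeakDim
import Mathlib.RingTheory.Artinian.Ring
import Mathlib.RingTheory.Etale.Pi
import Mathlib.RingTheory.Etale.Locus
import Mathlib.RingTheory.Etale.Weakly
import Mathlib.RingTheory.Unramified.Field
import Mathlib.RingTheory.Unramified.Locus

/-!
# Extension of finite étale algebras over regular local rings across a divisor
-/

set_option autoImplicit false
set_option linter.style.haveILetI false

universe u

open IsLocalRing TensorProduct

namespace Groth.Agent.TameKum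

/-- A quotient of an algebra with unramified localisation has unramified localisation. -/
theorem formallyUnramified_away {R C D : Type u} [CommRing R] [CommRing C] [CommRing D] [Algebra R C] [Algebra R D]
    (g : R) (S : Type u) [CommRing S] [Algebra R S] [Algebra C S] [IsScalarTower R C S]
    [IsLocalization.Away (algebraMap R C g) S] [Algebra.FormallyUnramified R S]
    (θ : C →ₐ[R] D) (hθ : Function.Surjective θ) :
    Algebra.FormallyUnramified R (Localization.Away (algebraMap R D g)) := by
  let gm := algebraMap R D g
  have hu : ∀ y : Submonoid.powers (algebraMap R C g),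
      IsUnit (((IsScalarTower.toAlgHom R D (Localization.Away gm)).comp θ) y) := by
    rintro ⟨_, k, rfl⟩
    simp only [map_pow, AlgHom.commutes]
    rw [IsScalarTower.algebraMap_apply R D (Localization.Away gm)]
    exact (IsLocalization.Away.algebraMap_isUnit gm).pow k
  let Θ : S →ₐ[R] Localization.Away gm := IsLocalization.liftAlgHom (M := Submonoid.powers (algebraMap R C g)) hu
  refine Algebra.FormallyUnramified.of_surjective Θ fun y => ?_
  obtain ⟨k, b, hb⟩ := IsLocalization.Away.surj gm y
  obtain ⟨c, rfl⟩ := hθ b
  obtain ⟨i, hi⟩ := (IsLocalization.Away.algebraMap_isUnit (S := S) (algebraMap R C g))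
  refine ⟨algebraMap C S c * ↑(i ^ k)⁻¹, ?_⟩
  have hg' : Θ (↑(i ^ k) : S) = algebraMap D (Localization.Away gm) gm ^ k := by
    rw [Units.val_pow_eq_pow_val, hi, map_pow]
    congr 1
    rw [← IsScalarTower.algebraMap_apply R C S, AlgHom.commutes, IsScalarTower.algebraMap_apply R D (Localization.Away gm)]
  have hc : Θ (algebraMap C S c) = algebraMap D (Localization.Away gm) (θ c) := by simp [Θ]
  refine ((IsLocalization.Away.algebraMap_isUnit gm).pow k).mul_left_inj.1 ?_
  rw [hb, ← hc, ← hg', ← map_mul, mul_assoc, Units.inv_mul, mul_one]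

set_option maxHeartbeats 1600000 in
/-- A finite étale algebra over `R[1/g]` which is unramified along `g` extends to `R`: the integral
closure of `R` is finite étale. -/
theorem etale_integralClosure (R : Type u) [CommRing R] [IsRegularLocalRing R] [IsDomain R]
    (hR : 1 ≤ (maximalIdeal R).spanFinrank) (g : R) (hg : g ≠ 0)
    (S : Type u) [CommRing S] [Algebra R S] [Algebra (Localization.Away g) S]
    [IsScalarTower R (Localization.Away g) S] [Module.Finite (Localization.Away g) S]
    [Algebra.Etale (Localization.Away g) S]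
    (hunr : ∀ (M : Type u) [Field M] [Algebra R M] [Algebra (FractionRing R) M]
      [IsScalarTower R (FractionRing R) M] [FiniteDimensional (FractionRing R) M]
      [Algebra.IsSeparable (FractionRing R) M] (ψ : S →ₐ[R] M),
      Algebra.adjoin (FractionRing R) (Set.range ψ) = ⊤ →
      ∀ (q : Ideal (integralClosure R M)) [q.IsPrime], q.height = 1 →
        algebraMap R (integralClosure R M) g ∈ q → Algebra.IsUnramifiedAt R q) :
    Algebra.Etale R (integralClosure R S) ∧ Module.Finite R (integralClosure R S) ∧
      IsLocalization.Away (algebraMap R (integralClosure R S) g) S := by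
  classical
  haveI : UniqueFactorizationMonoid R := CAlgH3.ufm_of_regular R
  let Kr := FractionRing R
  let C := integralClosure R S
  -- the integral closure localises to `S`
  have hloc : IsLocalization.Away (algebraMap R C g) S := by
    refine IsLocalization.Away.mk _ ?_ (fun s => ?_) (fun a b hab => ⟨0, by simpa using hab⟩)
    · have hu : IsUnit (algebraMap R S g) := by
        rw [IsScalarTower.algebraMap_apply R (Localization.Away g) S]
        exact (IsLocalization.Away.algebraMap_isUnit g).map _
      exact hu
    · have hs : IsIntegral (Localization.Away g) s := Algebra.IsIntegral.isIntegral s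
      obtain ⟨⟨_, k, rfl⟩, hk⟩ :=
        IsIntegral.exists_multiple_integral_of_isLocalization (Submonoid.powers g) s hs
      refine ⟨k, ⟨_, hk⟩, ?_⟩
      show s * algebraMap C S (algebraMap R C g) ^ k = _
      rw [← IsScalarTower.algebraMap_apply R C S, ← map_pow, mul_comm, ← Algebra.smul_def]
      rfl
  haveI := hloc
  haveI hetS : Algebra.Etale R S := by
    haveI : Algebra.Etale R (Localization.Away g) := Algebra.Etale.of_isLocalizationAway g
    exact Algebra.Etale.comp R (Localization.Away g) S
  haveI : Algebra.WeaklyEtale R S := inferInstance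
  haveI := HenselLib.WeakDim.integrallyClosed_weaklyEtale R Kr S
  -- the generic fibre
  let T := S ⊗[R] Kr
  letI : Algebra Kr T := Algebra.TensorProduct.rightAlgebra
  let ec : (Kr ⊗[R] S) ≃ₐ[Kr] T :=
    AlgEquiv.ofRingEquiv (f := (Algebra.TensorProduct.comm R Kr S).toRingEquiv) fun k => by simp [T]; rfl
  haveI : Module.Finite Kr (Kr ⊗[R] S) := by
    obtain ⟨σ, hσ⟩ := (inferInstance : Module.Finite (Localization.Away g) S).fg_top
    refine ⟨⟨σ.image fun s => (1 : Kr) ⊗ₜ[R] s, ?_⟩⟩
    rw [eq_top_iff]
    rintro x -
    induction x using TensorProduct.induction_on with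
    | zero => exact Submodule.zero_mem _
    | add a b ha hb => exact Submodule.add_mem _ ha hb
    | tmul k s =>
      have hs : s ∈ Submodule.span (Localization.Away g) (σ : Set S) := hσ ▸ Submodule.mem_top
      suffices h1 : (1 : Kr) ⊗ₜ[R] s ∈ Submodule.span Kr ↑(σ.image fun s => (1 : Kr) ⊗ₜ[R] s) by
        have := Submodule.smul_mem _ k h1
        rwa [TensorProduct.smul_tmul', smul_eq_mul, mul_one] at this
      clear k
      induction hs using Submodule.span_induction with
      | mem y hy => exact Submodule.subset_span (Finset.mem_image.2 ⟨y, hy, rfl⟩)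
      | zero => rw [tmul_zero]; exact Submodule.zero_mem _
      | add y z _ _ hy hz => rw [tmul_add]; exact Submodule.add_mem _ hy hz
      | smul c y _ hy =>
        obtain ⟨k, a, hc⟩ := IsLocalization.Away.surj g c
        have hgk : algebraMap R Kr g ^ k ≠ 0 :=
          pow_ne_zero _ ((map_ne_zero_iff _ (IsFractionRing.injective R Kr)).2 hg)
        have key : (algebraMap R Kr g ^ k) • ((1 : Kr) ⊗ₜ[R] (c • y)) =
            algebraMap R Kr a • ((1 : Kr) ⊗ₜ[R] y) := by
          rw [← map_pow, algebraMap_smul, algebraMap_smul, ← tmul_smul, ← tmul_smul]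
          congr 1
          rw [Algebra.smul_def, Algebra.smul_def, Algebra.smul_def, IsScalarTower.algebraMap_apply R (Localization.Away g) S,
            IsScalarTower.algebraMap_apply R (Localization.Away g) S a, ← hc, map_mul, map_pow]
          ring
        rw [← inv_smul_smul₀ hgk ((1 : Kr) ⊗ₜ[R] (c • y)), key]
        exact Submodule.smul_mem _ _ (Submodule.smul_mem _ _ hy)
  haveI : Module.Finite Kr T := Module.Finite.equiv ec.toLinearEquiv
  haveI : Algebra.FormallyUnramified Kr T := Algebra.FormallyUnramified.of_equiv ec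
  haveI : IsArtinianRing T := IsArtinianRing.of_finite Kr T
  haveI : IsReduced T := Algebra.FormallyUnramified.isReduced_of_field Kr T
  haveI : IsScalarTower R Kr T := IsScalarTower.of_algebraMap_eq fun r => by
    show algebraMap R T r = (1 : S) ⊗ₜ[R] algebraMap R Kr r
    rw [← (Algebra.TensorProduct.includeRight : Kr →ₐ[R] T).commutes r]
    rfl
  letI : ∀ m : MaximalSpectrum T, Field (T ⧸ m.asIdeal) := fun m =>
    @Ideal.Quotient.field _ _ m.asIdeal m.isMaximal
  let π : ∀ m : MaximalSpectrum T, S →ₐ[R] T ⧸ m.asIdeal := fun m =>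
    (Ideal.Quotient.mkₐ R m.asIdeal).comp Algebra.TensorProduct.includeLeft
  have hπinj : ∀ t : T, (∀ m : MaximalSpectrum T, Ideal.Quotient.mk m.asIdeal t = 0) → t = 0 := by
    intro t ht
    have : IsNilpotent t := nilpotent_iff_mem_prime.2 fun P hP =>
      Ideal.Quotient.eq_zero_iff_mem.1 (ht ⟨P, IsArtinianRing.isMaximal_of_isPrime P⟩)
    exact this.eq_zero
  have hincl : Function.Injective (algebraMap S T) :=
    Algebra.TensorProduct.includeLeft_injective (S := S) (IsFractionRing.injective R Kr)
  -- the factors
  let Θ : C →ₐ[R] ∀ m : MaximalSpectrum T, integralClosure R (T ⧸ m.asIdeal) :=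
    Pi.algHom R _ fun m => ((π m).comp C.val).codRestrict _ fun c => c.2.map (π m)
  have hΘ : ∀ c m, ((Θ c m : integralClosure R (T ⧸ m.asIdeal)) : T ⧸ m.asIdeal) =
      Ideal.Quotient.mk m.asIdeal (algebraMap S T (c : S)) := fun c m => rfl
  have hΘbij : Function.Bijective Θ := by
    refine ⟨(injective_iff_map_eq_zero Θ).2 fun c hc => ?_, fun y => ?_⟩
    · refine Subtype.ext (hincl ?_)
      rw [ZeroMemClass.coe_zero, map_zero]
      exact hπinj _ fun m => by rw [← hΘ, hc]; rfl
    · haveI := IsArtinianRing.instFiniteMaximalSpectrum (R := T)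
      haveI := Fintype.ofFinite (MaximalSpectrum T)
      obtain ⟨t, ht⟩ := Ideal.pi_quotient_surjective
        (I := fun m : MaximalSpectrum T => m.asIdeal)
        (fun a b hab => Ideal.isCoprime_iff_sup_eq.2 (a.isMaximal.coprime_of_ne b.isMaximal
          fun h => hab (MaximalSpectrum.ext h))) fun m => (y m : T ⧸ m.asIdeal)
      choose p hp hp0 using fun m : MaximalSpectrum T => (y m).2
      have hint : IsIntegral R t := by
        refine ⟨∏ m, p m, Polynomial.monic_prod_of_monic _ _ fun m _ => hp m, hπinj _ fun m => ?_⟩
        rw [Polynomial.hom_eval₂]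
        show Polynomial.eval₂ (algebraMap R (T ⧸ m.asIdeal)) _ _ = 0
        rw [ht m, Polynomial.eval₂_finset_prod]
        exact Finset.prod_eq_zero (Finset.mem_univ m) (hp0 m)
      obtain ⟨s, hs⟩ := IsIntegrallyClosedIn.isIntegral_iff.1 (hint.tower_top (A := S))
      refine ⟨⟨s, ?_⟩, funext fun m => Subtype.ext ?_⟩
      · exact (isIntegral_algHom_iff (IsScalarTower.toAlgHom R S T) hincl).1 (hs.symm ▸ hint)
      · rw [hΘ]; show Ideal.Quotient.mk m.asIdeal (algebraMap S T s) = _
        rw [hs, ht m]
  have hfac : ∀ m : MaximalSpectrum T,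
      Algebra.Etale R (integralClosure R (T ⧸ m.asIdeal)) ∧ Module.Finite R (integralClosure R (T ⧸ m.asIdeal)) := by
    intro m
    let M := T ⧸ m.asIdeal
    let Cm := integralClosure R M
    haveI : Algebra.FormallyUnramified Kr M :=
      Algebra.FormallyUnramified.of_surjective (Ideal.Quotient.mkₐ Kr m.asIdeal) Ideal.Quotient.mk_surjective
    haveI : FiniteDimensional Kr M :=
      Module.Finite.of_surjective (Ideal.Quotient.mkₐ Kr m.asIdeal).toLinearMap Ideal.Quotient.mk_surjective
    haveI : Algebra.IsSeparable Kr M := Algebra.FormallyUnramified.isSeparable Kr M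
    haveI : IsIntegrallyClosed Cm := integralClosure.isIntegrallyClosedOfFiniteExtension Kr
    haveI : Module.Finite R Cm := IsIntegralClosure.finite R Kr M Cm
    refine ⟨?_, inferInstance⟩
    have hinj : Function.Injective (algebraMap R Cm) := fun a b hab => by
      have : algebraMap R M a = algebraMap R M b := congrArg Subtype.val hab
      rw [IsScalarTower.algebraMap_apply R Kr M, IsScalarTower.algebraMap_apply R Kr M] at this
      exact IsFractionRing.injective R Kr ((algebraMap Kr M).injective this)
    refine FEtFF.PurityLocal.etale_of_unramified_codim_one _ R Cm hR rfl hinj fun q _ hq => ?_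
    by_cases hgq : algebraMap R Cm g ∈ q
    · refine hunr M (π m) ?_ q hq hgq
      rw [eq_top_iff]
      rintro x -
      obtain ⟨t, rfl⟩ := Ideal.Quotient.mk_surjective x
      induction t using TensorProduct.induction_on with
      | zero => rw [map_zero]; exact zero_mem _
      | add a b ha hb => rw [map_add]; exact add_mem ha hb
      | tmul s k =>
        have : (s ⊗ₜ[R] k : T) = algebraMap Kr T k * (s ⊗ₜ[R] 1) := by
          show _ = ((1 : S) ⊗ₜ[R] k) * (s ⊗ₜ[R] 1)
          rw [Algebra.TensorProduct.tmul_mul_tmul, one_mul, mul_one]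
        rw [this, map_mul]
        exact mul_mem (Subalgebra.algebraMap_mem _ k) (Algebra.subset_adjoin ⟨s, rfl⟩)
    · let θ : C →ₐ[R] Cm := (Pi.evalAlgHom R _ m).comp Θ
      have hθ : Function.Surjective θ := fun y => by
        obtain ⟨c, hc⟩ := hΘbij.2 (Pi.single m y)
        exact ⟨c, by simp [θ, hc]⟩
      let gm := algebraMap R Cm g
      haveI : Algebra.FormallyUnramified R (Localization.Away gm) := formallyUnramified_away g S θ hθ
      exact Algebra.basicOpen_subset_unramifiedLocus_iff.2 inferInstance
        (show (⟨q, inferInstance⟩ : PrimeSpectrum Cm) ∈ PrimeSpectrum.basicOpen gm from hgq)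
  let eΘ : C ≃ₐ[R] ∀ m : MaximalSpectrum T, integralClosure R (T ⧸ m.asIdeal) := AlgEquiv.ofBijective Θ hΘbij
  haveI : ∀ m : MaximalSpectrum T, Algebra.Etale R (integralClosure R (T ⧸ m.asIdeal)) := fun m => (hfac m).1
  haveI : ∀ m : MaximalSpectrum T, Module.Finite R (integralClosure R (T ⧸ m.asIdeal)) := fun m => (hfac m).2
  haveI := IsArtinianRing.instFiniteMaximalSpectrum (R := T)
  haveI : Algebra.Etale R (∀ m : MaximalSpectrum T, integralClosure R (T ⧸ m.asIdeal)) := inferInstance
  exact ⟨Algebra.Etale.of_equiv eΘ.symm, Module.Finite.equiv eΘ.symm.toLinearEquiv, hloc⟩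

end Groth.Agent.TameKum
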