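import Groth.Agent.TameKum.Iff
import Groth.Agent.HenselLib.WeakDim
import Groth.Agent.HenselLib.ExtValuation
import Mathlib.RingTheory.Unramified.LocalRing
import Mathlib.RingTheory.Unramified.Locus
import Mathlib.RingTheory.Unramified.Field
import Mathlib.RingTheory.Etale.Weakly

/-!
# Unramifiedness of a tame extension after a Kummer base change between DVRs
-/

set_option autoImplicit false
set_option linter.style.haveILetI false

universe u

open Polynomial IsLocalRing TensorProduct

namespace Groth.Agent.TameKum

variable {O K L : Type u} [CommRing O] [IsDomain O] [IsDiscreteValuationRing O] [Field K] [Algebra O K]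
  [IsFractionRing O K] [Field L] [Algebra K L] [FiniteDimensional K L] [Algebra.IsSeparable K L]

/-- The valuation subring given by a valuation ring with the same fraction field. -/
def rangeSubring (D F : Type u) [CommRing D] [IsDomain D] [ValuationRing D] [Field F] [Algebra D F]
    [IsFractionRing D F] : ValuationSubring F :=
  { (algebraMap D F).range with
    mem_or_inv_mem' := fun x => by
      rcases ValuationRing.isInteger_or_isInteger D x with ⟨a, ha⟩ | ⟨a, ha⟩
      · exact Or.inl ⟨a, ha⟩
      · exact Or.inr ⟨a, ha⟩ }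

theorem mem_rangeSubring {D F : Type u} [CommRing D] [IsDomain D] [ValuationRing D] [Field F] [Algebra D F]
    [IsFractionRing D F] (d : D) : algebraMap D F d ∈ rangeSubring D F := ⟨d, rfl⟩

/-- The integral closure of `O` in the Kummer compositum is unramified over the Kummer extension of `O`. -/
theorem formallyUnramified_integralClosure
    (h : EtRam.IsTamelyRamified O ((algebraMap K L).comp (algebraMap O K))) {π : O}
    (hπ : maximalIdeal O = Ideal.span {π}) (n : ℕ) (hn0 : 0 < n) (hnO : (n : ResidueField O) ≠ 0)
    (hn : ∀ (V : ValuationSubring L) (hV : EtRam.Dominates O ((algebraMap K L).comp (algebraMap O K)) V),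
      (letI : Algebra O V := (RingHom.codRestrict _ V hV.1).toAlgebra
       Ideal.ramificationIdx' (maximalIdeal O) (maximalIdeal V)) ∣ n)
    (F : Type u) [Field F] [Algebra K F] [Algebra L F] [IsScalarTower K L F] [FiniteDimensional K F]
    [Algebra.IsSeparable K F] [Algebra O F] [IsScalarTower O K F]
    (α : F) (hα : α ^ n = algebraMap K F (algebraMap O K π))
    (hgen : Subfield.closure (Set.range (algebraMap L F) ∪ {α}) = ⊤)
    [Algebra (AdjoinRoot (X ^ n - C π : O[X])) (integralClosure O F)]
    [IsScalarTower O (AdjoinRoot (X ^ n - C π : O[X])) (integralClosure O F)]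
    (hroot : ((algebraMap (AdjoinRoot (X ^ n - C π : O[X])) (integralClosure O F) (AdjoinRoot.root _) :
      integralClosure O F) : F) = α) :
    Algebra.FormallyUnramified (AdjoinRoot (X ^ n - C π : O[X])) (integralClosure O F) := by
  classical
  let C0 := AdjoinRoot (X ^ n - C π : O[X])
  let D := integralClosure O F
  haveI : IsLocalRing C0 := isLocalRing_adjoinRoot hπ n hn0
  haveI := isLocalHom_adjoinRoot π n hn0
  haveI : Module.Finite O D := IsIntegralClosure.finite O K F D
  haveI : Module.Finite C0 D := Module.Finite.of_restrictScalars_finite O C0 D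
  haveI : IsDedekindDomain D := IsIntegralClosure.isDedekindDomain O K F D
  haveI : IsFractionRing D F := integralClosure.isFractionRing_of_finite_extension K F
  haveI : Algebra.FiniteType C0 D := inferInstance
  rw [← Algebra.unramifiedLocus_eq_univ_iff]
  refine Set.eq_univ_of_forall fun P => ?_
  obtain ⟨Q, hQ, hPQ⟩ := Ideal.exists_le_maximal P.asIdeal P.2.ne_top
  suffices hU : Algebra.IsUnramifiedAt C0 Q from
    ((PrimeSpectrum.le_iff_specializes P ⟨Q, hQ.isPrime⟩).1 hPQ).mem_open Algebra.isOpen_unramifiedLocus hU
  have hQO : Q.comap (algebraMap O D) = maximalIdeal O :=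
    IsLocalRing.eq_maximalIdeal (Ideal.isMaximal_comap_of_isIntegral_of_isMaximal Q)
  have hQC : Q.comap (algebraMap C0 D) = maximalIdeal C0 :=
    IsLocalRing.eq_maximalIdeal (Ideal.isMaximal_comap_of_isIntegral_of_isMaximal Q)
  have hinjD : Function.Injective (algebraMap O D) := fun a b hab => by
    have : algebraMap O F a = algebraMap O F b := congrArg Subtype.val hab
    rw [IsScalarTower.algebraMap_apply O K F, IsScalarTower.algebraMap_apply O K F] at this
    exact IsFractionRing.injective O K ((algebraMap K F).injective this)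
  have hQ0 : Q ≠ ⊥ := fun h0 => by
    have hπ0 : π ≠ 0 := ((IsDiscreteValuationRing.irreducible_iff_uniformizer π).2 hπ).ne_zero
    have : π ∈ Q.comap (algebraMap O D) := by rw [hQO, hπ]; exact Ideal.mem_span_singleton_self π
    rw [h0, Ideal.mem_comap, Ideal.mem_bot] at this
    exact hπ0 (hinjD (this.trans (map_zero _).symm))
  let DQ := Localization.AtPrime Q
  haveI : IsDiscreteValuationRing DQ := IsLocalization.AtPrime.isDiscreteValuationRing_of_dedekind_domain D hQ0 DQ
  letI : Algebra DQ F := (IsLocalization.lift (M := Q.primeCompl) (g := algebraMap D F) fun y =>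
    (IsUnit.mk0 _ ((map_ne_zero_iff _ (IsFractionRing.injective D F)).2 fun h0 => y.2 (h0 ▸ Q.zero_mem)))).toAlgebra
  haveI : IsScalarTower D DQ F := IsScalarTower.of_algebraMap_eq fun x => (IsLocalization.lift_eq _ x).symm
  haveI : IsFractionRing DQ F :=
    IsFractionRing.isFractionRing_of_isDomain_of_isLocalization Q.primeCompl DQ F
  let W := rangeSubring DQ F
  let eW : DQ →+* W := (algebraMap DQ F).codRestrict W mem_rangeSubring
  have heW : Function.Bijective eW := ⟨fun a b hab => IsFractionRing.injective DQ F (congrArg Subtype.val hab),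
    fun ⟨w, d, hd⟩ => ⟨d, Subtype.ext hd⟩⟩
  let e : DQ ≃+* W := RingEquiv.ofBijective eW heW
  have heO : ∀ a : O, (e (algebraMap D DQ (algebraMap O D a)) : F) = algebraMap K F (algebraMap O K a) := fun a => by
    show algebraMap DQ F (algebraMap D DQ (algebraMap O D a)) = _
    rw [← IsScalarTower.algebraMap_apply D DQ F, ← IsScalarTower.algebraMap_apply O D F,
      ← IsScalarTower.algebraMap_apply O K F]
  have hmax : ∀ d : DQ, d ∈ maximalIdeal DQ ↔ e d ∈ maximalIdeal W := fun d =>
    not_congr (isUnit_map_iff e d).symm
  have hW : EtRam.Dominates O ((algebraMap K F).comp (algebraMap O K)) W := by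
    refine ⟨fun a => heO a ▸ (e _).2, fun a ha => ?_⟩
    rw [RingHom.comp_apply, ← heO a, ← W.valuation_lt_one_iff]
    refine (hmax _).1 ((IsLocalization.AtPrime.to_map_mem_maximal_iff DQ Q _).2 ?_)
    rw [← hQO] at ha
    exact ha
  have hπirr : Irreducible π := (IsDiscreteValuationRing.irreducible_iff_uniformizer π).2 hπ
  obtain ⟨hαW, hmaxW, hsepW⟩ := unramified_of_kummer h hπirr n hn0 hn F α hα hgen W hW
  let rt : DQ := algebraMap D DQ (algebraMap C0 D (AdjoinRoot.root _))
  have hrt : e rt = ⟨α, hαW⟩ := Subtype.ext (by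
    show algebraMap DQ F rt = α
    rw [← IsScalarTower.algebraMap_apply D DQ F]
    exact hroot)
  haveI : IsScalarTower O C0 DQ := IsScalarTower.of_algebraMap_eq fun a => by
    rw [IsScalarTower.algebraMap_apply O D DQ, IsScalarTower.algebraMap_apply C0 D DQ,
      ← IsScalarTower.algebraMap_apply O C0 D]
  haveI : IsLocalHom (algebraMap C0 DQ) := ⟨fun c hc => by
    by_contra hn'
    rw [IsScalarTower.algebraMap_apply C0 D DQ] at hc
    have : c ∈ Q.comap (algebraMap C0 D) := hQC ▸ hn'
    exact ((IsLocalization.AtPrime.to_map_mem_maximal_iff DQ Q _).2 this) hc⟩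
  haveI : IsLocalHom (algebraMap O DQ) := by
    rw [IsScalarTower.algebraMap_eq O C0 DQ]; exact RingHom.isLocalHom_comp _ _
  haveI : Algebra.EssFiniteType C0 DQ := Algebra.EssFiniteType.comp C0 D DQ
  show Algebra.FormallyUnramified C0 DQ
  refine Algebra.FormallyUnramified.iff_map_maximalIdeal_eq.2 ⟨?_, ?_⟩
  · letI : Algebra O W := (RingHom.codRestrict _ W hW.1).toAlgebra
    haveI : IsLocalHom (algebraMap O W) := isLocalHom_of_dominates hW
    haveI : IsLocalHom (e.symm : W →+* DQ) := ⟨fun w hw => by simpa using hw.map e⟩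
    haveI : Algebra.IsSeparable (ResidueField O) (ResidueField W) := hsepW
    have hcomm : ∀ x, ResidueField.mapEquiv e.symm (algebraMap (ResidueField O) (ResidueField W) x) =
        algebraMap (ResidueField O) (ResidueField DQ) x := by
      intro x
      obtain ⟨a, rfl⟩ := residue_surjective x
      show residue DQ (e.symm (algebraMap O W a)) = residue DQ (algebraMap O DQ a)
      congr 1
      rw [RingEquiv.symm_apply_eq]
      refine Subtype.ext ?_
      rw [IsScalarTower.algebraMap_apply O D DQ]
      exact (heO a).symm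
    haveI : Algebra.IsSeparable (ResidueField O) (ResidueField DQ) :=
      Algebra.IsSeparable.of_algHom _ _ (AlgEquiv.ofRingEquiv (f := ResidueField.mapEquiv e.symm) hcomm).symm.toAlgHom
    exact Algebra.isSeparable_tower_top_of_isSeparable (ResidueField O) (ResidueField C0) (ResidueField DQ)
  · refine le_antisymm (((local_hom_TFAE (algebraMap C0 DQ)).out 0 2).mp ‹IsLocalHom (algebraMap C0 DQ)›) fun d hd => ?_
    have h1 := (hmax d).1 hd
    rw [hmaxW, Ideal.mem_span_singleton] at h1
    obtain ⟨c, hc⟩ := h1
    have hd' : d = rt * e.symm c := e.injective (by rw [map_mul, hrt, RingEquiv.apply_symm_apply, hc])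
    rw [hd']
    refine Ideal.mul_mem_right _ _ (Ideal.mem_map_of_mem (algebraMap C0 DQ) (x := AdjoinRoot.root _) ?_)
    rw [maximal_eq hπ n hn0 (maximalIdeal C0)]
    exact Ideal.mem_span_singleton_self _

/-- An extension generated by a finite unramified algebra over a DVR is unramified. -/
theorem formallyUnramified_of_generated {O' K' M E : Type u} [CommRing O'] [IsDomain O'] [IsDiscreteValuationRing O']
    [Field K'] [Algebra O' K'] [IsFractionRing O' K'] [Field M] [Algebra K' M] [Algebra O' M]
    [IsScalarTower O' K' M] [FiniteDimensional K' M] [CommRing E] [Algebra O' E] [Module.Finite O' E]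
    [Algebra.FormallyUnramified O' E] (Φ : E →ₐ[O'] M)
    (hgen : Subfield.closure (Set.range Φ ∪ Set.range (algebraMap K' M)) = ⊤) :
    Algebra.FormallyUnramified O' (integralClosure O' M) := by
  classical
  let D' := Φ.range
  haveI : Algebra.FormallyUnramified O' D' :=
    Algebra.FormallyUnramified.of_surjective Φ.rangeRestrict Φ.rangeRestrict_surjective
  haveI : Module.Finite O' D' := Module.Finite.of_surjective Φ.rangeRestrict.toLinearMap Φ.rangeRestrict_surjective
  haveI : IsDomain D' := inferInstance
  have hinjD' : Function.Injective (algebraMap O' D') := fun a b hab => by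
    have : algebraMap O' M a = algebraMap O' M b := congrArg Subtype.val hab
    rw [IsScalarTower.algebraMap_apply O' K' M, IsScalarTower.algebraMap_apply O' K' M] at this
    exact IsFractionRing.injective O' K' ((algebraMap K' M).injective this)
  haveI : Module.Flat O' D' := HenselLib.ExtValuation.flat_of_injective O' D' hinjD'
  haveI : Algebra.FinitePresentation O' D' := Algebra.FinitePresentation.of_finiteType.1 inferInstance
  haveI : Algebra.Etale O' D' := Algebra.Etale.of_formallyUnramified_of_flat
  haveI : Algebra.WeaklyEtale O' D' := inferInstance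
  haveI := HenselLib.WeakDim.integrallyClosed_weaklyEtale O' K' D'
  -- `M` is `D' ⊗ K'`
  let ψ : D' ⊗[O'] K' →ₐ[D'] M := Algebra.TensorProduct.lift (Algebra.ofId D' M)
    (IsScalarTower.toAlgHom O' K' M) fun _ _ => Commute.all _ _
  have hψK : ∀ k, ψ (1 ⊗ₜ k) = algebraMap K' M k := fun k => by simp [ψ]
  have hψD : ∀ d : D', ψ (d ⊗ₜ 1) = (d : M) := fun d => by simp [ψ]
  have hψinj : Function.Injective ψ := by
    haveI : IsLocalization (Algebra.algebraMapSubmonoid D' (nonZeroDivisors O')) (D' ⊗[O'] K') := inferInstance
    refine (IsLocalization.injective_iff_map_algebraMap_eq (Algebra.algebraMapSubmonoid D' (nonZeroDivisors O'))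
      (f := ψ.toRingHom)).2 fun a b => ⟨fun h' => congrArg _ h', fun hab => congrArg _ ?_⟩
    have : ψ (a ⊗ₜ 1) = ψ (b ⊗ₜ 1) := hab
    rw [hψD, hψD] at this
    exact Subtype.ext this
  have hψsurj : Function.Surjective ψ := by
    haveI : IsDomain (D' ⊗[O'] K') := hψinj.isDomain ψ.toRingHom
    haveI : Module.Finite K' (K' ⊗[O'] D') := inferInstance
    let ψK : K' ⊗[O'] D' →ₐ[K'] M := Algebra.TensorProduct.lift (Algebra.ofId K' M) D'.val fun _ _ => Commute.all _ _
    haveI : Module.Finite K' ψK.range := Module.Finite.of_surjective ψK.rangeRestrict.toLinearMap ψK.rangeRestrict_surjective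
    have hfield : IsField ψK.range := isField_of_isIntegral_of_isField' (Field.toIsField K')
    let S : Subfield M :=
      { ψK.range.toSubring with
        inv_mem' := fun y hy => by
          rcases eq_or_ne y 0 with rfl | h0
          · rw [inv_zero]; exact zero_mem ψK.range
          · obtain ⟨z, hz⟩ := hfield.mul_inv_cancel (a := (⟨y, hy⟩ : ψK.range)) (fun h => h0 (congrArg Subtype.val h))
            rw [show y⁻¹ = (z : M) from inv_eq_of_mul_eq_one_right (congrArg Subtype.val hz)]
            exact z.2 }
    have htop : (⊤ : Subfield M) ≤ S := by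
      rw [← hgen, Subfield.closure_le]
      rintro y (⟨e, rfl⟩ | ⟨k, rfl⟩)
      · exact ⟨1 ⊗ₜ ⟨Φ e, e, rfl⟩, by simp [ψK]⟩
      · exact ⟨k ⊗ₜ 1, by simp [ψK]⟩
    intro y
    obtain ⟨t, ht⟩ := (htop (Subfield.mem_top y) : y ∈ ψK.range)
    refine ⟨Algebra.TensorProduct.comm O' K' D' t, ?_⟩
    rw [← ht]
    clear ht
    induction t using TensorProduct.induction_on with
    | zero => simp
    | add a b ha hb => simp only [map_add, ha, hb]
    | tmul k d => simp [ψ, ψK, mul_comm]
  have hle : integralClosure O' M ≤ D' := by
    intro y hy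
    obtain ⟨t, rfl⟩ := hψsurj y
    have ht : IsIntegral D' t := by
      have h1 : IsIntegral D' (ψ t) := (hy : IsIntegral O' (ψ t)).tower_top
      exact (isIntegral_algHom_iff ψ hψinj).1 h1
    obtain ⟨d, hd⟩ := IsIntegrallyClosedIn.isIntegral_iff.1 ht
    rw [← hd, Algebra.TensorProduct.algebraMap_apply, Algebra.algebraMap_self, RingHom.id_apply, hψD]
    exact d.2
  have heq : integralClosure O' M = D' := le_antisymm hle fun y hy => by
    have : IsIntegral O' (⟨y, hy⟩ : D') := Algebra.IsIntegral.isIntegral _
    exact this.map D'.val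
  exact Algebra.FormallyUnramified.of_equiv (Subalgebra.equivOfEq _ _ heq.symm)


/-- Tame extensions become unramified over any DVR containing a suitable root of the uniformiser. -/
theorem unramified_compositum
    (h : EtRam.IsTamelyRamified O ((algebraMap K L).comp (algebraMap O K))) {π : O}
    (hπ : maximalIdeal O = Ideal.span {π}) (n : ℕ) (hn0 : 0 < n) (hnO : (n : ResidueField O) ≠ 0)
    (hn : ∀ (V : ValuationSubring L) (hV : EtRam.Dominates O ((algebraMap K L).comp (algebraMap O K)) V),
      (letI : Algebra O V := (RingHom.codRestrict _ V hV.1).toAlgebra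
       Ideal.ramificationIdx' (maximalIdeal O) (maximalIdeal V)) ∣ n)
    {O' K' M : Type u} [CommRing O'] [IsDomain O'] [IsDiscreteValuationRing O'] [Field K'] [Algebra O' K']
    [IsFractionRing O' K'] [Field M] [Algebra K' M] [Algebra O' M] [IsScalarTower O' K' M] [FiniteDimensional K' M]
    (ρ : O →+* O') (x : O') (hx : x ^ n = ρ π) (ι : L →+* M)
    (hι : ∀ a, ι (algebraMap K L (algebraMap O K a)) = algebraMap O' M (ρ a))
    (hgen : Subfield.closure (Set.range ι ∪ Set.range (algebraMap K' M)) = ⊤) :
    Algebra.FormallyUnramified O' (integralClosure O' M) := by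
  classical
  letI : Algebra L M := ι.toAlgebra
  letI : Algebra K M := (ι.comp (algebraMap K L)).toAlgebra
  haveI : IsScalarTower K L M := IsScalarTower.of_algebraMap_eq fun _ => rfl
  let α : M := algebraMap O' M x
  have hπirr : Irreducible π := (IsDiscreteValuationRing.irreducible_iff_uniformizer π).2 hπ
  have hπK : algebraMap O K π ≠ 0 := (map_ne_zero_iff _ (IsFractionRing.injective O K)).2 hπirr.ne_zero
  let c : L := algebraMap K L (algebraMap O K π)
  have hαc : α ^ n = algebraMap L M c := by
    rw [← map_pow, hx]
    exact (hι π).symm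
  have hnL : (n : L) ≠ 0 := by
    have h1 : (n : O) ≠ 0 := fun h0 => hnO (by rw [← map_natCast (residue O), h0, map_zero])
    rw [← map_natCast (algebraMap K L)]
    refine (_root_.map_ne_zero _).2 ?_
    rw [← map_natCast (algebraMap O K)]
    exact (map_ne_zero_iff _ (IsFractionRing.injective O K)).2 h1
  have hroot : aeval α (X ^ n - C c : L[X]) = 0 := by simp [hαc]
  have hint : IsIntegral L α := ⟨_, monic_X_pow_sub_C c hn0.ne', hroot⟩
  have hsep : IsSeparable L α :=
    (separable_X_pow_sub_C c hnL ((_root_.map_ne_zero _).2 hπK)).of_dvd (minpoly.dvd _ _ hroot)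
  let F := IntermediateField.adjoin L ({α} : Set M)
  haveI : FiniteDimensional L F := IntermediateField.adjoin.finiteDimensional hint
  haveI : Algebra.IsSeparable L F := (IntermediateField.isSeparable_adjoin_simple_iff_isSeparable L _).2 hsep
  haveI : FiniteDimensional K F := FiniteDimensional.trans K L F
  haveI : Algebra.IsSeparable K F := Algebra.IsSeparable.trans K L F
  letI : Algebra O F := ((algebraMap K F).comp (algebraMap O K)).toAlgebra
  haveI : IsScalarTower O K F := IsScalarTower.of_algebraMap_eq fun _ => rfl
  let αF : F := IntermediateField.AdjoinSimple.gen L α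
  have hαF : αF ^ n = algebraMap K F (algebraMap O K π) := by
    rw [IsScalarTower.algebraMap_apply K L F]
    refine Subtype.ext ?_
    rw [SubmonoidClass.coe_pow, IntermediateField.AdjoinSimple.coe_gen, hαc]
    rfl
  have hgenF : Subfield.closure (Set.range (algebraMap L F) ∪ {αF}) = ⊤ := by
    have := congrArg IntermediateField.toSubfield
      (IntermediateField.lift_injective F (show IntermediateField.lift (IntermediateField.adjoin L {αF}) =
        IntermediateField.lift (⊤ : IntermediateField L F) by
          rw [IntermediateField.lift_adjoin, Set.image_singleton, IntermediateField.lift_top]; rfl))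
    exact this
  let C0 := AdjoinRoot (X ^ n - C π : O[X])
  let D := integralClosure O F
  have hαint : IsIntegral O αF :=
    ⟨X ^ n - C π, monic_X_pow_sub_C π hn0.ne', by
      rw [eval₂_sub, eval₂_X_pow, eval₂_C, hαF, sub_eq_zero]
      rfl⟩
  let αD : D := ⟨αF, hαint⟩
  have hαD : αD ^ n = algebraMap O D π := Subtype.ext (by push_cast; exact hαF)
  letI : Algebra C0 D := (AdjoinRoot.lift (algebraMap O D) αD (f := X ^ n - C π)
    (by rw [eval₂_sub, eval₂_X_pow, eval₂_C, hαD, sub_self])).toAlgebra
  haveI : IsScalarTower O C0 D := IsScalarTower.of_algebraMap_eq fun a => (AdjoinRoot.lift_of _).symm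
  haveI : Algebra.FormallyUnramified C0 D :=
    formallyUnramified_integralClosure h hπ n hn0 hnO hn F αF hαF hgenF (congrArg Subtype.val (AdjoinRoot.lift_root _))
  haveI : Module.Finite O D := IsIntegralClosure.finite O K F D
  haveI : Module.Finite C0 D := Module.Finite.of_restrictScalars_finite O C0 D
  -- base change to `O'` and take the image in `M`
  letI : Algebra C0 O' := (AdjoinRoot.lift ρ x (f := X ^ n - C π)
    (by rw [eval₂_sub, eval₂_X_pow, eval₂_C, hx, sub_self])).toAlgebra
  letI : Algebra C0 M := ((algebraMap O' M).comp (algebraMap C0 O')).toAlgebra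
  haveI : IsScalarTower C0 O' M := IsScalarTower.of_algebraMap_eq fun _ => rfl
  have hcompat : ((F.val.toRingHom).comp (D.val.toRingHom)).comp (algebraMap C0 D) =
      (algebraMap O' M).comp (algebraMap C0 O') := by
    refine AdjoinRoot.ringHom_ext (RingHom.ext fun a => ?_) ?_
    · show ((algebraMap C0 D (AdjoinRoot.of _ a) : D) : F).1 = algebraMap O' M (algebraMap C0 O' (AdjoinRoot.of _ a))
      have h1 : algebraMap C0 D (AdjoinRoot.of _ a) = algebraMap O D a := AdjoinRoot.lift_of _
      have h2 : algebraMap C0 O' (AdjoinRoot.of _ a) = ρ a := AdjoinRoot.lift_of _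
      rw [h1, h2]
      exact hι a
    · show ((algebraMap C0 D (AdjoinRoot.root _) : D) : F).1 = algebraMap O' M (algebraMap C0 O' (AdjoinRoot.root _))
      have h1 : algebraMap C0 D (AdjoinRoot.root _) = αD := AdjoinRoot.lift_root _
      have h2 : algebraMap C0 O' (AdjoinRoot.root _) = x := AdjoinRoot.lift_root _
      rw [h1, h2]
      rfl
  let valD : D →ₐ[C0] M :=
    { toRingHom := (F.val.toRingHom).comp (D.val.toRingHom)
      commutes' := fun z => RingHom.congr_fun hcompat z }
  let Φ : O' ⊗[C0] D →ₐ[O'] M :=
    Algebra.TensorProduct.lift (Algebra.ofId O' M) valD fun _ _ => Commute.all _ _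
  refine formallyUnramified_of_generated (K' := K') Φ ?_
  haveI : IsFractionRing D F := integralClosure.isFractionRing_of_finite_extension K F
  rw [eq_top_iff, ← hgen, Subfield.closure_le]
  rintro y (⟨l, rfl⟩ | ⟨k, rfl⟩)
  · obtain ⟨a, b, hb, hab⟩ := IsFractionRing.div_surjective D (algebraMap L F l)
    have hl : ι l = ((a : F) : M) / ((b : F) : M) := (congrArg F.val hab).symm.trans (map_div₀ F.val _ _)
    have hmem : ∀ d : D, ((d : F) : M) ∈ Subfield.closure (Set.range Φ ∪ Set.range (algebraMap K' M)) := fun d =>
      Subfield.subset_closure (Or.inl ⟨1 ⊗ₜ d, by simp [Φ]; rfl⟩)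
    rw [hl]
    exact div_mem (hmem a) (hmem b)
  · exact Subfield.subset_closure (Or.inr ⟨k, rfl⟩)

end Groth.Agent.TameKum
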