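import Groth.Prelude.Def_SGA1
import Groth.Agent.TameKum.Local
import Groth.Agent.TameKum.Glue

/-!
# Unramifiedness over a regular base containing roots of the parameters
-/

set_option autoImplicit false
set_option linter.style.haveILetI false

universe u

open IsLocalRing TensorProduct

namespace Groth.Agent.TameKum

/-- The generic fibre of a finite algebra over `A[1/g]` is finite. -/
theorem finite_generic (A : Type u) [CommRing A] [IsDomain A] (g : A) (hg : g ≠ 0) (B : Type u) [CommRing B]
    [Algebra A B] [Algebra (Localization.Away g) B] [IsScalarTower A (Localization.Away g) B]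
    [Module.Finite (Localization.Away g) B] :
    Module.Finite (FractionRing A) (FractionRing A ⊗[A] B) := by
  classical
  let K := FractionRing A
  obtain ⟨σ, hσ⟩ := (inferInstance : Module.Finite (Localization.Away g) B).fg_top
  refine ⟨⟨σ.image fun s => (1 : K) ⊗ₜ[A] s, ?_⟩⟩
  rw [eq_top_iff]
  rintro x -
  induction x using TensorProduct.induction_on with
  | zero => exact Submodule.zero_mem _
  | add a b ha hb => exact Submodule.add_mem _ ha hb
  | tmul k s =>
    have hs : s ∈ Submodule.span (Localization.Away g) (σ : Set B) := hσ ▸ Submodule.mem_top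
    suffices h1 : (1 : K) ⊗ₜ[A] s ∈ Submodule.span K ↑(σ.image fun s => (1 : K) ⊗ₜ[A] s) by
      have := Submodule.smul_mem _ k h1
      rwa [TensorProduct.smul_tmul', smul_eq_mul, mul_one] at this
    clear k
    induction hs using Submodule.span_induction with
    | mem y hy => exact Submodule.subset_span (Finset.mem_image.2 ⟨y, hy, rfl⟩)
    | zero => rw [tmul_zero]; exact Submodule.zero_mem _
    | add y z _ _ hy hz => rw [tmul_add]; exact Submodule.add_mem _ hy hz
    | smul c y _ hy =>
      obtain ⟨k, a, hc⟩ := IsLocalization.Away.surj g c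
      have hgk : algebraMap A K g ^ k ≠ 0 :=
        pow_ne_zero _ ((map_ne_zero_iff _ (IsFractionRing.injective A K)).2 hg)
      have key : (algebraMap A K g ^ k) • ((1 : K) ⊗ₜ[A] (c • y)) =
          algebraMap A K a • ((1 : K) ⊗ₜ[A] y) := by
        rw [← map_pow, algebraMap_smul, algebraMap_smul, ← tmul_smul, ← tmul_smul]
        congr 1
        rw [Algebra.smul_def, Algebra.smul_def, Algebra.smul_def, IsScalarTower.algebraMap_apply A (Localization.Away g) B,
          IsScalarTower.algebraMap_apply A (Localization.Away g) B a, ← hc, map_mul, map_pow]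
        ring
      rw [← inv_smul_smul₀ hgk ((1 : K) ⊗ₜ[A] (c • y)), key]
      exact Submodule.smul_mem _ _ (Submodule.smul_mem _ _ hy)

section Generic

variable {A : Type u} [CommRing A] [IsDomain A] {B : Type u} [CommRing B] [Algebra A B]
  (q : Ideal B) [q.IsPrime] (hq : q.comap (algebraMap A B) = ⊥)

include hq in
theorem injective_residueField : Function.Injective (algebraMap A q.ResidueField) := by
  rw [RingHom.injective_iff_ker_eq_bot, IsScalarTower.algebraMap_eq A B q.ResidueField, ← RingHom.comap_ker,
    Ideal.ker_algebraMap_residueField]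
  exact hq

/-- The structure of `κ(q)` over the fraction field for `q` over `0`. -/
noncomputable def genericAlgebra : Algebra (FractionRing A) q.ResidueField :=
  (IsFractionRing.lift (injective_residueField q hq) : FractionRing A →+* q.ResidueField).toAlgebra

theorem finite_separable_generic (g : A) (hg : g ≠ 0) [Algebra (Localization.Away g) B]
    [IsScalarTower A (Localization.Away g) B] [Module.Finite (Localization.Away g) B]
    [Algebra.Etale (Localization.Away g) B] :
    letI := genericAlgebra q hq
    IsScalarTower A (FractionRing A) q.ResidueField ∧ FiniteDimensional (FractionRing A) q.ResidueField ∧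
      Algebra.IsSeparable (FractionRing A) q.ResidueField ∧
      Module.finrank (FractionRing A) q.ResidueField ≤ Module.finrank (FractionRing A) (FractionRing A ⊗[A] B) := by
  letI := genericAlgebra q hq
  haveI htow : IsScalarTower A (FractionRing A) q.ResidueField :=
    IsScalarTower.of_algebraMap_eq fun a => (IsFractionRing.lift_algebraMap _ a).symm
  let K := FractionRing A
  let L := q.ResidueField
  haveI : Algebra.Etale A B := by
    haveI : Algebra.Etale A (Localization.Away g) := Algebra.Etale.of_isLocalizationAway g
    exact Algebra.Etale.comp A (Localization.Away g) B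
  haveI := finite_generic A g hg B
  let ψ : K ⊗[A] B →ₐ[K] L :=
    Algebra.TensorProduct.lift (Algebra.ofId K L) (IsScalarTower.toAlgHom A B L) fun _ _ => Commute.all _ _
  haveI : Module.Finite K ψ.range := Module.Finite.of_surjective ψ.rangeRestrict.toLinearMap ψ.rangeRestrict_surjective
  have hfield : IsField ψ.range := isField_of_isIntegral_of_isField' (Field.toIsField K)
  have hsurj : Function.Surjective ψ := by
    intro y
    obtain ⟨a, b, hb, rfl⟩ := IsFractionRing.div_surjective (B ⧸ q) y
    obtain ⟨a, rfl⟩ := Ideal.Quotient.mk_surjective a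
    obtain ⟨b, rfl⟩ := Ideal.Quotient.mk_surjective b
    have hmem : ∀ c : B, algebraMap B L c ∈ ψ.range := fun c => ⟨1 ⊗ₜ c, by simp [ψ]⟩
    have hb0 : algebraMap B L b ≠ 0 :=
      (map_ne_zero_iff _ (IsFractionRing.injective (B ⧸ q) L)).2 (nonZeroDivisors.ne_zero hb)
    obtain ⟨z, hz⟩ := hfield.mul_inv_cancel (a := (⟨_, hmem b⟩ : ψ.range)) (fun h => hb0 (congrArg Subtype.val h))
    have hinv : (algebraMap B L b)⁻¹ = (z : L) := inv_eq_of_mul_eq_one_right (congrArg Subtype.val hz)
    have : algebraMap B L a / algebraMap B L b ∈ ψ.range := by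
      rw [div_eq_mul_inv, hinv]; exact mul_mem (hmem a) z.2
    exact this
  haveI : FiniteDimensional K L := Module.Finite.of_surjective ψ.toLinearMap hsurj
  haveI : Algebra.FormallyUnramified K L := Algebra.FormallyUnramified.of_surjective ψ hsurj
  refine ⟨htow, inferInstance, Algebra.FormallyUnramified.isSeparable K L, ?_⟩
  exact ψ.toLinearMap.finrank_range_le.trans' (le_of_eq (by
    have htop : ψ.toLinearMap.range = ⊤ := LinearMap.range_eq_top.2 hsurj
    rw [htop, finrank_top]))

theorem genericResidueMap_eq (P : Ideal A) [P.IsPrime] [Algebra (Localization.AtPrime P) (FractionRing A)]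
    [IsScalarTower A (Localization.AtPrime P) (FractionRing A)] :
    letI := genericAlgebra q hq
    SGA1.genericResidueMap (algebraMap A B) P q hq =
      (algebraMap (FractionRing A) q.ResidueField).comp (algebraMap (Localization.AtPrime P) (FractionRing A)) := by
  letI := genericAlgebra q hq
  refine IsLocalization.ringHom_ext P.primeCompl (RingHom.ext fun a => ?_)
  rw [RingHom.comp_apply, RingHom.comp_apply, RingHom.comp_apply, SGA1.genericResidueMap, IsLocalization.lift_eq,
    ← IsScalarTower.algebraMap_apply A (Localization.AtPrime P) (FractionRing A)]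
  show algebraMap B q.ResidueField (algebraMap A B a) = IsFractionRing.lift (injective_residueField q hq) _
  rw [IsFractionRing.lift_algebraMap, ← IsScalarTower.algebraMap_apply A B q.ResidueField]

end Generic

theorem isDVR_atPrime_span {R : Type u} [CommRing R] [IsDomain R] [IsNoetherianRing R] {x : R} (hx : x ≠ 0)
    [(Ideal.span {x}).IsPrime] :
    ∃ _ : IsDiscreteValuationRing (Localization.AtPrime (Ideal.span {x})),
      maximalIdeal (Localization.AtPrime (Ideal.span {x})) = Ideal.span {algebraMap R _ x} := by
  have hmax : maximalIdeal (Localization.AtPrime (Ideal.span {x})) = Ideal.span {algebraMap R _ x} := by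
    rw [← Localization.AtPrime.map_eq_maximalIdeal, Ideal.map_span, Set.image_singleton]
  haveI : IsNoetherianRing (Localization.AtPrime (Ideal.span {x})) :=
    IsLocalization.isNoetherianRing (Ideal.span {x}).primeCompl _ inferInstance
  have hnf : ¬ IsField (Localization.AtPrime (Ideal.span {x})) := by
    rw [isField_iff_maximalIdeal_eq, hmax, Ideal.span_singleton_eq_bot]
    exact (map_ne_zero_iff _ (IsLocalization.injective _ (Ideal.span {x}).primeCompl_le_nonZeroDivisors)).2 hx
  have hp : (maximalIdeal (Localization.AtPrime (Ideal.span {x}))).IsPrincipal := ⟨⟨_, hmax⟩⟩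
  exact ⟨((IsDiscreteValuationRing.TFAE _ hnf).out 0 4).2 hp, hmax⟩

/-- Exponents killing the ramification along `f`. -/
def Kills {A B : Type u} [CommRing A] [CommRing B] (φ : A →+* B) (f : A) [(Ideal.span {f}).IsPrime] (m : ℕ) : Prop :=
  ∀ (q : Ideal B) [q.IsPrime] (hq : Ideal.comap φ q = ⊥) (V : ValuationSubring q.ResidueField)
    (hV : EtRam.Dominates (Localization.AtPrime (Ideal.span {f}))
      (SGA1.genericResidueMap φ (Ideal.span {f}) q hq) V),
    (letI : Algebra (Localization.AtPrime (Ideal.span {f})) V := (RingHom.codRestrict _ V hV.1).toAlgebra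
     Ideal.ramificationIdx' (maximalIdeal (Localization.AtPrime (Ideal.span {f}))) (maximalIdeal V)) ∣ m

theorem idx_dvd_congr {O F : Type u} [CommRing O] [IsLocalRing O] [Field F] {g g' : O →+* F} (e : g = g') {m : ℕ}
    (h : ∀ (V : ValuationSubring F) (hV : EtRam.Dominates O g V),
      (letI : Algebra O V := (RingHom.codRestrict _ V hV.1).toAlgebra
       Ideal.ramificationIdx' (maximalIdeal O) (maximalIdeal V)) ∣ m) :
    ∀ (V : ValuationSubring F) (hV : EtRam.Dominates O g' V),
      (letI : Algebra O V := (RingHom.codRestrict _ V hV.1).toAlgebra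
       Ideal.ramificationIdx' (maximalIdeal O) (maximalIdeal V)) ∣ m := by
  subst e; exact h

theorem kills_congr {A B : Type u} [CommRing A] [IsDomain A] [CommRing B] [Algebra A B] (f : A)
    [(Ideal.span {f}).IsPrime] [Algebra (Localization.AtPrime (Ideal.span {f})) (FractionRing A)]
    [IsScalarTower A (Localization.AtPrime (Ideal.span {f})) (FractionRing A)] {m : ℕ}
    (h : Kills (algebraMap A B) f m) (q : Ideal B) [q.IsPrime] (hq : q.comap (algebraMap A B) = ⊥) :
    letI := genericAlgebra q hq
    ∀ (V : ValuationSubring q.ResidueField)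
      (hV : EtRam.Dominates (Localization.AtPrime (Ideal.span {f}))
        ((algebraMap (FractionRing A) q.ResidueField).comp
          (algebraMap (Localization.AtPrime (Ideal.span {f})) (FractionRing A))) V),
      (letI : Algebra (Localization.AtPrime (Ideal.span {f})) V := (RingHom.codRestrict _ V hV.1).toAlgebra
       Ideal.ramificationIdx' (maximalIdeal (Localization.AtPrime (Ideal.span {f}))) (maximalIdeal V)) ∣ m := by
  letI := genericAlgebra q hq
  exact idx_dvd_congr (genericResidueMap_eq q hq (Ideal.span {f})) (h q hq)

/-- Local rings of the integral closure over a height one prime. -/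
theorem isUnramifiedAt_of_localization {R M : Type u} [CommRing R] [IsDomain R] [Field M] [Algebra R M]
    (P : Ideal R) [P.IsPrime] [Algebra (Localization.AtPrime P) M] [IsScalarTower R (Localization.AtPrime P) M]
    [Algebra.FormallyUnramified (Localization.AtPrime P) (integralClosure (Localization.AtPrime P) M)]
    (q : Ideal (integralClosure R M)) [q.IsPrime] (hq : q.comap (algebraMap R (integralClosure R M)) = P) :
    Algebra.IsUnramifiedAt R q := by
  let RP := Localization.AtPrime P
  let C := integralClosure R M
  let C' := integralClosure RP M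
  letI : Algebra C C' :=
    (C.val.toRingHom.codRestrict C' fun c => (c.2.tower_top : IsIntegral RP (c : M))).toAlgebra
  haveI : IsScalarTower R C C' := IsScalarTower.of_algebraMap_eq fun r => Subtype.ext rfl
  let MB := Algebra.algebraMapSubmonoid C P.primeCompl
  haveI : IsLocalization MB C' := by
    refine ⟨?_, ?_, fun {a b} hab => ⟨1, ?_⟩⟩
    · rintro ⟨_, r, hr, rfl⟩
      show IsUnit (algebraMap C C' (algebraMap R C r))
      rw [← IsScalarTower.algebraMap_apply R C C', IsScalarTower.algebraMap_apply R RP C']
      exact (IsLocalization.map_units RP (⟨r, hr⟩ : P.primeCompl)).map _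
    · intro z
      obtain ⟨⟨s, hs⟩, hk⟩ := IsIntegral.exists_multiple_integral_of_isLocalization P.primeCompl (z : M) z.2
      refine ⟨⟨⟨_, hk⟩, ⟨algebraMap R C s, s, hs, rfl⟩⟩, Subtype.ext ?_⟩
      show (z : M) * algebraMap R M s = s • (z : M)
      rw [Algebra.smul_def, mul_comm]
    · rw [show a = b from Subtype.ext (congrArg (fun c : C' => (c : M)) hab)]
  haveI : Algebra.FormallyUnramified R RP := Algebra.FormallyUnramified.of_isLocalization P.primeCompl
  haveI : Algebra.FormallyUnramified R C' := Algebra.FormallyUnramified.comp R RP C'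
  have disj : Disjoint (MB : Set C) q := by
    refine Set.disjoint_left.2 ?_
    rintro _ ⟨r, hr, rfl⟩ hr'
    exact hr (hq ▸ hr')
  haveI := IsLocalization.isPrime_of_isPrime_disjoint MB C' q ‹_› disj
  have hc : (q.map (algebraMap C C')).comap (algebraMap C C') = q :=
    IsLocalization.under_map_of_isPrime_disjoint MB C' ‹q.IsPrime› disj
  haveI := IsLocalization.isLocalization_isLocalization_atPrime_isLocalization MB
    (Localization.AtPrime (q.map (algebraMap C C'))) (q.map (algebraMap C C'))
  haveI : Algebra.FormallyUnramified C' (Localization.AtPrime (q.map (algebraMap C C'))) :=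
    Algebra.FormallyUnramified.of_isLocalization (q.map (algebraMap C C')).primeCompl
  haveI : Algebra.FormallyUnramified R (Localization.AtPrime (q.map (algebraMap C C'))) :=
    Algebra.FormallyUnramified.comp R C' _
  have : Algebra.IsUnramifiedAt R ((q.map (algebraMap C C')).comap (algebraMap C C')) :=
    Algebra.FormallyUnramified.of_equiv (R := R) (A := Localization.AtPrime (q.map (algebraMap C C')))
      ((IsLocalization.algEquiv ((q.map (algebraMap C C')).comap (algebraMap C C')).primeCompl
        (Localization.AtPrime (q.map (algebraMap C C')))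
        (Localization.AtPrime ((q.map (algebraMap C C')).comap (algebraMap C C')))).restrictScalars R)
  convert this using 1
  exact hc.symm

theorem isDVR_atPrime_heightOne {R : Type u} [CommRing R] [IsDomain R] [IsNoetherianRing R] [IsIntegrallyClosed R]
    (P : Ideal R) [P.IsPrime] (hP : P.height = 1) : IsDiscreteValuationRing (Localization.AtPrime P) := by
  let L := Localization.AtPrime P
  haveI : IsNoetherianRing L := IsLocalization.isNoetherianRing P.primeCompl L inferInstance
  haveI : IsIntegrallyClosed L := isIntegrallyClosed_of_isLocalization L P.primeCompl P.primeCompl_le_nonZeroDivisors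
  have hm : (maximalIdeal L).height = 1 := by
    rw [← hP, ← IsLocalization.height_under P.primeCompl (maximalIdeal L)]
    congr 1
    exact IsLocalization.AtPrime.comap_maximalIdeal L P
  have hne : maximalIdeal L ≠ ⊥ := fun h => by rw [h, Ideal.height_bot] at hm; exact zero_ne_one hm
  have hnf : ¬ IsField L := fun h => hne (isField_iff_maximalIdeal_eq.1 h)
  have hu : IsIntegrallyClosed L ∧ ∃! Q : Ideal L, Q ≠ ⊥ ∧ Q.IsPrime := by
    refine ⟨inferInstance, maximalIdeal L, ⟨hne, inferInstance⟩, ?_⟩
    rintro Q ⟨hQ0, hQ⟩
    refine (eq_or_lt_of_le (IsLocalRing.le_maximalIdeal hQ.ne_top)).resolve_right fun hlt => ?_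
    have h1 := Ideal.height_strict_mono_of_isPrime hlt
    rw [hm, ENat.lt_one_iff_eq_zero, Ideal.height_eq_zero_iff_eq_bot] at h1
    exact hQ0 h1
  exact ((IsDiscreteValuationRing.TFAE L hnf).out 0 3).2 hu

theorem comap_eq_span_of_height {A R : Type u} [CommRing A] [IsDomain A] [CommRing R] [Algebra A R] (P : Ideal R)
    [P.IsPrime] {f : A} [(Ideal.span {f}).IsPrime] (hf0 : f ≠ 0) (hf : algebraMap A R f ∈ P)
    (h : (P.comap (algebraMap A R)).height ≤ 1) [IsNoetherianRing A] :
    P.comap (algebraMap A R) = Ideal.span {f} := by
  have hle : Ideal.span {f} ≤ P.comap (algebraMap A R) := (Ideal.span_singleton_le_iff_mem _).2 hf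
  refine ((eq_or_lt_of_le hle).resolve_right fun hlt => ?_).symm
  have h1 := lt_of_lt_of_le (Ideal.height_strict_mono_of_isPrime hlt) h
  rw [ENat.lt_one_iff_eq_zero, Ideal.height_eq_zero_iff_eq_bot, Ideal.span_singleton_eq_bot] at h1
  exact hf0 h1

section Unramified

variable {A : Type u} [CommRing A] [IsDomain A] [IsNoetherianRing A] (g : A) (hg : g ≠ 0)
  {B : Type u} [CommRing B] [Algebra A B] [Algebra (Localization.Away g) B]
  [IsScalarTower A (Localization.Away g) B] [Module.Finite (Localization.Away g) B]
  [Algebra.Etale (Localization.Away g) B]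
  {R : Type u} [CommRing R] [IsDomain R] [IsNoetherianRing R] [IsIntegrallyClosed R] [Algebra A R]
  (P : Ideal R) [P.IsPrime] (hP : P.height = 1)
  {M : Type u} [Field M] [Algebra R M] [Algebra (FractionRing R) M] [IsScalarTower R (FractionRing R) M]
  [FiniteDimensional (FractionRing R) M] [Algebra A M] [IsScalarTower A R M]
  (ψ : B →ₐ[A] M) (hgen : Algebra.adjoin (FractionRing R) (Set.range ψ) = ⊤)

include hgen in
theorem closure_eq_top : Subfield.closure (Set.range ψ ∪ Set.range (algebraMap (FractionRing R) M)) = ⊤ := by
  rw [eq_top_iff]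
  rintro y -
  have hy : y ∈ Algebra.adjoin (FractionRing R) (Set.range ψ) := hgen ▸ Algebra.mem_top
  induction hy using Algebra.adjoin_induction with
  | mem z hz => exact Subfield.subset_closure (Or.inl hz)
  | algebraMap k => exact Subfield.subset_closure (Or.inr ⟨k, rfl⟩)
  | add a b _ _ ha hb => exact add_mem ha hb
  | mul a b _ _ ha hb => exact mul_mem ha hb

include hP hgen in
/-- Away from `g` the factors of a cover are unramified in codimension one. -/
theorem unramified_of_notMem (hgP : algebraMap A R g ∉ P)
    (q : Ideal (integralClosure R M)) [q.IsPrime] (hq : q.comap (algebraMap R (integralClosure R M)) = P) :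
    Algebra.IsUnramifiedAt R q := by
  let O' := Localization.AtPrime P
  let Kr := FractionRing R
  haveI : IsDiscreteValuationRing O' := isDVR_atPrime_heightOne P hP
  letI : Algebra O' Kr := IsLocalization.localizationAlgebraOfSubmonoidLe O' Kr P.primeCompl
    (nonZeroDivisors R) P.primeCompl_le_nonZeroDivisors
  haveI : IsScalarTower R O' Kr := IsLocalization.localization_isScalarTower_of_submonoid_le O' Kr _ _ _
  haveI : IsFractionRing O' Kr :=
    IsFractionRing.isFractionRing_of_isDomain_of_isLocalization P.primeCompl O' Kr
  letI : Algebra O' M := ((algebraMap Kr M).comp (algebraMap O' Kr)).toAlgebra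
  haveI : IsScalarTower O' Kr M := IsScalarTower.of_algebraMap_eq fun _ => rfl
  haveI : IsScalarTower R O' M := IsScalarTower.of_algebraMap_eq fun a => by
    show _ = algebraMap Kr M (algebraMap O' Kr (algebraMap R O' a))
    rw [← IsScalarTower.algebraMap_apply R O' Kr, ← IsScalarTower.algebraMap_apply R Kr M]
  haveI : IsScalarTower A O' M := IsScalarTower.of_algebraMap_eq fun a => by
    rw [IsScalarTower.algebraMap_apply A R O', ← IsScalarTower.algebraMap_apply R O' M, ← IsScalarTower.algebraMap_apply A R M]
  have hu : IsUnit (algebraMap A O' g) := by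
    rw [IsScalarTower.algebraMap_apply A R O']
    exact IsLocalization.map_units O' (⟨_, hgP⟩ : P.primeCompl)
  letI : Algebra (Localization.Away g) O' := (IsLocalization.Away.lift g hu).toAlgebra
  haveI : IsScalarTower A (Localization.Away g) O' :=
    IsScalarTower.of_algebraMap_eq fun a => (IsLocalization.Away.lift_eq g hu a).symm
  letI : Algebra (Localization.Away g) M := ((algebraMap O' M).comp (algebraMap (Localization.Away g) O')).toAlgebra
  haveI : IsScalarTower (Localization.Away g) O' M := IsScalarTower.of_algebraMap_eq fun _ => rfl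
  haveI : IsScalarTower A (Localization.Away g) M := IsScalarTower.of_algebraMap_eq fun a => by
    rw [IsScalarTower.algebraMap_apply (Localization.Away g) O' M, ← IsScalarTower.algebraMap_apply A (Localization.Away g) O',
      ← IsScalarTower.algebraMap_apply A O' M]
  let ψ' : B →ₐ[Localization.Away g] M :=
    { toRingHom := ψ.toRingHom
      commutes' := RingHom.congr_fun (IsLocalization.ringHom_ext (Submonoid.powers g)
        (j := ψ.toRingHom.comp (algebraMap (Localization.Away g) B)) (k := algebraMap (Localization.Away g) M)
        (RingHom.ext fun a => by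
          simp only [RingHom.comp_apply]
          rw [← IsScalarTower.algebraMap_apply A (Localization.Away g) B,
            ← IsScalarTower.algebraMap_apply A (Localization.Away g) M]
          exact ψ.commutes a)) }
  let Φ : O' ⊗[Localization.Away g] B →ₐ[O'] M :=
    Algebra.TensorProduct.lift (Algebra.ofId O' M) ψ' fun _ _ => Commute.all _ _
  haveI : Algebra.FormallyUnramified O' (integralClosure O' M) := by
    refine formallyUnramified_of_generated (K' := Kr) Φ ?_
    rw [eq_top_iff, ← closure_eq_top ψ hgen]
    refine Subfield.closure_mono (Set.union_subset_union_left _ ?_)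
    rintro _ ⟨b, rfl⟩
    exact ⟨1 ⊗ₜ b, by simp [Φ]; rfl⟩
  exact isUnramifiedAt_of_localization P q hq

include hg hP hgen in
set_option maxHeartbeats 800000 in
/-- At a height one prime containing a root `x` of `f` of order killing the ramification the factors
of a tame cover are unramified. -/
theorem unramified_of_kills {f : A} [(Ideal.span {f}).IsPrime] (hf0 : f ≠ 0) {n : ℕ} (hn : 0 < n)
    (hnκ : (n : ResidueField (Localization.AtPrime (Ideal.span {f}))) ≠ 0)
    (htame : ∀ (q : Ideal B) [q.IsPrime] (hq : Ideal.comap (algebraMap A B) q = ⊥),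
      EtRam.IsTamelyRamified (Localization.AtPrime (Ideal.span {f}))
        (SGA1.genericResidueMap (algebraMap A B) (Ideal.span {f}) q hq))
    (hkill : Kills (algebraMap A B) f n) (hinj : Function.Injective (algebraMap A R))
    (hPc : P.comap (algebraMap A R) = Ideal.span {f}) (x : R) (hx : x ^ n = algebraMap A R f)
    (q : Ideal (integralClosure R M)) [q.IsPrime] (hq : q.comap (algebraMap R (integralClosure R M)) = P) :
    Algebra.IsUnramifiedAt R q := by
  classical
  let Kr := FractionRing R
  let O := Localization.AtPrime (Ideal.span {f})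
  let O' := Localization.AtPrime P
  obtain ⟨_, hO⟩ := isDVR_atPrime_span hf0
  haveI : IsDiscreteValuationRing O' := isDVR_atPrime_heightOne P hP
  let K := FractionRing A
  letI : Algebra O K := IsLocalization.localizationAlgebraOfSubmonoidLe O K (Ideal.span {f}).primeCompl
    (nonZeroDivisors A) (Ideal.span {f}).primeCompl_le_nonZeroDivisors
  haveI : IsScalarTower A O K := IsLocalization.localization_isScalarTower_of_submonoid_le O K _ _ _
  haveI : IsFractionRing O K :=
    IsFractionRing.isFractionRing_of_isDomain_of_isLocalization (Ideal.span {f}).primeCompl O K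
  letI : Algebra O' Kr := IsLocalization.localizationAlgebraOfSubmonoidLe O' Kr P.primeCompl
    (nonZeroDivisors R) P.primeCompl_le_nonZeroDivisors
  haveI : IsScalarTower R O' Kr := IsLocalization.localization_isScalarTower_of_submonoid_le O' Kr _ _ _
  haveI : IsFractionRing O' Kr :=
    IsFractionRing.isFractionRing_of_isDomain_of_isLocalization P.primeCompl O' Kr
  letI : Algebra O' M := ((algebraMap Kr M).comp (algebraMap O' Kr)).toAlgebra
  haveI : IsScalarTower O' Kr M := IsScalarTower.of_algebraMap_eq fun _ => rfl
  haveI : IsScalarTower R O' M := IsScalarTower.of_algebraMap_eq fun a => by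
    show _ = algebraMap Kr M (algebraMap O' Kr (algebraMap R O' a))
    rw [← IsScalarTower.algebraMap_apply R O' Kr, ← IsScalarTower.algebraMap_apply R Kr M]
  let ρ : O →+* O' := Localization.localRingHom (Ideal.span {f}) P (algebraMap A R) hPc.symm
  -- the field at the generic point of the cover
  let qB : Ideal B := RingHom.ker ψ.toRingHom
  haveI : qB.IsPrime := RingHom.ker_isPrime _
  have hqB : qB.comap (algebraMap A B) = ⊥ := by
    show (RingHom.ker ψ.toRingHom).comap (algebraMap A B) = ⊥
    rw [RingHom.comap_ker, show ψ.toRingHom.comp (algebraMap A B) = algebraMap A M from ψ.comp_algebraMap,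
      ← RingHom.injective_iff_ker_eq_bot]
    intro a b hab
    rw [IsScalarTower.algebraMap_apply A R M, IsScalarTower.algebraMap_apply A R M,
      IsScalarTower.algebraMap_apply R Kr M, IsScalarTower.algebraMap_apply R Kr M] at hab
    exact hinj (IsFractionRing.injective R Kr ((algebraMap Kr M).injective hab))
  letI := genericAlgebra qB hqB
  obtain ⟨_, _, _, -⟩ := finite_separable_generic qB hqB g hg
  let ι : qB.ResidueField →+* M := Ideal.ResidueField.lift qB ψ.toRingHom le_rfl
    (fun b hb => isUnit_iff_ne_zero.2 hb)
  have hι : ∀ b, ι (algebraMap B qB.ResidueField b) = ψ b := fun b => Ideal.ResidueField.lift_algebraMap _ _ _ _ b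
  have hιO : ∀ a : O, ι (algebraMap K qB.ResidueField (algebraMap O K a)) = algebraMap O' M (ρ a) := by
    refine RingHom.congr_fun (IsLocalization.ringHom_ext (Ideal.span {f}).primeCompl
      (j := ι.comp ((algebraMap K qB.ResidueField).comp (algebraMap O K))) (k := (algebraMap O' M).comp ρ)
      (RingHom.ext fun a => ?_))
    simp only [RingHom.comp_apply]
    rw [← IsScalarTower.algebraMap_apply A O K, ← IsScalarTower.algebraMap_apply A K qB.ResidueField,
      IsScalarTower.algebraMap_apply A B qB.ResidueField, hι, ψ.commutes]
    show _ = algebraMap O' M (ρ (algebraMap A O a))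
    rw [show ρ (algebraMap A O a) = algebraMap R O' (algebraMap A R a) from Localization.localRingHom_to_map _ _ _ _ a,
      ← IsScalarTower.algebraMap_apply R O' M, ← IsScalarTower.algebraMap_apply A R M]
  have hgen' : Subfield.closure (Set.range ι ∪ Set.range (algebraMap Kr M)) = ⊤ := by
    rw [eq_top_iff, ← closure_eq_top ψ hgen]
    refine Subfield.closure_mono (Set.union_subset_union_left _ ?_)
    rintro _ ⟨b, rfl⟩
    exact ⟨_, hι b⟩
  have htame' : EtRam.IsTamelyRamified O ((algebraMap K qB.ResidueField).comp (algebraMap O K)) := by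
    rw [← genericResidueMap_eq qB hqB (Ideal.span {f})]
    exact htame qB hqB
  haveI : Algebra.FormallyUnramified O' (integralClosure O' M) := by
    refine unramified_compositum htame' hO n hn hnκ (kills_congr f hkill qB hqB)
      (K' := Kr) ρ (algebraMap R O' x) ?_ ι hιO hgen'
    rw [← map_pow, hx]
    exact (Localization.localRingHom_to_map _ _ _ _ f).symm
  exact isUnramifiedAt_of_localization P q hq

end Unramified

end Groth.Agent.TameKum
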