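import Groth.Agent.TameKum.Divide

/-!
# Absolute Abhyankar lemma for algebras
-/

set_option autoImplicit false
set_option linter.style.haveILetI false
set_option maxHeartbeats 2000000
set_option backward.isDefEq.respectTransparency.types false
set_option backward.isDefEq.respectTransparency false

universe u

open IsLocalRing TensorProduct

namespace Groth.Agent.TameKum

variable {A : Type u} [CommRing A] [IsRegularLocalRing A] [IsDomain A] {B : Type u} [CommRing B] [Algebra A B]
  {r : ℕ} (f : Fin r → A) (hm : ∀ i, f i ∈ maximalIdeal A)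
  (hf : LinearIndependent (ResidueField A) (fun i => (maximalIdeal A).toCotangent ⟨f i, hm i⟩))
  [∀ i, (Ideal.span {f i}).IsPrime]
  [Algebra (Localization.Away (∏ i, f i)) B] [IsScalarTower A (Localization.Away (∏ i, f i)) B]
  [Module.Finite (Localization.Away (∏ i, f i)) B] [Algebra.Etale (Localization.Away (∏ i, f i)) B]
  (htame : SGA1.IsTameAlong f (algebraMap A B))

include hm hf in
theorem param_ne_zero (i : Fin r) : f i ≠ 0 := fun h0 => hf.ne_zero i (by
  rw [show (⟨f i, hm i⟩ : maximalIdeal A) = 0 from Subtype.ext h0, map_zero])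

omit [IsDomain A] in
include hm in
theorem natCast_atPrime_ne_zero (i : Fin r) {m : ℕ} (h : IsUnit (m : ResidueField A)) :
    (m : ResidueField (Localization.AtPrime (Ideal.span {f i}))) ≠ 0 := by
  have hA : IsUnit (m : A) := by
    by_contra hn
    exact h.ne_zero (by rw [← map_natCast (residue A)]; exact (residue_eq_zero_iff _).2 hn)
  rw [← map_natCast (algebraMap A (ResidueField (Localization.AtPrime (Ideal.span {f i}))))]
  exact (hA.map _).ne_zero

include hm hf htame in
/-- Exponents invertible in the residue field which kill the ramification. -/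
theorem exists_exponents :
    ∃ n : Fin r → ℕ, (∀ i, 1 ≤ n i) ∧ (∀ i, IsUnit (n i : ResidueField A)) ∧
      (∀ i, (n i : ResidueField (Localization.AtPrime (Ideal.span {f i}))) ≠ 0) ∧
      ∀ i, Kills (algebraMap A B) (f i) (n i) := by
  classical
  have hg : (∏ i, f i) ≠ 0 := Finset.prod_ne_zero_iff.2 fun i _ => param_ne_zero f hm hf i
  choose e he heκ hek using fun i => exists_kills (f i) (param_ne_zero f hm hf i) (∏ i, f i) hg (fun q _ hq => htame i q hq)
  suffices h : ∀ (N : ℕ) (n : Fin r → ℕ), (∑ i, n i) = N → (∀ i, 1 ≤ n i) →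
      (∀ i, (n i : ResidueField (Localization.AtPrime (Ideal.span {f i}))) ≠ 0) →
      (∀ i, Kills (algebraMap A B) (f i) (n i)) →
      ∃ n : Fin r → ℕ, (∀ i, 1 ≤ n i) ∧ (∀ i, IsUnit (n i : ResidueField A)) ∧
        (∀ i, (n i : ResidueField (Localization.AtPrime (Ideal.span {f i}))) ≠ 0) ∧
        ∀ i, Kills (algebraMap A B) (f i) (n i) by
    exact h _ e rfl he heκ hek
  intro N
  induction N using Nat.strong_induction_on with
  | _ N ih =>
    intro n hN hn hnκ hkill
    by_cases hall : ∀ i, IsUnit (n i : ResidueField A)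
    · exact ⟨n, hn, hall, hnκ, hkill⟩
    push Not at hall
    obtain ⟨i, hi⟩ := hall
    rw [isUnit_iff_ne_zero, not_not] at hi
    obtain ⟨p, hp⟩ := CharP.exists (ResidueField A)
    have hpn : p ∣ n i := (CharP.cast_eq_zero_iff (ResidueField A) p _).1 hi
    have hpp : p.Prime := (CharP.char_is_prime_or_zero (ResidueField A) p).resolve_right fun h0 => by
      have := hn i
      rw [h0, zero_dvd_iff] at hpn
      omega
    refine ih (∑ j, Function.update n i (n i / p) j) ?_ _ rfl (fun j => ?_) (fun j => ?_) fun j => ?_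
    · rw [← hN]
      refine Finset.sum_lt_sum (fun j _ => ?_) ⟨i, Finset.mem_univ _, ?_⟩
      · rcases eq_or_ne j i with rfl | hj
        · rw [Function.update_self]; exact Nat.div_le_self _ _
        · rw [Function.update_of_ne hj]
      · rw [Function.update_self]; exact Nat.div_lt_self (hn i) hpp.one_lt
    · rcases eq_or_ne j i with rfl | hj
      · rw [Function.update_self]; exact Nat.div_pos (Nat.le_of_dvd (hn j) hpn) hpp.pos
      · rw [Function.update_of_ne hj]; exact hn j
    · rcases eq_or_ne j i with rfl | hj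
      · rw [Function.update_self]
        intro h0
        exact hnκ j (by rw [← Nat.div_mul_cancel hpn, Nat.cast_mul, h0, zero_mul])
      · rw [Function.update_of_ne hj]; exact hnκ j
    · rcases eq_or_ne j i with rfl | hj
      · rw [Function.update_self]; exact kills_div f hm hf htame n hn hnκ hkill j p hpp hpn
      · rw [Function.update_of_ne hj]; exact hkill j

/-- Extensions of the pullback of the cover to a base. -/
def Extends (A' B : Type u) [CommRing A'] [CommRing B] [Algebra A A'] [Algebra A B] (g : A) : Prop :=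
  ∃ (E : Type u) (_ : CommRing E) (_ : Algebra A' E) (_ : Algebra E (A' ⊗[A] B))
    (_ : IsScalarTower A' E (A' ⊗[A] B)),
    Algebra.Etale A' E ∧ Module.Finite A' E ∧
    IsLocalization.Away (algebraMap A' E (algebraMap A A' g)) (A' ⊗[A] B)

omit [IsRegularLocalRing A] [IsDomain A] in
theorem extends_of_isUnit (A' : Type u) [CommRing A'] [Algebra A A'] (g : A) (hg : IsUnit g)
    [Algebra (Localization.Away g) B] [IsScalarTower A (Localization.Away g) B]
    [Module.Finite (Localization.Away g) B] [Algebra.Etale (Localization.Away g) B] :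
    Extends A' B g := by
  haveI : Algebra.Etale A (Localization.Away g) := Algebra.Etale.of_isLocalizationAway g
  haveI : Algebra.Etale A B := Algebra.Etale.comp A (Localization.Away g) B
  haveI : Module.Finite A (Localization.Away g) :=
    Module.Finite.of_surjective (Algebra.linearMap A _) (IsLocalization.atUnit A (Localization.Away g) g hg).surjective
  haveI : Module.Finite A B := Module.Finite.trans (Localization.Away g) B
  exact ⟨A' ⊗[A] B, inferInstance, inferInstance, Algebra.id _, IsScalarTower.right, inferInstance, inferInstance,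
    IsLocalization.away_of_isUnit_of_bijective _ ((hg.map _).map _) Function.bijective_id⟩

include hm hf htame in
theorem extends_of_roots (hr : 0 < r) (n : Fin r → ℕ) (hn : ∀ i, 1 ≤ n i)
    (hnκ : ∀ i, (n i : ResidueField (Localization.AtPrime (Ideal.span {f i}))) ≠ 0)
    (hkill : ∀ i, Kills (algebraMap A B) (f i) (n i))
    (A' : Type u) [CommRing A'] [IsRegularLocalRing A'] [IsDomain A'] [IsIntegrallyClosed A'] [Algebra A A']
    [IsLocalHom (algebraMap A A')] (hinj : Function.Injective (algebraMap A A'))
    (hht : ∀ P : Ideal A', P.IsPrime → P.height = 1 → (P.comap (algebraMap A A')).height ≤ 1)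
    (x : Fin r → A') (hx : ∀ i, x i ^ n i = algebraMap A A' (f i)) : Extends A' B (∏ i, f i) := by
  obtain ⟨h1, h2, h3⟩ := etale_base hr f hm (param_ne_zero f hm hf) htame n hn hnκ hkill A' hinj hht x hx
  exact ⟨_, inferInstance, inferInstance, inferInstance, inferInstance, h1, h2, h3⟩

include hm hf htame in
/-- The absolute Abhyankar lemma: the pullback to a suitable Kummer covering extends. -/
theorem exists_extension :
    ∃ n : Fin r → ℕ, (∀ i, 1 ≤ n i) ∧ (∀ i, IsUnit (n i : ResidueField A)) ∧
      Extends (SGA1.kummerAlg A f n) B (∏ i, f i) := by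
  rcases Nat.eq_zero_or_pos r with hr0 | hr
  · refine ⟨fun _ => 1, fun _ => le_rfl, fun i => (hr0 ▸ i).elim0, ?_⟩
    exact extends_of_isUnit _ _ (by subst hr0; simp)
  obtain ⟨n, hn, hu, hnκ, hkill⟩ := exists_exponents f hm hf htame
  refine ⟨n, hn, hu, ?_⟩
  obtain ⟨_, _, _, _, hinj, hht⟩ := isRegular_kummer f hm hf n hn
  haveI : FaithfulSMul A (SGA1.kummerAlg A f n) := (faithfulSMul_iff_algebraMap_injective _ _).2 hinj
  haveI : IsLocalHom (algebraMap A (SGA1.kummerAlg A f n)) := Algebra.IsIntegral.isLocalHom A _
  exact extends_of_roots f hm hf htame hr n hn hnκ hkill _ hinj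
    (fun P hP hP1 => by rw [hht P hP, hP1]) (CAlgH.KummerAlg.root f n) (CAlgH.KummerAlg.root_pow f n)

theorem point_of_isUnit [HenselianLocalRing A] [IsSepClosed (ResidueField A)] (q : Ideal B) [q.IsPrime]
    (hq : q.comap (algebraMap A B) = ⊥) (g : A) (hg : IsUnit g)
    [Algebra (Localization.Away g) B] [IsScalarTower A (Localization.Away g) B]
    [Module.Finite (Localization.Away g) B] [Algebra.Etale (Localization.Away g) B]
    (G : Type u) [CommRing G] [Algebra A G] : Nonempty (B →ₐ[A] G) := by
  haveI : Module.Finite A (Localization.Away g) :=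
    Module.Finite.of_surjective (Algebra.linearMap A _)
      (IsLocalization.atUnit A (Localization.Away g) g hg).surjective
  haveI : Module.Finite A B := Module.Finite.trans (Localization.Away g) B
  haveI : Algebra.Etale A B := by
    haveI : Algebra.Etale A (Localization.Away g) := Algebra.Etale.of_isLocalizationAway g
    exact Algebra.Etale.comp A (Localization.Away g) B
  have hinjB : Function.Injective (algebraMap A (B ⧸ q)) := by
    rw [RingHom.injective_iff_ker_eq_bot, IsScalarTower.algebraMap_eq A B (B ⧸ q), ← RingHom.comap_ker,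
      Ideal.Quotient.algebraMap_eq, Ideal.mk_ker, hq]
  haveI : IsLocalHom (algebraMap A A) := ⟨fun _ h => h⟩
  have hpt : ∀ b, ∃ c : A, algebraMap A (B ⧸ q) c = Ideal.Quotient.mk q b := fun b => by
    obtain ⟨c, hc⟩ := mem_range_of_sepClosed (R := A) (C := A) (fun z => ⟨z, by
      obtain ⟨z, rfl⟩ := residue_surjective z; rfl⟩) (Ideal.Quotient.mkₐ A q) hinjB b
    exact ⟨c, hc.symm⟩
  let e : A ≃ₐ[A] (B ⧸ q) := AlgEquiv.ofBijective (Algebra.ofId A _) ⟨hinjB, fun z => by
    obtain ⟨b, rfl⟩ := Ideal.Quotient.mk_surjective z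
    exact hpt b⟩
  exact ⟨((Algebra.ofId A G).comp e.symm.toAlgHom).comp (Ideal.Quotient.mkₐ A q)⟩

include hm hf htame in
theorem point_of_roots [HenselianLocalRing A] [IsSepClosed (ResidueField A)] (q : Ideal B) [q.IsPrime]
    (hq : q.comap (algebraMap A B) = ⊥) (hr : 0 < r) (n : Fin r → ℕ) (hn : ∀ i, 1 ≤ n i)
    (hnκ : ∀ i, (n i : ResidueField (Localization.AtPrime (Ideal.span {f i}))) ≠ 0)
    (hkill : ∀ i, Kills (algebraMap A B) (f i) (n i))
    (C : Type u) [CommRing C] [IsRegularLocalRing C] [IsDomain C] [IsIntegrallyClosed C] [Algebra A C]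
    [Module.Finite A C] [IsLocalHom (algebraMap A C)] (hinj : Function.Injective (algebraMap A C))
    (hres : Function.Surjective (algebraMap (ResidueField A) (ResidueField C)))
    (hht : ∀ P : Ideal C, P.IsPrime → P.height = 1 → (P.comap (algebraMap A C)).height ≤ 1)
    (x : Fin r → C) (hx : ∀ i, x i ^ n i = algebraMap A C (f i)) :
    Nonempty (B →ₐ[A] Localization.Away (algebraMap A C (∏ i, f i))) := by
  classical
  let g := ∏ i, f i
  have hg : g ≠ 0 := Finset.prod_ne_zero_iff.2 fun i _ => param_ne_zero f hm hf i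
  letI := genericAlgebra q hq
  obtain ⟨_, _, _, -⟩ := finite_separable_generic q hq g hg
  let KC := FractionRing C
  let D := AlgebraicClosure KC
  have hinjD : Function.Injective ((algebraMap KC D).comp ((algebraMap C KC).comp (algebraMap A C))) :=
    (algebraMap KC D).injective.comp ((IsFractionRing.injective C KC).comp hinj)
  letI : Algebra (FractionRing A) D := (IsFractionRing.lift hinjD : FractionRing A →+* D).toAlgebra
  haveI : IsScalarTower A (FractionRing A) D := IsScalarTower.of_algebraMap_eq fun a => by
    rw [show algebraMap (FractionRing A) D (algebraMap A _ a) = _ from IsFractionRing.lift_algebraMap hinjD a,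
      RingHom.comp_apply, RingHom.comp_apply, ← IsScalarTower.algebraMap_apply A C KC,
      ← IsScalarTower.algebraMap_apply A KC D]
  let ψ : B →ₐ[A] D :=
    ((IsAlgClosed.lift : q.ResidueField →ₐ[FractionRing A] D).restrictScalars A).comp (IsScalarTower.toAlgHom A B q.ResidueField)
  haveI : IsScalarTower A C D := IsScalarTower.of_algebraMap_eq (R := A) (S := C) (A := D) fun a => by
    rw [IsScalarTower.algebraMap_apply C KC D, ← IsScalarTower.algebraMap_apply A C KC,
      ← IsScalarTower.algebraMap_apply A KC D]
  have hCD : Function.Injective (algebraMap C D) := by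
    rw [IsScalarTower.algebraMap_eq C KC D]
    exact (algebraMap KC D).injective.comp (IsFractionRing.injective C KC)
  let g' := algebraMap A C g
  have hg' : g' ≠ 0 := (map_ne_zero_iff _ hinj).2 hg
  let G := Localization.Away g'
  have hG : ∀ y : Submonoid.powers g', IsUnit (Algebra.ofId C D (y : C)) := by
    rintro ⟨_, k, rfl⟩
    exact isUnit_iff_ne_zero.2 ((map_ne_zero_iff _ hCD).2 (pow_ne_zero k hg'))
  let ω : G →ₐ[A] D := (IsLocalization.liftAlgHom hG : G →ₐ[C] D).restrictScalars A
  have hωinj : Function.Injective ω := by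
    show Function.Injective (IsLocalization.lift (M := Submonoid.powers g') hG)
    rw [IsLocalization.lift_injective_iff]
    exact fun x y => ⟨fun h => congrArg _ (IsLocalization.injective G
      (powers_le_nonZeroDivisors_of_noZeroDivisors hg') h), fun h => congrArg _ (hCD h)⟩
  have hrange : ∀ b, ψ b ∈ ω.range := fun b => by
    obtain ⟨k, d, hd⟩ := splits_of_kills hr f hm (param_ne_zero f hm hf) htame n hn hnκ hkill C hinj
      hht x hx A hres ψ hCD b
    refine ⟨IsLocalization.mk' G d (⟨_, k, rfl⟩ : Submonoid.powers g'), ?_⟩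
    show IsLocalization.lift (M := Submonoid.powers g') hG _ = ψ b
    rw [IsLocalization.lift_mk'_spec, mul_comm]
    exact hd.symm.trans (by rw [map_pow]; rfl)
  exact ⟨(AlgEquiv.ofInjective ω hωinj).symm.toAlgHom.comp (ψ.codRestrict ω.range hrange)⟩

include hm hf htame in
/-- Over a strictly local base a tame cover has a point over a Kummer covering. -/
theorem exists_point [HenselianLocalRing A] [IsSepClosed (ResidueField A)] (q : Ideal B) [q.IsPrime]
    (hq : q.comap (algebraMap A B) = ⊥) :
    ∃ n : Fin r → ℕ, (∀ i, 1 ≤ n i) ∧ (∀ i, IsUnit (n i : ResidueField A)) ∧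
      Nonempty (B →ₐ[A] Localization.Away (algebraMap A (SGA1.kummerAlg A f n) (∏ i, f i))) := by
  rcases Nat.eq_zero_or_pos r with hr0 | hr
  · exact ⟨fun _ => 1, fun _ => le_rfl, fun i => (hr0 ▸ i).elim0,
      point_of_isUnit q hq (∏ i, f i) (by subst hr0; simp) _⟩
  obtain ⟨n, hn, hu, hnκ, hkill⟩ := exists_exponents f hm hf htame
  refine ⟨n, hn, hu, ?_⟩
  obtain ⟨_, _, _, _, hinj, hht⟩ := isRegular_kummer f hm hf n hn
  haveI : FaithfulSMul A (SGA1.kummerAlg A f n) := (faithfulSMul_iff_algebraMap_injective _ _).2 hinj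
  haveI : IsLocalHom (algebraMap A (SGA1.kummerAlg A f n)) := Algebra.IsIntegral.isLocalHom A _
  exact point_of_roots f hm hf htame q hq hr n hn hnκ hkill _ hinj (residue_surjective_kummer f hm n)
    (fun P hP hP1 => by rw [hht P hP, hP1]) (CAlgH.KummerAlg.root f n) (CAlgH.KummerAlg.root_pow f n)

end Groth.Agent.TameKum
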