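import Groth.Agent.TameKum.Exponents
import Groth.Agent.HenselLib.ExtValuation
import Groth.Agent.HenselLib.MiscB
import Mathlib.RingTheory.KrullDimension.Regular

/-!
# Extending a cover which extends after adjoining a `p`-th root of the parameter
-/

set_option autoImplicit false
set_option linter.style.haveILetI false
set_option maxHeartbeats 2000000
set_option backward.isDefEq.respectTransparency.types false
set_option backward.isDefEq.respectTransparency false

universe u

open IsLocalRing TensorProduct Polynomial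

namespace Groth.Agent.TameKum

theorem notMem_sq_of_regular_quotient {A : Type u} [CommRing A] [IsRegularLocalRing A] [IsDomain A] {f : A}
    (hf0 : f ≠ 0) [IsRegularLocalRing (A ⧸ Ideal.span {f})] : f ∉ maximalIdeal A ^ 2 := by
  classical
  intro hf
  let B := A ⧸ Ideal.span {f}
  let π : A →+* B := Ideal.Quotient.mk (Ideal.span {f})
  have hπ : Function.Surjective π := Ideal.Quotient.mk_surjective
  have hmB : (maximalIdeal A).map π = maximalIdeal B := by
    rcases Ideal.map_eq_top_or_isMaximal_of_surjective π hπ (maximalIdeal.isMaximal A) with h | h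
    · exfalso
      have hker : RingHom.ker π ≤ maximalIdeal A := by
        rw [Ideal.mk_ker, Ideal.span_singleton_le_iff_mem]
        exact Ideal.pow_le_self two_ne_zero hf
      have h1 := congrArg (Ideal.comap π) h
      rw [Ideal.comap_map_of_surjective π hπ, Ideal.comap_top, ← RingHom.ker_eq_comap_bot, sup_eq_left.2 hker] at h1
      exact (maximalIdeal.isMaximal A).ne_top h1
    · exact IsLocalRing.eq_maximalIdeal h
  obtain ⟨s, hs, hspan⟩ := (IsNoetherian.noetherian (maximalIdeal B)).exists_span_finset_card_eq_spanFinrank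
  choose lift hlift using hπ
  let s' : Finset A := s.image lift
  have hle : maximalIdeal A ≤ Ideal.span (s' : Set A) ⊔ maximalIdeal A • maximalIdeal A := by
    intro a ha
    have h1 : π a ∈ Ideal.span (π '' (s' : Set A)) := by
      have h0 : π '' (s' : Set A) = (s : Set B) := by
        simp only [s', Finset.coe_image, Set.image_image, hlift, Set.image_id']
      rw [h0]
      show π a ∈ Submodule.span B (s : Set B)
      rw [hspan, ← hmB]
      exact Ideal.mem_map_of_mem π ha
    rw [← Ideal.map_span, Ideal.mem_map_iff_of_surjective π Ideal.Quotient.mk_surjective] at h1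
    obtain ⟨b, hb, hab⟩ := h1
    rw [← sub_add_cancel a b, add_comm]
    refine Submodule.add_mem_sup hb ?_
    have h2 : a - b ∈ Ideal.span {f} := Ideal.Quotient.eq.1 hab.symm
    rw [smul_eq_mul, ← pow_two]
    exact (Ideal.span_singleton_le_iff_mem _).2 hf h2
  have hgen := Submodule.le_of_le_smul_of_le_jacobson_bot (IsNoetherian.noetherian _)
    (IsLocalRing.maximalIdeal_le_jacobson _) hle
  have heq : maximalIdeal A = Ideal.span (s' : Set A) := by
    refine le_antisymm hgen (Ideal.span_le.2 fun a ha => ?_)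
    obtain ⟨b, hb, rfl⟩ := Finset.mem_image.1 ha
    have hb' : b ∈ maximalIdeal B := hspan ▸ Submodule.subset_span hb
    refine fun hu => hb' ?_
    exact hlift b ▸ hu.map π
  have hcard : (maximalIdeal A).spanFinrank ≤ (maximalIdeal B).spanFinrank := by
    rw [heq]
    refine (Submodule.spanFinrank_span_le_ncard_of_finite (Finset.finite_toSet s')).trans ?_
    rw [Set.ncard_coe_finset, ← hs]
    exact Finset.card_image_le
  have hdim := ringKrullDim_quotient_succ_le_of_nonZeroDivisor (mem_nonZeroDivisors_of_ne_zero hf0)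
  rw [← IsRegularLocalRing.spanFinrank_maximalIdeal (R := A), ← IsRegularLocalRing.spanFinrank_maximalIdeal (R := B)] at hdim
  have hdim' : (maximalIdeal B).spanFinrank + 1 ≤ (maximalIdeal A).spanFinrank := by exact_mod_cast hdim
  omega

variable {A : Type u} [CommRing A] [IsRegularLocalRing A] [IsDomain A] {B : Type u} [CommRing B] [Algebra A B]

/-- A finite unramified algebra over the Kummer algebra giving the pullback of the cover kills the
ramification by the degree. -/
theorem kills_of_extends_root [HenselianLocalRing A] [IsSepClosed (ResidueField A)] (f : A) (hf0 : f ≠ 0)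
    [(Ideal.span {f}).IsPrime] (g : A) (hg : g ≠ 0) [Algebra (Localization.Away g) B]
    [IsScalarTower A (Localization.Away g) B] [Module.Finite (Localization.Away g) B]
    [Algebra.Etale (Localization.Away g) B] (p : ℕ) (hp : 0 < p)
    {C : Type u} [CommRing C] [IsRegularLocalRing C] [IsDomain C] [Algebra A C] [Module.Finite A C]
    [IsLocalHom (algebraMap A C)] (hinj : Function.Injective (algebraMap A C))
    (hres : Function.Surjective (algebraMap (ResidueField A) (ResidueField C)))
    (hht : ∀ P : Ideal C, P.IsPrime → (P.comap (algebraMap A C)).height = P.height)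
    (θ : C) (hθ : θ ^ p = algebraMap A C f) [(Ideal.span {θ}).IsPrime]
    {E : Type u} [CommRing E] [Algebra C E] [Module.Finite C E] [Algebra.FormallyUnramified C E]
    (η : E →ₐ[C] C ⊗[A] B)
    (hsurj : ∀ b : B, ∃ (k : ℕ) (c : E), ((1 : C) ⊗ₜ[A] b) *
      algebraMap C (C ⊗[A] B) (algebraMap A C g) ^ k = η c) :
    Kills (algebraMap A B) f p := by
  classical
  have hθ0 : θ ≠ 0 := fun h0 => hf0 (hinj (by rw [map_zero, ← hθ, h0, zero_pow hp.ne']))
  have hcomap : (Ideal.span {θ}).comap (algebraMap A C) = Ideal.span {f} := by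
    refine comap_eq_span_of_height _ hf0 ?_ ((hht _ inferInstance).le.trans ?_)
    · rw [← hθ]
      exact Ideal.pow_mem_of_mem _ (Ideal.mem_span_singleton_self θ) _ hp
    · refine Ideal.height_le_one_of_isPrincipal_of_mem_minimalPrimes (Ideal.span {θ}) _ ?_
      rw [Ideal.minimalPrimes_eq_subsingleton_self]
      rfl
  intro q _ hq
  letI := genericAlgebra q hq
  obtain ⟨_, _, _, -⟩ := finite_separable_generic q hq g hg
  let O := Localization.AtPrime (Ideal.span {f})
  let K := FractionRing A
  let L := q.ResidueField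
  obtain ⟨_, hO⟩ := isDVR_atPrime_span hf0
  letI : Algebra O K := IsLocalization.localizationAlgebraOfSubmonoidLe O K (Ideal.span {f}).primeCompl
    (nonZeroDivisors A) (Ideal.span {f}).primeCompl_le_nonZeroDivisors
  haveI : IsScalarTower A O K := IsLocalization.localization_isScalarTower_of_submonoid_le O K _ _ _
  haveI : IsFractionRing O K :=
    IsFractionRing.isFractionRing_of_isDomain_of_isLocalization (Ideal.span {f}).primeCompl O K
  refine idx_dvd_congr (genericResidueMap_eq q hq (Ideal.span {f})).symm fun V hV => ?_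
  have hπ : Irreducible (algebraMap A O f) := (IsDiscreteValuationRing.irreducible_iff_uniformizer _).2 hO
  obtain ⟨_, ϖ, u, e, hϖ, he, hu, hidx⟩ := exists_factor (K := K) (L := L) hπ V hV
  rw [hidx]
  let O' := Localization.AtPrime (Ideal.span {θ})
  obtain ⟨_, hO'⟩ := isDVR_atPrime_span hθ0
  let KR := FractionRing C
  letI : Algebra O' KR := IsLocalization.localizationAlgebraOfSubmonoidLe O' KR (Ideal.span {θ}).primeCompl
    (nonZeroDivisors C) (Ideal.span {θ}).primeCompl_le_nonZeroDivisors
  haveI : IsScalarTower C O' KR := IsLocalization.localization_isScalarTower_of_submonoid_le O' KR _ _ _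
  haveI : IsFractionRing O' KR :=
    IsFractionRing.isFractionRing_of_isDomain_of_isLocalization (Ideal.span {θ}).primeCompl O' KR
  let ρ : O →+* O' := Localization.localRingHom _ _ (algebraMap A C) hcomap.symm
  letI : Algebra O O' := ρ.toAlgebra
  haveI : IsLocalHom (algebraMap O O') := Localization.isLocalHom_localRingHom _ _ _ _
  letI : Algebra O KR := ((algebraMap O' KR).comp ρ).toAlgebra
  haveI : IsScalarTower O O' KR := IsScalarTower.of_algebraMap_eq fun _ => rfl
  have hinjKR : Function.Injective ((algebraMap C KR).comp (algebraMap A C)) :=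
    (IsFractionRing.injective C KR).comp hinj
  letI : Algebra K KR := (IsFractionRing.lift hinjKR : K →+* KR).toAlgebra
  have hKKR : ∀ a : A, algebraMap K KR (algebraMap A K a) = algebraMap C KR (algebraMap A C a) := fun a =>
    IsFractionRing.lift_algebraMap _ a
  have hρ : ∀ a : A, ρ (algebraMap A O a) = algebraMap C O' (algebraMap A C a) :=
    fun a => Localization.localRingHom_to_map _ _ _ _ a
  haveI : IsScalarTower O K KR := IsScalarTower.of_algebraMap_eq' (IsLocalization.ringHom_ext
    (Ideal.span {f}).primeCompl (RingHom.ext fun a => by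
      simp only [RingHom.comp_apply]
      rw [← IsScalarTower.algebraMap_apply A O K, hKKR, IsScalarTower.algebraMap_apply O O' KR,
        show algebraMap O O' (algebraMap A O a) = ρ (algebraMap A O a) from rfl, hρ, ← IsScalarTower.algebraMap_apply]))
  have hinjO : Function.Injective (algebraMap O O') := by
    intro a b hab
    refine IsFractionRing.injective O K ((algebraMap K KR).injective ?_)
    rw [← IsScalarTower.algebraMap_apply O K KR, ← IsScalarTower.algebraMap_apply O K KR,
      IsScalarTower.algebraMap_apply O O' KR, IsScalarTower.algebraMap_apply O O' KR, hab]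
  have hgenL : Algebra.adjoin K (Set.range (algebraMap B L)) = ⊤ := by
    rw [eq_top_iff]
    rintro z -
    obtain ⟨a, b, hb, rfl⟩ := IsFractionRing.div_surjective (B ⧸ q) z
    obtain ⟨a, rfl⟩ := Ideal.Quotient.mk_surjective a
    obtain ⟨b, rfl⟩ := Ideal.Quotient.mk_surjective b
    have hmem : ∀ c : B, algebraMap (B ⧸ q) L (Ideal.Quotient.mk q c) ∈ Algebra.adjoin K (Set.range (algebraMap B L)) :=
      fun c => Algebra.subset_adjoin ⟨c, IsScalarTower.algebraMap_apply B (B ⧸ q) L c⟩
    rw [div_eq_mul_inv]
    exact mul_mem (hmem a) (Subalgebra.inv_mem_of_algebraic _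
      (Algebra.IsAlgebraic.isAlgebraic ((⟨_, hmem b⟩ : Algebra.adjoin K (Set.range (algebraMap B L))) : L)))
  obtain ⟨M', _, i₁, j, W', hij, hgen', hdom', hW'⟩ :=
    HenselLib.ExtValuation.exists_compositum (B := O) (C := O') (L := K) (M₀ := KR) (M := L) hinjO hgenL V hV
  letI : Algebra KR M' := i₁.toAlgebra
  letI : Algebra C M' := (i₁.comp (algebraMap C KR)).toAlgebra
  letI : Algebra A M' := ((algebraMap C M').comp (algebraMap A C)).toAlgebra
  haveI : IsScalarTower A C M' := IsScalarTower.of_algebraMap_eq (R := A) (S := C) (A := M') fun _ => rfl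
  have hjA : ∀ a : A, j (algebraMap B L (algebraMap A B a)) = algebraMap A M' a := fun a => by
    rw [← IsScalarTower.algebraMap_apply A B L, IsScalarTower.algebraMap_apply A K L]
    show _ = i₁ (algebraMap C KR (algebraMap A C a))
    rw [← hKKR]
    exact (RingHom.congr_fun hij _).symm
  let ψ : B →ₐ[A] M' := { toRingHom := j.comp (algebraMap B L), commutes' := hjA }
  have hCM : Function.Injective (algebraMap C M') := i₁.injective.comp (IsFractionRing.injective C KR)
  let Ψ : C ⊗[A] B →ₐ[C] M' := Algebra.TensorProduct.lift (Algebra.ofId C M') ψ fun _ _ => Commute.all _ _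
  have hsur : Function.Surjective i₁ := by
    intro z
    have hz : z ∈ (letI := i₁.toAlgebra; Algebra.adjoin KR (j '' Set.range (algebraMap B L))) := hgen' ▸ Algebra.mem_top
    induction hz using Algebra.adjoin_induction with
    | mem w hw =>
      obtain ⟨_, ⟨b, rfl⟩, rfl⟩ := hw
      obtain ⟨k, c, hkc⟩ := hsurj b
      obtain ⟨d, hd⟩ := mem_range_of_sepClosed (R := A) hres
        (Ψ.comp η) hCM c
      have h1 := congrArg Ψ hkc
      rw [map_mul, map_pow, Ψ.commutes] at h1
      have h2 : Ψ ((1 : C) ⊗ₜ[A] b) = j (algebraMap B L b) := by simp [Ψ]; rfl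
      rw [h2, show Ψ (η c) = algebraMap C M' d from hd] at h1
      have hne : algebraMap C M' (algebraMap A C g) ^ k ≠ 0 :=
        pow_ne_zero _ ((map_ne_zero_iff _ hCM).2 ((map_ne_zero_iff _ hinj).2 hg))
      refine ⟨algebraMap C KR d / algebraMap C KR (algebraMap A C g) ^ k, ?_⟩
      rw [map_div₀, map_pow, eq_div_of_mul_eq hne h1]
      rfl
    | algebraMap a => exact ⟨a, rfl⟩
    | add a b _ _ ha hb =>
      obtain ⟨a', rfl⟩ := ha
      obtain ⟨b', rfl⟩ := hb
      exact ⟨a' + b', map_add _ _ _⟩
    | mul a b _ _ ha hb =>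
      obtain ⟨a', rfl⟩ := ha
      obtain ⟨b', rfl⟩ := hb
      exact ⟨a' * b', map_mul _ _ _⟩
  let e₁ : KR ≃+* M' := RingEquiv.ofBijective i₁ ⟨i₁.injective, hsur⟩
  let W : ValuationSubring KR := W'.comap i₁
  have hWC : EtRam.Dominates O' (algebraMap O' KR) W :=
    ⟨fun a => hdom'.1 a, fun a ha => by
      have hmem : algebraMap O' KR a ∈ W := hdom'.1 a
      rw [← W.valuation_lt_one_iff (⟨_, hmem⟩ : W)]
      have h1 := (W'.valuation_lt_one_iff (⟨_, hdom'.1 a⟩ : W')).2 (hdom'.2 a ha)
      refine fun hu => h1 ?_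
      exact hu.map ((i₁.comp W.subtype).codRestrict W' fun w => w.2)⟩
  refine dvd_of_pow V W hWC (e₁.symm.toRingHom.comp j) ?_ ρ
    ((algebraMap K L).comp (algebraMap O K)) ?_ (algebraMap A O f) (algebraMap C O' θ)
    ((IsDiscreteValuationRing.irreducible_iff_uniformizer _).2 hO') p ?_ ϖ u e he
    (congrArg Subtype.val hu)
  · rw [← hW']
    ext z
    show i₁ (e₁.symm (j z)) ∈ W' ↔ j z ∈ W'
    rw [show i₁ (e₁.symm (j z)) = j z from e₁.apply_symm_apply _]
  · intro a
    refine e₁.injective ?_
    show e₁ (e₁.symm _) = i₁ _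
    rw [e₁.apply_symm_apply, show algebraMap O' KR (ρ a) = algebraMap K KR (algebraMap O K a) from
      IsScalarTower.algebraMap_apply O K KR a]
    exact (RingHom.congr_fun hij _).symm
  · rw [hρ, ← hθ, map_pow]

theorem isTamelyRamified_of_charZero {O L : Type u} [CommRing O] [IsDomain O] [IsDiscreteValuationRing O]
    {K : Type u} [Field K] [Algebra O K] [IsFractionRing O K] [Field L] [Algebra K L] [FiniteDimensional K L]
    [Algebra.IsSeparable K L] [CharZero (ResidueField O)] :
    EtRam.IsTamelyRamified O ((algebraMap K L).comp (algebraMap O K)) := by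
  intro V hV
  letI : Algebra O V := (RingHom.codRestrict _ V hV.1).toAlgebra
  intro _
  haveI := CohDer1.TameTower.isDVR_of_dominates O K L V hV
  letI : Algebra O L := ((algebraMap K L).comp (algebraMap O K)).toAlgebra
  haveI : IsScalarTower O K L := IsScalarTower.of_algebraMap_eq fun _ => rfl
  haveI : IsScalarTower O V L := IsScalarTower.of_algebraMap_eq fun _ => rfl
  haveI := (HenselLib.MiscB.ramification_mul_inertia_le O V (K := K) (L := L)
    (fun a b h => IsFractionRing.injective O K ((algebraMap K L).injective (congrArg Subtype.val h)))).1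
  refine ⟨inferInstance, fun p hp hc => ?_⟩
  haveI := hc
  haveI := CharP.ofCharZero (ResidueField O)
  exact absurd (CharP.eq (ResidueField O) hc inferInstance) hp.ne_zero

/-- A cover extending after adjoining a `p`-th root of a parameter extends. -/
theorem extends_of_kummer [HenselianLocalRing A] [IsSepClosed (ResidueField A)] {r : ℕ} (f : Fin r → A)
    (hm : ∀ i, f i ∈ maximalIdeal A)
    (hf : LinearIndependent (ResidueField A) (fun i => (maximalIdeal A).toCotangent ⟨f i, hm i⟩))
    [∀ i, (Ideal.span {f i}).IsPrime]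
    [Algebra (Localization.Away (∏ i, f i)) B] [IsScalarTower A (Localization.Away (∏ i, f i)) B]
    [Module.Finite (Localization.Away (∏ i, f i)) B] [Algebra.Etale (Localization.Away (∏ i, f i)) B]
    (hr : 0 < r) (htame : SGA1.IsTameAlong f (algebraMap A B)) (p : ℕ) (hp : p.Prime) [CharP (ResidueField A) p]
    (hkillp : ∀ i, Kills (algebraMap A B) (f i) p) :
    Algebra.Etale A (integralClosure A (A ⊗[A] B)) ∧ Module.Finite A (integralClosure A (A ⊗[A] B)) ∧
      IsLocalization.Away (algebraMap A (integralClosure A (A ⊗[A] B)) (algebraMap A A (∏ i, f i))) (A ⊗[A] B) := by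
  obtain ⟨n, hn, hu, hnκ, hkill⟩ := exists_exponents f hm hf htame
  have hcop : ∀ i, Nat.Coprime (n i) p := fun i => by
    refine Nat.Coprime.symm ((Nat.Prime.coprime_iff_not_dvd hp).2 fun hd => (hu i).ne_zero ?_)
    exact (CharP.cast_eq_zero_iff (ResidueField A) p _).2 hd
  have h1 : ∀ i, Kills (algebraMap A B) (f i) 1 := fun i q _ hq V hV =>
    (hcop i) ▸ Nat.dvd_gcd (hkill i q hq V hV) (hkillp i q hq V hV)
  haveI := CAlgH3.ufm_of_regular A
  haveI : IsLocalHom (algebraMap A A) := ⟨fun _ h => h⟩
  exact etale_base hr f hm (param_ne_zero f hm hf) htame (fun _ => 1) (fun _ => le_rfl)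
    (fun i => by rw [Nat.cast_one]; exact one_ne_zero) h1 A Function.injective_id
    (fun P _ hP => by rw [Algebra.algebraMap_self, Ideal.comap_id]; exact hP.le) f (fun i => pow_one _)

end Groth.Agent.TameKum

namespace Groth.Agent.TameKum

variable {A : Type u} [CommRing A] [IsRegularLocalRing A] [IsDomain A] {B : Type u} [CommRing B] [Algebra A B]

theorem extends_of_kummer' [HenselianLocalRing A] [IsSepClosed (ResidueField A)] {r : ℕ} (f : Fin r → A)
    (hm : ∀ i, f i ∈ maximalIdeal A)
    (hf : LinearIndependent (ResidueField A) (fun i => (maximalIdeal A).toCotangent ⟨f i, hm i⟩))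
    [∀ i, (Ideal.span {f i}).IsPrime] (g : A) (hgp : g = ∏ i, f i)
    [Algebra (Localization.Away g) B] [IsScalarTower A (Localization.Away g) B]
    [Module.Finite (Localization.Away g) B] [Algebra.Etale (Localization.Away g) B]
    (hr : 0 < r) (htame : SGA1.IsTameAlong f (algebraMap A B)) (p : ℕ) (hp : p.Prime) [CharP (ResidueField A) p]
    (hkillp : ∀ i, Kills (algebraMap A B) (f i) p) :
    Algebra.Etale A (integralClosure A (A ⊗[A] B)) ∧ Module.Finite A (integralClosure A (A ⊗[A] B)) ∧
      IsLocalization.Away (algebraMap A (integralClosure A (A ⊗[A] B)) g) (A ⊗[A] B) := by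
  subst hgp
  exact extends_of_kummer f hm hf hr htame p hp hkillp

theorem charZero_residueField {f : A} [(Ideal.span {f}).IsPrime] (hfm : f ∈ maximalIdeal A) (p : ℕ) (hp : p.Prime)
    [CharP (ResidueField A) p] (hpf : (p : A) ∉ Ideal.span {f}) :
    CharZero (ResidueField (Localization.AtPrime (Ideal.span {f}))) := by
  let O := Localization.AtPrime (Ideal.span {f})
  obtain ⟨l, hl⟩ := CharP.exists (ResidueField O)
  rcases CharP.char_is_prime_or_zero (ResidueField O) l with hlp | rfl
  · exfalso
    have hmem : (l : A) ∈ Ideal.span {f} := by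
      rw [← IsLocalization.AtPrime.to_map_mem_maximal_iff O (Ideal.span {f}) (l : A), map_natCast, ← residue_eq_zero_iff,
        map_natCast]
      exact CharP.cast_eq_zero _ l
    have h0 : (l : ResidueField A) = 0 := by
      rw [← map_natCast (residue A), residue_eq_zero_iff]
      exact (Ideal.span_singleton_le_iff_mem _).2 hfm hmem
    exact hpf ((Nat.prime_dvd_prime_iff_eq hp hlp).1 ((CharP.cast_eq_zero_iff (ResidueField A) p l).1 h0) ▸ hmem)
  · exact CharP.charP_to_charZero _

/-- A cover of the complement of a smooth divisor of residue characteristic zero extending after adjoining a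
`p`-th root of its equation extends. -/
theorem exists_extension_of_root [HenselianLocalRing A] [IsSepClosed (ResidueField A)]
    (p : ℕ) (hp : p.Prime) [CharP (ResidueField A) p] (f : A) (hf0 : f ≠ 0) [hreg : IsRegularLocalRing (A ⧸ Ideal.span {f})]
    (hpf : (p : A) ∉ Ideal.span {f}) [Algebra (Localization.Away f) B]
    [IsScalarTower A (Localization.Away f) B] [Module.Finite (Localization.Away f) B]
    [Algebra.Etale (Localization.Away f) B] {A1 C₁ : Type u} [CommRing A1] [Algebra A A1] [CommRing C₁] [Algebra A1 C₁]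
    [Module.Finite A1 C₁] [Algebra.Etale A1 C₁]
    (e : SGA1.kummerAlg A (fun _ : Fin 1 => f) (fun _ => p) ≃ₐ[A] A1)
    (iso : Localization.Away (algebraMap A1 C₁ (algebraMap A A1 f)) ≃ₐ[A1] A1 ⊗[A] B) :
    ∃ (C : Type u) (_ : CommRing C) (_ : Algebra A C), Module.Finite A C ∧ Algebra.Etale A C ∧
      Nonempty (Localization.Away (algebraMap A C f) ≃ₐ[A] B) := by
  classical
  have hfm : f ∈ maximalIdeal A := fun hu => by
    have h1 : (Ideal.span {f}) = ⊤ := Ideal.span_singleton_eq_top.2 hu
    exact (Ideal.Quotient.nontrivial_iff.1 (inferInstance : Nontrivial (A ⧸ Ideal.span {f}))) h1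
  haveI : (Ideal.span {f}).IsPrime := by
    haveI := CAlgH3.isDomain_of_isRegularLocalRing (A ⧸ Ideal.span {f})
    exact (Ideal.Quotient.isDomain_iff_prime _).1 inferInstance
  haveI := charZero_residueField hfm p hp hpf
  have hf2 := notMem_sq_of_regular_quotient hf0
  have hm : ∀ _ : Fin 1, f ∈ maximalIdeal A := fun _ => hfm
  have hf : LinearIndependent (ResidueField A) fun k : Fin 1 => (maximalIdeal A).toCotangent ⟨f, hm k⟩ :=
    linearIndependent_unique_iff.2 fun h => hf2 ((Ideal.toCotangent_eq_zero _ _).1 h)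
  have htame : SGA1.IsTameAlong (fun _ : Fin 1 => f) (algebraMap A B) := by
    intro i q _ hq
    letI := genericAlgebra q hq
    obtain ⟨_, _, _, -⟩ := finite_separable_generic q hq f hf0
    let O := Localization.AtPrime (Ideal.span {f})
    let K := FractionRing A
    obtain ⟨_, hO⟩ := isDVR_atPrime_span hf0
    letI : Algebra O K := IsLocalization.localizationAlgebraOfSubmonoidLe O K (Ideal.span {f}).primeCompl
      (nonZeroDivisors A) (Ideal.span {f}).primeCompl_le_nonZeroDivisors
    haveI : IsScalarTower A O K := IsLocalization.localization_isScalarTower_of_submonoid_le O K _ _ _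
    haveI : IsFractionRing O K :=
      IsFractionRing.isFractionRing_of_isDomain_of_isLocalization (Ideal.span {f}).primeCompl O K
    show EtRam.IsTamelyRamified O (SGA1.genericResidueMap (algebraMap A B) (Ideal.span {f}) q hq)
    rw [genericResidueMap_eq q hq (Ideal.span {f})]
    exact isTamelyRamified_of_charZero (O := O) (K := K)
  let C := SGA1.kummerAlg A (fun _ : Fin 1 => f) (fun _ => p)
  obtain ⟨_, _, _, _, hinj, hht⟩ := isRegular_kummer (fun _ : Fin 1 => f) hm hf (fun _ => p) (fun _ => hp.pos)
  haveI : FaithfulSMul A C := (faithfulSMul_iff_algebraMap_injective _ _).2 hinj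
  haveI : IsLocalHom (algebraMap A C) := Algebra.IsIntegral.isLocalHom A C
  let θ : C := CAlgH.KummerAlg.root (fun _ : Fin 1 => f) (fun _ => p) 0
  have hθ : θ ^ p = algebraMap A C f := CAlgH.KummerAlg.root_pow (fun _ : Fin 1 => f) (fun _ => p) 0
  haveI : (Ideal.span {θ}).IsPrime := by
    have hθm : θ ∈ maximalIdeal C := fun hu => (mem_maximalIdeal _).1 hfm
      (isUnit_of_map_unit (algebraMap A C) f (hθ ▸ hu.pow _))
    haveI := (CAlgH3.regular_quotient_of_notMem_sq hθm
      (root_notMem_sq (fun _ : Fin 1 => f) hm hf (fun _ => p) (fun _ => hp.pos) 0)).1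
    haveI := CAlgH3.isDomain_of_isRegularLocalRing (C ⧸ Ideal.span {θ})
    exact (Ideal.Quotient.isDomain_iff_prime _).1 inferInstance
  letI : Algebra C A1 := e.toAlgHom.toRingHom.toAlgebra
  letI : Algebra C C₁ := ((algebraMap A1 C₁).comp e.toAlgHom.toRingHom).toAlgebra
  haveI : IsScalarTower C A1 C₁ := IsScalarTower.of_algebraMap_eq (R := C) (S := A1) (A := C₁) fun _ => rfl
  haveI : Module.Finite C A1 := Module.Finite.of_surjective (Algebra.linearMap C A1) e.surjective
  haveI : Module.Finite C C₁ := Module.Finite.trans A1 C₁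
  haveI : Algebra.FormallyUnramified C A1 :=
    Algebra.FormallyUnramified.of_surjective (Algebra.ofId C A1) e.surjective
  haveI : Algebra.FormallyUnramified C C₁ := Algebra.FormallyUnramified.comp C A1 C₁
  let G := Localization.Away (algebraMap A1 C₁ (algebraMap A A1 f))
  let T : A1 ⊗[A] B →ₐ[A] C ⊗[A] B := Algebra.TensorProduct.map e.symm.toAlgHom (AlgHom.id A B)
  let η : C₁ →ₐ[C] C ⊗[A] B :=
    { toRingHom := T.toRingHom.comp ((iso.toAlgHom.toRingHom).comp (algebraMap C₁ G))
      commutes' := fun c => by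
        show T (iso (algebraMap C₁ G (algebraMap A1 C₁ (e c)))) = algebraMap C (C ⊗[A] B) c
        rw [← IsScalarTower.algebraMap_apply A1 C₁ G, iso.commutes]
        show T (e c ⊗ₜ 1) = c ⊗ₜ 1
        exact (Algebra.TensorProduct.map_tmul _ _ _ _).trans (congrArg (· ⊗ₜ[A] (1 : B)) (e.symm_apply_apply c)) }
  have hkill : Kills (algebraMap A B) f p := by
    refine kills_of_extends_root f hf0 f hf0 p hp.pos hinj
      (residue_surjective_kummer (fun _ : Fin 1 => f) hm (fun _ => p)) hht θ hθ η fun b => ?_
    obtain ⟨k, c, hc⟩ := IsLocalization.Away.surj (algebraMap A1 C₁ (algebraMap A A1 f)) (iso.symm ((1 : A1) ⊗ₜ[A] b))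
    refine ⟨k, c, ?_⟩
    have h1 := congrArg (fun z => T (iso z)) hc
    simp only [map_mul, map_pow, AlgEquiv.apply_symm_apply] at h1
    rw [← IsScalarTower.algebraMap_apply A1 C₁ G, iso.commutes] at h1
    refine (Eq.trans ?_ h1)
    congr 1
    · exact ((Algebra.TensorProduct.map_tmul _ _ _ _).trans (by rw [map_one]; rfl)).symm
    · refine Eq.trans (congrArg (· ^ k) ?_) (map_pow T.toRingHom (algebraMap A1 (A1 ⊗[A] B) (algebraMap A A1 f)) k).symm
      show (algebraMap A C f) ⊗ₜ[A] (1 : B) = T (algebraMap A A1 f ⊗ₜ[A] (1 : B))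
      exact ((Algebra.TensorProduct.map_tmul _ _ _ _).trans
        (congrArg (· ⊗ₜ[A] (1 : B)) (e.symm.commutes f))).symm
  obtain ⟨h1, h2, h3⟩ := extends_of_kummer' (fun _ : Fin 1 => f) hm hf f (by simp) one_pos htame p hp fun _ => hkill
  exact ⟨_, inferInstance, inferInstance, h2, h1,
    ⟨((IsLocalization.algEquiv (Submonoid.powers (algebraMap A (integralClosure A (A ⊗[A] B)) f))
      (Localization.Away (algebraMap A (integralClosure A (A ⊗[A] B)) f)) (A ⊗[A] B)).restrictScalars A).trans
        (Algebra.TensorProduct.lid A B)⟩⟩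

theorem root_pow' {A : Type u} [CommRing A] (f : A) (p : ℕ) :
    (AdjoinRoot.root (X ^ p - C f : A[X])) ^ p = algebraMap A (AdjoinRoot (X ^ p - C f : A[X])) f := by
  have := AdjoinRoot.eval₂_root (X ^ p - C f : A[X])
  rw [eval₂_sub, eval₂_X_pow, eval₂_C, sub_eq_zero] at this
  exact this

/-- The identification of the two forms of adjoining a root. -/
theorem nonempty_kummer_equiv {A : Type u} [CommRing A] (f : A) (p : ℕ) :
    Nonempty (SGA1.kummerAlg A (fun _ : Fin 1 => f) (fun _ => p) ≃ₐ[A] AdjoinRoot (X ^ p - C f : A[X])) := by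
  obtain ⟨φ, hφ⟩ := CAlgH.KummerAlg.exists_algHom (fun _ : Fin 1 => f) (fun _ => p)
    (S := AdjoinRoot (X ^ p - C f : A[X])) (fun _ => AdjoinRoot.root _) (fun _ => root_pow' f p)
  let ψ : AdjoinRoot (X ^ p - C f : A[X]) →ₐ[A] SGA1.kummerAlg A (fun _ : Fin 1 => f) (fun _ => p) :=
    AdjoinRoot.liftAlgHom _ (Algebra.ofId A _) (CAlgH.KummerAlg.root (fun _ : Fin 1 => f) (fun _ => p) 0) (by
      rw [eval₂_sub, eval₂_X_pow, eval₂_C, sub_eq_zero]
      exact CAlgH.KummerAlg.root_pow (fun _ : Fin 1 => f) (fun _ => p) 0)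
  have hψ : ψ (AdjoinRoot.root _) = CAlgH.KummerAlg.root (fun _ : Fin 1 => f) (fun _ => p) 0 :=
    AdjoinRoot.liftAlgHom_root _ _ _ _
  refine ⟨AlgEquiv.ofAlgHom φ ψ (AdjoinRoot.algHom_ext ?_)
    (CAlgH.KummerAlg.algHom_ext' (fun _ : Fin 1 => f) (fun _ => p) fun k => ?_)⟩
  · rw [AlgHom.comp_apply, hψ, hφ]; rfl
  · rw [AlgHom.comp_apply, hφ, hψ, AlgHom.id_apply, Subsingleton.elim k 0]

end Groth.Agent.TameKum
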