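import Groth.Prelude.Def_SGA1
import Groth.Prelude.Def_FEt
import Groth.Agent.TameKum.Exponents
import Mathlib.AlgebraicGeometry.Restrict
import Mathlib.AlgebraicGeometry.AffineScheme
import Mathlib.AlgebraicGeometry.Morphisms.Etale
import Mathlib.Algebra.Category.Ring.Constructions

/-!
# Covers of the complement of a divisor in an affine scheme
-/

set_option autoImplicit false
set_option linter.style.haveILetI false
set_option maxHeartbeats 800000
set_option backward.isDefEq.respectTransparency.types false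
set_option backward.isDefEq.respectTransparency false

universe u

open CategoryTheory CategoryTheory.Limits AlgebraicGeometry TensorProduct

namespace Groth.Agent.TameKum

variable {A : Type u} [CommRing A] (g : A)

/-- The structure map of the algebra of functions of a cover of `D(g)`. -/
noncomputable abbrev coverHom (V : FEt.Cat ((SGA1.specBasicOpen A g) : Scheme.{u})) :
    A →+* Γ(V.left, ⊤) :=
  ((V.hom ≫ (SGA1.specBasicOpen A g).ι).appTop).hom.comp (Scheme.ΓSpecIso (CommRingCat.of A)).inv.hom

theorem eq_isoSpec_hom_comp {X : Scheme.{u}} [IsAffine X] {R : CommRingCat.{u}} (k : X ⟶ Spec R) :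
    k = X.isoSpec.hom ≫ Spec.map ((Scheme.ΓSpecIso R).inv ≫ k.appTop) := by
  rw [Spec.map_comp, Scheme.isoSpec_hom_naturality_assoc]
  simp [Scheme.isoSpec_Spec_hom, ← Spec.map_comp]

/-- The identification of `D(g)` with the spectrum of the localisation. -/
noncomputable def openIso : ((SGA1.specBasicOpen A g) : Scheme.{u}) ≅ Spec (CommRingCat.of (Localization.Away g)) :=
  basicOpenIsoSpecAway (R := CommRingCat.of A) g

theorem openIso_hom : (openIso g).hom ≫ Spec.map (CommRingCat.ofHom (algebraMap A (Localization.Away g))) =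
    (SGA1.specBasicOpen A g).ι :=
  basicOpenIsoSpecAway_hom_SpecMap (R := CommRingCat.of A) g

theorem cover_affine (V : FEt.Cat ((SGA1.specBasicOpen A g) : Scheme.{u})) :
    ∃ _ : IsAffine V.left, ∃ θ : Localization.Away g →+* Γ(V.left, ⊤),
      θ.comp (algebraMap A (Localization.Away g)) = coverHom g V ∧ θ.Finite ∧ θ.Etale ∧
      V.hom ≫ (SGA1.specBasicOpen A g).ι = V.left.isoSpec.hom ≫ Spec.map (CommRingCat.ofHom (coverHom g V)) := by
  haveI : IsFinite V.hom := V.prop.1
  haveI : Etale V.hom := V.prop.2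
  haveI : IsAffine ((SGA1.specBasicOpen A g) : Scheme.{u}) := IsAffine.of_isIso (openIso g).hom
  haveI : IsAffine V.left := @isAffine_of_isAffineHom _ _ V.hom inferInstance ‹IsAffine ((SGA1.specBasicOpen A g) : Scheme.{u})›
  haveI : IsAffine ((𝟭 Scheme.{u}).obj V.left) := ‹IsAffine V.left›
  let h := V.hom ≫ (openIso g).hom
  haveI : IsFinite h := inferInstance
  haveI : Etale h := inferInstance
  let R := CommRingCat.of (Localization.Away g)
  let θ : R ⟶ Γ(V.left, ⊤) := (Scheme.ΓSpecIso R).inv ≫ h.appTop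
  have hcomp : CommRingCat.ofHom (algebraMap A (Localization.Away g)) ≫ θ = CommRingCat.ofHom (coverHom g V) := by
    show _ ≫ (Scheme.ΓSpecIso R).inv ≫ h.appTop = (Scheme.ΓSpecIso (CommRingCat.of A)).inv ≫ (V.hom ≫ (SGA1.specBasicOpen A g).ι).appTop
    rw [← openIso_hom g, Scheme.ΓSpecIso_inv_naturality_assoc]
    simp only [h, Scheme.Hom.comp_appTop, Category.assoc]
  refine ⟨inferInstance, θ.hom, congrArg CommRingCat.Hom.hom hcomp, ?_, ?_, ?_⟩
  · exact RingHom.finite_respectsIso.2 h.appTop.hom (Scheme.ΓSpecIso R).symm.commRingCatIsoToRingEquiv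
      (h.finite_app ⊤ (isAffineOpen_top _))
  · exact RingHom.Etale.respectsIso.2 h.appTop.hom (Scheme.ΓSpecIso R).symm.commRingCatIsoToRingEquiv
      (HasRingHomProperty.appTop @Etale h inferInstance)
  · exact @eq_isoSpec_hom_comp V.left ‹IsAffine V.left› (CommRingCat.of A) (V.hom ≫ (SGA1.specBasicOpen A g).ι)

/-- The pullback of a cover of `D(g)` to a base where it extends is the restriction of the extension. -/
theorem restrict_iso {A' : Type u} [CommRing A'] [Algebra A A']
    (V : FEt.Cat ((SGA1.specBasicOpen A g) : Scheme.{u})) [IsAffine V.left] [Algebra A Γ(V.left, ⊤)]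
    (hB : algebraMap A Γ(V.left, ⊤) = coverHom g V)
    (hV : V.hom ≫ (SGA1.specBasicOpen A g).ι = V.left.isoSpec.hom ≫ Spec.map (CommRingCat.ofHom (coverHom g V)))
    (hext : Extends A' Γ(V.left, ⊤) g) :
    ∃ W : FEt.Cat (Spec (CommRingCat.of A')),
      Nonempty ((FEt.restrict ((Spec.map (CommRingCat.ofHom (algebraMap A A'))) ⁻¹ᵁ (SGA1.specBasicOpen A g)).ι).obj W ≅
        (FEt.restrict ((Spec.map (CommRingCat.ofHom (algebraMap A A'))) ∣_ (SGA1.specBasicOpen A g))).obj V) := by
  obtain ⟨E, _, _, _, _, _, _, hloc⟩ := hext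
  let B := Γ(V.left, ⊤)
  let S := A' ⊗[A] B
  let π := Spec.map (CommRingCat.ofHom (algebraMap A A'))
  let U := SGA1.specBasicOpen A g
  let U' := π ⁻¹ᵁ U
  let g' := algebraMap A A' g
  let wE := Spec.map (CommRingCat.ofHom (algebraMap A' E))
  have hwE : FEt.prop wE := ⟨(IsFinite.SpecMap_iff _).2 (RingHom.finite_algebraMap.2 inferInstance),
    (HasRingHomProperty.Spec_iff (P := @Etale)).2 (RingHom.etale_algebraMap.2 inferInstance)⟩
  let W : FEt.Cat (Spec (CommRingCat.of A')) := MorphismProperty.Over.mk ⊤ wE hwE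
  -- the fibre product
  let fst₀ : Spec (CommRingCat.of S) ⟶ V.left :=
    Spec.map (CommRingCat.ofHom (Algebra.TensorProduct.includeRight : B →ₐ[A] S).toRingHom) ≫ V.left.isoSpec.inv
  let sS := Spec.map (CommRingCat.ofHom (algebraMap A' S))
  have hS : IsPullback fst₀ sS (V.hom ≫ U.ι) π := by
    rw [hV, ← hB]
    refine IsPullback.of_iso
      (isPullback_SpecMap_of_isPushout _ _ _ _ (CommRingCat.isPushout_tensorProduct A A' B)).flip
      (Iso.refl _) V.left.isoSpec.symm (Iso.refl _) (Iso.refl _) ?_ ?_ ?_ ?_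
    all_goals first | (simp [fst₀, sS, π, B, S]; done) | (simp [fst₀, sS, π, B, S]; rfl)
  have hU : IsPullback (π ∣_ U) U'.ι U.ι π := isPullback_morphismRestrict π U
  let tT : Spec (CommRingCat.of S) ⟶ (U' : Scheme.{u}) := hU.lift (fst₀ ≫ V.hom) sS (by rw [Category.assoc, hS.w])
  have htT : tT ≫ U'.ι = sS := hU.lift_snd _ _ _
  have h2 : IsPullback fst₀ tT V.hom (π ∣_ U) := IsPullback.of_bot' hS hU
  -- the localisation
  let R' := Localization.Away g'
  have hUeq : U' = PrimeSpectrum.basicOpen g' := rfl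
  let iU : (U' : Scheme.{u}) ≅ Spec (CommRingCat.of R') := openIso g'
  have hiU : iU.hom ≫ Spec.map (CommRingCat.ofHom (algebraMap A' R')) = U'.ι := openIso_hom g'
  have hgS : IsUnit (algebraMap A' S g') := by
    rw [IsScalarTower.algebraMap_apply A' E S]
    exact IsLocalization.Away.algebraMap_isUnit _
  letI : Algebra R' S := (IsLocalization.Away.lift g' hgS).toAlgebra
  haveI : IsScalarTower A' R' S :=
    IsScalarTower.of_algebraMap_eq fun a => (IsLocalization.Away.lift_eq g' hgS a).symm
  haveI : IsLocalization (Algebra.algebraMapSubmonoid E (Submonoid.powers g')) S := by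
    rw [Algebra.algebraMapSubmonoid_powers]; exact hloc
  let i₁ := Spec.map (CommRingCat.ofHom (algebraMap E S))
  have h1 : IsPullback i₁ tT wE U'.ι := by
    haveI : Algebra.IsPushout A' E R' S := Algebra.isPushout_of_isLocalization (Submonoid.powers g') R' E S
    refine IsPullback.of_iso (isPullback_SpecMap_of_isPushout _ _ _ _
      (CommRingCat.isPushout_iff_isPushout (R := A') (S := R') (R' := E) (S' := S) |>.2 inferInstance))
      (Iso.refl _) (Iso.refl _) iU.symm (Iso.refl _) ?_ ?_ ?_ ?_
    · simp [i₁]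
    · rw [Iso.symm_hom, Iso.refl_hom, Category.id_comp, ← cancel_mono U'.ι, Category.assoc, htT, ← hiU,
        Iso.inv_hom_id_assoc, ← Spec.map_comp]
      simp only [sS]
      congr 1
      ext a
      exact (IsScalarTower.algebraMap_apply A' R' S a).symm
    · simp [wE]
    · simp [← hiU]
  exact ⟨W, ⟨MorphismProperty.Over.isoMk (h1.isoPullback.symm ≪≫ h2.isoPullback) (by
    show (h1.isoPullback.inv ≫ h2.isoPullback.hom) ≫ pullback.snd _ _ = pullback.snd _ _
    rw [Category.assoc, IsPullback.isoPullback_hom_snd, IsPullback.isoPullback_inv_snd])⟩⟩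

end Groth.Agent.TameKum
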