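import Groth.Prelude.Def_PiSp
import Groth.Agent.FlatMorWeight.GeomPoints
import Mathlib.AlgebraicGeometry.ResidueField
import Mathlib.AlgebraicGeometry.Morphisms.FormallyUnramified
import Mathlib.FieldTheory.Galois.Basic
import Mathlib.FieldTheory.IsAlgClosed.AlgebraicClosure
import Mathlib.GroupTheory.Index

/-!
# Residue field extensions of Galois covers
-/

set_option autoImplicit false
set_option linter.style.haveILetI false
set_option maxHeartbeats 1000000
set_option backward.isDefEq.respectTransparency.types false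
set_option backward.isDefEq.respectTransparency false

universe u

open CategoryTheory AlgebraicGeometry

namespace Groth.Agent.TameKum

theorem exists_hom_of_image {Ω : Type u} [Field Ω] {X : Scheme.{u}} (t : Spec (CommRingCat.of Ω) ⟶ X) {x : X}
    (h : t (IsLocalRing.closedPoint Ω) = x) :
    ∃ g : X.residueField x ⟶ CommRingCat.of Ω, t = Spec.map g ≫ X.fromSpecResidueField x := by
  subst h
  exact ⟨_, (Scheme.descResidueField_stalkClosedPointTo_fromSpecResidueField Ω X t).symm⟩

theorem exists_hom_of_apply {X Y : Scheme.{u}} (f : X ⟶ Y) (x : X) {y : Y} (h : f x = y) :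
    ∃ g : Y.residueField y ⟶ X.residueField x, X.fromSpecResidueField x ≫ f = Spec.map g ≫ Y.fromSpecResidueField y := by
  subst h
  exact ⟨_, (Scheme.Hom.SpecMap_residueFieldMap_fromSpecResidueField f x).symm⟩

/-- The residue field extension at a point of a Galois cover is Galois, of degree dividing the group order. -/
theorem isGalois_residueField {X : Scheme.{u}} (Z : FEt.Cat X) (hZ : PiSp.IsGaloisCover Z) [Finite (Aut Z)]
    (z : Z.left) :
    letI : Algebra (X.residueField (Z.hom.base z)) (Z.left.residueField z) := (Z.hom.residueFieldMap z).hom.toAlgebra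
    FiniteDimensional (X.residueField (Z.hom.base z)) (Z.left.residueField z) ∧
      IsGalois (X.residueField (Z.hom.base z)) (Z.left.residueField z) ∧
      Module.finrank (X.residueField (Z.hom.base z)) (Z.left.residueField z) ∣ Nat.card (Aut Z) := by
  classical
  haveI : IsFinite Z.hom := Z.prop.1
  haveI : Etale Z.hom := Z.prop.2
  let K := X.residueField (Z.hom.base z)
  let L := Z.left.residueField z
  letI : Algebra K L := (Z.hom.residueFieldMap z).hom.toAlgebra
  haveI : FiniteDimensional K L := FlatMorWeight.residueFieldMap_finite Z.hom z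
  haveI : FormallyUnramified Z.hom := inferInstance
  haveI : LocallyOfFiniteType Z.hom := inferInstance
  haveI : Algebra.IsSeparable K L :=
    FormallyUnramified.instIsSeparableCarrierResidueFieldCoeContinuousMapCarrierCarrierCommRingCatHomTopCatBaseOfLocallyOfFiniteType Z.hom z
  let Ω := AlgebraicClosure L
  let fz : Spec L ⟶ Z.left := Z.left.fromSpecResidueField z
  have hfz : ∀ g : L ⟶ CommRingCat.of Ω, (Spec.map g ≫ fz) (IsLocalRing.closedPoint Ω) = z := fun g => by
    rw [Scheme.Hom.comp_apply]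
    exact Scheme.fromSpecResidueField_apply z _
  have hover : ∀ g : L ⟶ CommRingCat.of Ω, (Spec.map g ≫ fz) ≫ Z.hom =
      Spec.map (Z.hom.residueFieldMap z ≫ g) ≫ X.fromSpecResidueField (Z.hom.base z) := fun g => by
    rw [Category.assoc, show fz ≫ Z.hom = Spec.map (Z.hom.residueFieldMap z) ≫ X.fromSpecResidueField (Z.hom.base z) from
      (Scheme.Hom.SpecMap_residueFieldMap_fromSpecResidueField Z.hom z).symm, ← Category.assoc, ← Spec.map_comp]
  let ξ : Spec (CommRingCat.of Ω) ⟶ X :=
    (Spec.map (CommRingCat.ofHom (algebraMap L Ω)) ≫ fz) ≫ Z.hom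
  let pt : (L →ₐ[K] Ω) → FEt.fiberObj ξ Z := fun τ =>
    ⟨Spec.map (CommRingCat.ofHom τ.toRingHom) ≫ fz, by
      show (Spec.map (CommRingCat.ofHom τ.toRingHom) ≫ fz) ≫ Z.hom =
        (Spec.map (CommRingCat.ofHom (algebraMap L Ω)) ≫ fz) ≫ Z.hom
      rw [hover, hover]
      congr 2
      ext a
      exact τ.commutes a⟩
  have hback : ∀ (t : FEt.fiberObj ξ Z), t.1 (IsLocalRing.closedPoint Ω) = z → ∃ τ, pt τ = t := by
    intro t ht
    obtain ⟨g, hg⟩ := exists_hom_of_image t.1 ht
    have h1 : (Spec.map g ≫ fz) ≫ Z.hom =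
        (Spec.map (CommRingCat.ofHom (algebraMap L Ω)) ≫ fz) ≫ Z.hom := hg ▸ t.2
    rw [hover, hover, cancel_mono, Spec.map_inj] at h1
    exact ⟨{ toRingHom := g.hom, commutes' := fun a => congr($(h1).hom a) }, Subtype.ext hg.symm⟩
  have hptinj : Function.Injective pt := fun τ τ' h => by
    have h1 : Spec.map (CommRingCat.ofHom τ.toRingHom) ≫ fz = Spec.map (CommRingCat.ofHom τ'.toRingHom) ≫ fz :=
      congrArg Subtype.val h
    rw [cancel_mono, Spec.map_inj] at h1
    exact AlgHom.ext fun a => congr($(h1).hom a)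
  letI : MulAction (Aut Z) (FEt.fiberObj ξ Z) :=
    { smul := fun σ t => (FEt.fiber ξ).map σ.hom t
      one_smul := fun t => Subtype.ext (Category.comp_id _)
      mul_smul := fun σ τ t => Subtype.ext (Category.assoc _ _ _).symm }
  letI : MulAction (Aut Z) Z.left :=
    { smul := fun σ w => σ.hom.left w
      one_smul := fun w => rfl
      mul_smul := fun σ τ w => Scheme.Hom.comp_apply τ.hom.left σ.hom.left w }
  have himg : ∀ (σ : Aut Z) (t : FEt.fiberObj ξ Z), (σ • t).1 (IsLocalRing.closedPoint Ω) =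
      σ • t.1 (IsLocalRing.closedPoint Ω) := fun σ t => Scheme.Hom.comp_apply t.1 σ.hom.left _
  let H := MulAction.stabilizer (Aut Z) z
  let τ₀ : L →ₐ[K] Ω := IsScalarTower.toAlgHom K L Ω
  have horb : MulAction.orbit H (pt τ₀) = Set.range pt := by
    ext t
    constructor
    · rintro ⟨⟨σ, hσ⟩, rfl⟩
      refine hback (σ • pt τ₀) ?_
      rw [himg, show (pt τ₀).1 (IsLocalRing.closedPoint Ω) = z from hfz _]
      exact hσ
    · rintro ⟨τ, rfl⟩
      obtain ⟨σ, hσ⟩ := hZ.2 Ω ξ (pt τ₀) (pt τ)
      have hσ' : σ • pt τ₀ = pt τ := hσ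
      have hσz : σ ∈ H := by
        show σ • z = z
        have := himg σ (pt τ₀)
        rw [hσ', show (pt τ).1 (IsLocalRing.closedPoint Ω) = z from hfz _,
          show (pt τ₀).1 (IsLocalRing.closedPoint Ω) = z from hfz _] at this
        exact this.symm
      exact ⟨⟨σ, hσz⟩, hσ'⟩
  have hnorm : ∀ τ : L →ₐ[K] Ω, ∃ g : L →ₐ[K] L, τ = τ₀.comp g := by
    intro τ
    obtain ⟨⟨σ, hσ⟩, hσ'⟩ : pt τ ∈ MulAction.orbit H (pt τ₀) := horb ▸ ⟨τ, rfl⟩
    obtain ⟨g, hg⟩ := exists_hom_of_apply σ.hom.left z (hσ : σ.hom.left z = z)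
    change fz ≫ σ.hom.left = Spec.map g ≫ fz at hg
    have hw : σ.hom.left ≫ Z.hom = Z.hom := Over.w σ.hom.hom
    have hz : fz ≫ Z.hom = Spec.map (Z.hom.residueFieldMap z) ≫ X.fromSpecResidueField (Z.hom.base z) :=
      (Scheme.Hom.SpecMap_residueFieldMap_fromSpecResidueField Z.hom z).symm
    have h2 : Spec.map (Z.hom.residueFieldMap z ≫ g) = Spec.map (Z.hom.residueFieldMap z) := by
      rw [← cancel_mono (X.fromSpecResidueField (Z.hom.base z)), Spec.map_comp, Category.assoc,
        ← hz, ← Category.assoc, ← hg, Category.assoc, hw]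
    rw [Spec.map_inj] at h2
    let g' : L →ₐ[K] L := { toRingHom := g.hom, commutes' := fun a => congr($(h2).hom a) }
    refine ⟨g', hptinj (Subtype.ext ?_)⟩
    rw [← hσ']
    show (Spec.map (CommRingCat.ofHom (algebraMap L Ω)) ≫ fz) ≫ σ.hom.left =
      Spec.map (g ≫ CommRingCat.ofHom (algebraMap L Ω)) ≫ fz
    rw [Category.assoc, hg, Spec.map_comp, Category.assoc]
  have hcard : Nat.card (L →ₐ[K] Ω) = Module.finrank K L :=
    AlgHom.natCard_of_splits K L Ω fun _ => IsAlgClosed.splits _
  have hgal : IsGalois K L := by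
    refine IsGalois.of_card_aut_eq_finrank K L (hcard ▸ ?_)
    rw [Nat.card_congr (algEquivEquivAlgHom K L).toEquiv]
    refine Nat.card_congr (Equiv.ofBijective (fun g : L →ₐ[K] L => τ₀.comp g) ⟨fun a b h => AlgHom.ext fun x => ?_,
      fun τ => (hnorm τ).imp fun g hg => hg.symm⟩)
    exact (algebraMap L Ω).injective congr($h x)
  refine ⟨inferInstance, hgal, ?_⟩
  have h1 : (MulAction.orbit H (pt τ₀)).ncard = Module.finrank K L := by
    rw [horb, Set.ncard_range_of_injective hptinj, hcard]
  rw [← h1, ← MulAction.index_stabilizer]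
  exact (Subgroup.index_dvd_card _).trans (Subgroup.card_subgroup_dvd_card H)

end Groth.Agent.TameKum
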