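import Groth.Agent.TameKum.Iff
import Mathlib.NumberTheory.RamificationInertia.Galois
import Mathlib.FieldTheory.Separable

/-!
# Galois extensions of degree prime to the residue characteristic are tame
-/

set_option autoImplicit false
set_option linter.style.haveILetI false
set_option maxHeartbeats 1000000
set_option backward.isDefEq.respectTransparency.types false
set_option backward.isDefEq.respectTransparency false

universe u

open Polynomial IsLocalRing

namespace Groth.Agent.TameKum

theorem isSeparable_of_finrank_ne_zero {k F : Type u} [Field k] [Field F] [Algebra k F] [FiniteDimensional k F]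
    (h : (Module.finrank k F : k) ≠ 0) : Algebra.IsSeparable k F := by
  refine ⟨fun x => ?_⟩
  have hint : IsIntegral k x := Algebra.IsIntegral.isIntegral x
  rw [IsSeparable, separable_iff_derivative_ne_zero (minpoly.irreducible hint)]
  intro hder
  obtain ⟨c, hc⟩ := minpoly.degree_dvd hint
  have h1 : (derivative (minpoly k x)).coeff ((minpoly k x).natDegree - 1) = 0 := by rw [hder, coeff_zero]
  rw [coeff_derivative, Nat.sub_add_cancel (minpoly.natDegree_pos hint), (minpoly.monic hint).coeff_natDegree,
    one_mul, ← Nat.cast_succ, Nat.succ_eq_add_one, Nat.sub_add_cancel (minpoly.natDegree_pos hint)] at h1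
  exact h (by rw [hc, Nat.cast_mul, h1, zero_mul])

/-- The localisation of the integral closure at the centre of a valuation is its valuation ring. -/
theorem exists_center {O K L : Type u} [CommRing O] [IsDomain O] [IsDiscreteValuationRing O] [Field K] [Algebra O K]
    [IsFractionRing O K] [Field L] [Algebra K L] [Algebra O L] [IsScalarTower O K L] [FiniteDimensional K L]
    [Algebra.IsSeparable K L] (W : ValuationSubring L) (hW : EtRam.Dominates O (algebraMap O L) W) :
    ∃ (Q : Ideal (integralClosure O L)) (_ : Q.IsMaximal) (e : Localization.AtPrime Q ≃+* W),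
      Q ≠ ⊥ ∧ Q.comap (algebraMap O (integralClosure O L)) = maximalIdeal O ∧
      ∀ d, (e (algebraMap (integralClosure O L) (Localization.AtPrime Q) d) : L) = d := by
  let D := integralClosure O L
  haveI : IsDedekindDomain D := IsIntegralClosure.isDedekindDomain O K L D
  haveI : IsFractionRing D L := integralClosure.isFractionRing_of_finite_extension K L
  letI : Algebra O W := (RingHom.codRestrict _ W hW.1).toAlgebra
  haveI : IsScalarTower O W L := IsScalarTower.of_algebraMap_eq fun _ => rfl
  have hloc : IsLocalHom (algebraMap O W) := isLocalHom_of_dominates hW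
  have hDW : ∀ d : D, (d : L) ∈ W := fun d => by
    obtain ⟨w, hw⟩ := (IsIntegrallyClosed.isIntegral_iff (R := W) (K := L)).mp
      (show IsIntegral W (d : L) from d.2.tower_top)
    exact hw ▸ w.2
  let γ : D →+* W := (D.val.toRingHom).codRestrict W hDW
  let q := (maximalIdeal W).comap γ
  have hqO : q.comap (algebraMap O D) = maximalIdeal O := by
    ext a
    show γ (algebraMap O D a) ∈ maximalIdeal W ↔ _
    rw [show γ (algebraMap O D a) = algebraMap O W a from Subtype.ext rfl]
    exact not_congr ⟨fun h => hloc.map_nonunit a h, fun h => h.map _⟩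
  have hq0 : q ≠ ⊥ := fun h0 => by
    obtain ⟨π, hπ⟩ := IsDiscreteValuationRing.exists_irreducible O
    have hmem : algebraMap O D π ∈ q := by
      rw [← Ideal.mem_comap, hqO]; exact hπ.not_isUnit
    rw [h0, Ideal.mem_bot] at hmem
    have h1 : algebraMap O L π = 0 := congrArg Subtype.val hmem
    rw [IsScalarTower.algebraMap_apply O K L, map_eq_zero, map_eq_zero_iff _ (IsFractionRing.injective O K)] at h1
    exact hπ.ne_zero h1
  haveI : q.IsMaximal := Ideal.IsPrime.isMaximal inferInstance hq0
  let DQ := Localization.AtPrime q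
  haveI : IsDiscreteValuationRing DQ := IsLocalization.AtPrime.isDiscreteValuationRing_of_dedekind_domain D hq0 DQ
  have hu : ∀ y : q.primeCompl, IsUnit (γ y) := fun y => by_contra fun h => y.2 h
  let γ' : DQ →+* W := IsLocalization.lift hu
  have hγ' : ∀ d : D, γ' (algebraMap D DQ d) = γ d := fun d => IsLocalization.lift_eq _ d
  have hinj : Function.Injective γ' := by
    show Function.Injective (IsLocalization.lift (M := q.primeCompl) hu)
    rw [IsLocalization.lift_injective_iff]
    exact fun x y => ⟨fun h => congrArg _ (IsLocalization.injective DQ q.primeCompl_le_nonZeroDivisors h),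
      fun h => congrArg _ (Subtype.ext (congrArg (Subtype.val : W → L) h : (x : L) = y))⟩
  have hlocγ : ∀ d : DQ, IsUnit (γ' d) → IsUnit d := fun d hd => by
    obtain ⟨a, s, rfl⟩ := IsLocalization.exists_mk'_eq q.primeCompl d
    rw [IsLocalization.AtPrime.isUnit_mk'_iff]
    intro ha
    have h1 : γ' (IsLocalization.mk' DQ a s) * γ (s : D) = γ a := by
      rw [← hγ', ← hγ', ← map_mul, IsLocalization.mk'_spec]
    exact (ha : γ a ∈ maximalIdeal W) (h1 ▸ hd.mul (hu s))
  letI : Algebra DQ L := ((W.subtype).comp γ').toAlgebra
  haveI : IsScalarTower D DQ L := IsScalarTower.of_algebraMap_eq fun d => (congrArg Subtype.val (hγ' d)).symm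
  haveI : IsFractionRing DQ L := IsFractionRing.isFractionRing_of_isDomain_of_isLocalization q.primeCompl DQ L
  have hsurj : Function.Surjective γ' := by
    intro w
    rcases ValuationRing.isInteger_or_isInteger DQ (w : L) with ⟨c, hc⟩ | ⟨c, hc⟩
    · exact ⟨c, Subtype.ext hc⟩
    · rcases eq_or_ne w 0 with rfl | hw0
      · exact ⟨0, map_zero _⟩
      · have hmul : γ' c * w = 1 := Subtype.ext (by
          show algebraMap DQ L c * (w : L) = 1
          rw [hc, inv_mul_cancel₀ (fun h => hw0 (Subtype.ext h))])
        obtain ⟨c', rfl⟩ := hlocγ c (IsUnit.of_mul_eq_one w hmul)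
        refine ⟨(↑c'⁻¹ : DQ), (left_inv_eq_right_inv ?_ hmul)⟩
        rw [← map_mul, Units.inv_mul, map_one]
  exact ⟨q, inferInstance, RingEquiv.ofBijective γ' ⟨hinj, hsurj⟩, hq0, hqO, fun d => congrArg Subtype.val (hγ' d)⟩

/-- A Galois extension of degree invertible in the residue field is tamely ramified. -/
theorem tame_of_galois {O K L : Type u} [CommRing O] [IsDomain O] [IsDiscreteValuationRing O] [Field K] [Algebra O K]
    [IsFractionRing O K] [Field L] [Algebra K L] [FiniteDimensional K L] [IsGalois K L]
    (h : (Module.finrank K L : ResidueField O) ≠ 0) :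
    EtRam.IsTamelyRamified O ((algebraMap K L).comp (algebraMap O K)) := by
  classical
  letI : Algebra O L := ((algebraMap K L).comp (algebraMap O K)).toAlgebra
  haveI : IsScalarTower O K L := IsScalarTower.of_algebraMap_eq fun _ => rfl
  intro V hV
  letI : Algebra O V := (RingHom.codRestrict _ V hV.1).toAlgebra
  intro hloc
  haveI := hloc
  haveI := CohDer1.TameTower.isDVR_of_dominates O K L V hV
  let D := integralClosure O L
  haveI : IsDedekindDomain D := IsIntegralClosure.isDedekindDomain O K L D
  haveI : IsFractionRing D L := integralClosure.isFractionRing_of_finite_extension K L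
  haveI : Module.Finite O D := IsIntegralClosure.finite O K L D
  haveI : Module.IsTorsionFree O L := by
    rw [Module.isTorsionFree_iff_algebraMap_injective]
    exact (algebraMap K L).injective.comp (IsFractionRing.injective O K)
  haveI : Module.IsTorsionFree O D := by
    rw [Module.isTorsionFree_iff_algebraMap_injective]
    exact fun a b hab => (Module.isTorsionFree_iff_algebraMap_injective.1 ‹Module.IsTorsionFree O L›) (congrArg Subtype.val hab)
  obtain ⟨Q, _, ε, hQ0, hQO, hε⟩ := exists_center (O := O) (K := K) V hV
  haveI : Q.LiesOver (maximalIdeal O) := ⟨hQO.symm⟩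
  obtain ⟨π, hπ⟩ := IsDiscreteValuationRing.exists_irreducible O
  obtain ⟨_, ϖ, u, e, hϖ, he, hu, hidx⟩ := exists_factor (K := K) (L := L) hπ V hV
  let DQ := Localization.AtPrime Q
  haveI : IsDiscreteValuationRing DQ := IsLocalization.AtPrime.isDiscreteValuationRing_of_dedekind_domain D hQ0 DQ
  have hϖ' : Irreducible (ε.symm ϖ) := (MulEquiv.irreducible_iff ε.symm).2 hϖ
  have hidx' : Q.ramificationIdx O = e := by
    rw [Ideal.ramificationIdx_eq (maximalIdeal O) Q, hπ.maximalIdeal_eq, Ideal.map_span, Set.image_singleton,
      show algebraMap O DQ π = ε.symm (algebraMap O V π) by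
        rw [RingEquiv.eq_symm_apply, IsScalarTower.algebraMap_apply O D DQ]
        exact Subtype.ext (hε _),
      show algebraMap O V π = u * ϖ ^ e from hu, map_mul, map_pow,
      Ideal.span_singleton_mul_left_unit (u.isUnit.map ε.symm), ← Ideal.span_singleton_pow, ← hϖ'.maximalIdeal_eq,
      IsDiscreteValuationRing.length_quotient_pow_maximalIdeal, ENat.toNat_natCast]
  let φ : D →+* ResidueField V := (residue V).comp (ε.toRingHom.comp (algebraMap D DQ))
  have hker : ∀ d, φ d = 0 ↔ d ∈ Q := fun d => by
    show residue V (ε (algebraMap D DQ d)) = 0 ↔ _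
    rw [residue_eq_zero_iff, mem_maximalIdeal, mem_nonunits_iff, isUnit_map_iff, ← mem_nonunits_iff,
      ← mem_maximalIdeal, IsLocalization.AtPrime.to_map_mem_maximal_iff DQ Q]
  have hφsurj : Function.Surjective φ := by
    intro y
    obtain ⟨v, rfl⟩ := residue_surjective y
    obtain ⟨a, s, hs⟩ := IsLocalization.exists_mk'_eq Q.primeCompl (ε.symm v)
    obtain ⟨b, hb⟩ := Ideal.IsMaximal.exists_inv (I := Q) inferInstance s.2
    obtain ⟨m, hm, hbm⟩ := hb
    refine ⟨a * b, ?_⟩
    have h1 : residue V v * φ s = φ a := by
      show residue V v * residue V (ε (algebraMap D DQ (s : D))) = residue V (ε (algebraMap D DQ a))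
      rw [← map_mul, ← IsLocalization.mk'_spec DQ a s, map_mul ε, hs, RingEquiv.apply_symm_apply]
    have h2 : φ b * φ s = 1 := by
      have := congrArg φ hbm
      rwa [map_add, map_mul, map_one, (hker m).2 hm, add_zero] at this
    rw [map_mul, ← h1, mul_assoc, mul_comm (φ s), h2, mul_one]
  let φQ : D ⧸ Q ≃+* ResidueField V :=
    RingEquiv.ofBijective (Ideal.Quotient.lift Q φ fun d hd => (hker d).2 hd)
      ⟨(injective_iff_map_eq_zero _).2 fun z hz => by
        obtain ⟨d, rfl⟩ := Ideal.Quotient.mk_surjective z
        exact Ideal.Quotient.eq_zero_iff_mem.2 ((hker d).1 hz),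
      fun y => ⟨Ideal.Quotient.mk Q (hφsurj y).choose, (hφsurj y).choose_spec⟩⟩
  have hf : Q.inertiaDeg O = Module.finrank (ResidueField O) (ResidueField V) := by
    rw [Ideal.inertiaDeg_eq_of_isMaximal (maximalIdeal O) Q]
    refine Algebra.finrank_eq_of_equiv_equiv (RingEquiv.refl _) φQ (RingHom.ext fun z => ?_)
    obtain ⟨a, rfl⟩ := Ideal.Quotient.mk_surjective z
    show residue V (algebraMap O V a) = residue V (ε (algebraMap D DQ (algebraMap O D a)))
    congr 1
    exact Subtype.ext (hε (algebraMap O D a)).symm
  haveI : Module.Free O D := Module.free_of_finite_type_torsion_free'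
  letI : MulSemiringAction Gal(L/K) D := IsIntegralClosure.MulSemiringAction O K L D
  haveI : IsGaloisGroup Gal(L/K) O D := IsGaloisGroup.of_isFractionRing _ _ _ K L
  have hid := Ideal.ncard_primesOver_mul_ramificationIdxIn_mul_inertiaDegIn (maximalIdeal O) D Gal(L/K)
  rw [Ideal.ramificationIdxIn_eq_ramificationIdx (maximalIdeal O) Q Gal(L/K),
    Ideal.inertiaDegIn_eq_inertiaDeg (maximalIdeal O) Q Gal(L/K), IsGalois.card_aut_eq_finrank, hidx', hf] at hid
  rw [← hid, Nat.cast_mul, Nat.cast_mul] at h
  have hfne : (Module.finrank (ResidueField O) (ResidueField V) : ResidueField O) ≠ 0 :=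
    right_ne_zero_of_mul (right_ne_zero_of_mul h)
  haveI : FiniteDimensional (ResidueField O) (ResidueField V) := by
    by_contra hnf
    exact hfne (by rw [Module.finrank_of_not_finite hnf, Nat.cast_zero])
  refine ⟨isSeparable_of_finrank_ne_zero hfne, fun p hp hc hd => ?_⟩
  rw [hidx] at hd
  exact left_ne_zero_of_mul (right_ne_zero_of_mul h) ((CharP.cast_eq_zero_iff (ResidueField O) p e).2 hd)

end Groth.Agent.TameKum
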