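import Groth.Agent.TameKum.BaseChange
import Groth.Agent.FlatMorWeight.GeomPoints
import Mathlib.AlgebraicGeometry.ValuativeCriterion
import Mathlib.AlgebraicGeometry.Morphisms.Finite
import Mathlib.AlgebraicGeometry.Morphisms.Etale
import Mathlib.AlgebraicGeometry.ResidueField

/-!
# Finite étale covers of proper schemes are tame at all places
-/

set_option autoImplicit false
set_option linter.style.haveILetI false
set_option maxHeartbeats 1000000
set_option backward.isDefEq.respectTransparency.types false
set_option backward.isDefEq.respectTransparency false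

universe u

open CategoryTheory CategoryTheory.Limits AlgebraicGeometry

namespace Groth.Agent.TameKum

theorem surjective_of_factor {Y : Scheme.{u}} (y : Y) {F : Type u} [Field F] (incl : F →+* Y.residueField y)
    (t : Spec (CommRingCat.of F) ⟶ Y)
    (h : Spec.map (CommRingCat.ofHom incl) ≫ t = Y.fromSpecResidueField y) : Function.Surjective incl := by
  have himg : t (IsLocalRing.closedPoint F) = y := by
    have h1 := congrArg (fun m : Spec (Y.residueField y) ⟶ Y => m (IsLocalRing.closedPoint (Y.residueField y))) h
    simp only [Scheme.Hom.comp_apply, Scheme.fromSpecResidueField_apply] at h1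
    exact (congrArg t (@Subsingleton.elim (PrimeSpectrum F) _ _ _)).trans h1
  obtain ⟨g, hg⟩ : ∃ g : Y.residueField y ⟶ CommRingCat.of F, t = Spec.map g ≫ Y.fromSpecResidueField y := by
    subst himg
    exact ⟨_, (Scheme.descResidueField_stalkClosedPointTo_fromSpecResidueField F Y t).symm⟩
  have h2 : g ≫ CommRingCat.ofHom incl = 𝟙 _ := by
    rw [← Spec.map_inj, Spec.map_id, ← cancel_mono (Y.fromSpecResidueField y), Spec.map_comp, Category.assoc, ← hg, h]
    exact (Category.id_comp _).symm
  exact fun l => ⟨g.hom l, congr($(h2).hom l)⟩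

theorem tame_of_lift {X Y : Scheme.{u}} (f : Y ⟶ X) [IsFinite f] [Etale f] (y : Y)
    {A : Type u} [CommRing A] [IsDomain A] [IsDiscreteValuationRing A] [Algebra A (X.residueField (f.base y))]
    [IsFractionRing A (X.residueField (f.base y))] (l : Spec (CommRingCat.of A) ⟶ X)
    (hl : Spec.map (CommRingCat.ofHom (algebraMap A (X.residueField (f.base y)))) ≫ l = X.fromSpecResidueField (f.base y)) :
    EtRam.IsTamelyRamified A ((f.residueFieldMap y).hom.comp (algebraMap A (X.residueField (f.base y)))) := by
  classical
  let K := X.residueField (f.base y)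
  let L := Y.residueField y
  letI : Algebra K L := (f.residueFieldMap y).hom.toAlgebra
  haveI : FiniteDimensional K L := FlatMorWeight.residueFieldMap_finite f y
  haveI : FormallyUnramified f := inferInstance
  haveI : Algebra.IsSeparable K L :=
    FormallyUnramified.instIsSeparableCarrierResidueFieldCoeContinuousMapCarrierCarrierCommRingCatHomTopCatBaseOfLocallyOfFiniteType f y
  letI : Algebra A L := ((algebraMap K L).comp (algebraMap A K)).toAlgebra
  haveI : IsScalarTower A K L := IsScalarTower.of_algebraMap_eq (R := A) (S := K) (A := L) fun _ => rfl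
  let P := pullback f l
  haveI : IsAffine P := isAffine_of_isAffineHom (pullback.snd f l)
  let B := Γ(P, ⊤)
  let θ : CommRingCat.of A ⟶ B := Spec.preimage (P.isoSpec.inv ≫ pullback.snd f l)
  have hθ : Spec.map θ = P.isoSpec.inv ≫ pullback.snd f l := Spec.map_preimage _
  haveI : IsFinite (Spec.map θ) := hθ ▸ inferInstance
  haveI : Etale (Spec.map θ) := hθ ▸ inferInstance
  letI : Algebra A B := θ.hom.toAlgebra
  haveI : Module.Finite A B := (IsFinite.SpecMap_iff θ).1 inferInstance
  haveI : Algebra.Etale A B :=
    RingHom.etale_algebraMap.1 ((HasRingHomProperty.Spec_iff (P := @Etale)).1 (inferInstance : Etale (Spec.map θ)))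
  have hsq : Y.fromSpecResidueField y ≫ f = Spec.map (CommRingCat.ofHom (algebraMap A L)) ≫ l := by
    rw [← Scheme.Hom.SpecMap_residueFieldMap_fromSpecResidueField]
    show Spec.map (f.residueFieldMap y) ≫ X.fromSpecResidueField (f.base y) = _
    rw [← hl, ← Category.assoc, ← Spec.map_comp]
    rfl
  let pL : Spec L ⟶ P := pullback.lift (Y.fromSpecResidueField y) (Spec.map (CommRingCat.ofHom (algebraMap A L))) hsq
  let φ : B ⟶ L := Spec.preimage (pL ≫ P.isoSpec.hom)
  have hφ : Spec.map φ = pL ≫ P.isoSpec.hom := Spec.map_preimage _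
  have hφA : θ ≫ φ = CommRingCat.ofHom (algebraMap A L) := by
    rw [← Spec.map_inj, Spec.map_comp, hφ, hθ, Category.assoc, Iso.hom_inv_id_assoc, pullback.lift_snd]
  let Φ : B →ₐ[A] L := { toRingHom := φ.hom, commutes' := fun a => congr($(hφA).hom a) }
  let F : Subfield L := Subfield.closure (Set.range Φ ∪ Set.range (algebraMap K L))
  let φF : B ⟶ CommRingCat.of F :=
    CommRingCat.ofHom ((φ.hom).codRestrict F fun b => Subfield.subset_closure (Or.inl ⟨b, rfl⟩))
  have hgen : F = ⊤ := by
    rw [eq_top_iff]
    intro z _
    obtain ⟨w, hw⟩ := surjective_of_factor y F.subtype (Spec.map φF ≫ P.isoSpec.inv ≫ pullback.fst f l) (by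
      rw [← Category.assoc, ← Spec.map_comp, show φF ≫ CommRingCat.ofHom F.subtype = φ from rfl, hφ, Category.assoc,
        Iso.hom_inv_id_assoc]
      exact pullback.lift_fst _ _ _) z
    exact hw ▸ w.2
  haveI : Algebra.FormallyUnramified A (integralClosure A L) := formallyUnramified_of_generated (K' := K) Φ hgen
  exact tame_of_isUnramifiedExt (O := A) (K := K) (L := L)
    (isUnramifiedExt_of_formallyUnramified (O' := A) (K' := K) (M := L))

end Groth.Agent.TameKum
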