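import Groth.Agent.TameKum.Schemes
import Groth.Agent.CAlgH.KummerAlg

/-!
# Kummer coverings dominate tame covers
-/

set_option autoImplicit false
set_option linter.style.haveILetI false
set_option maxHeartbeats 800000
set_option backward.isDefEq.respectTransparency.types false
set_option backward.isDefEq.respectTransparency false

universe u

open CategoryTheory CategoryTheory.Limits AlgebraicGeometry TensorProduct

namespace Groth.Agent.TameKum

theorem etale_awayMap {A : Type u} [CommRing A] [IsLocalRing A] {r : ℕ} (f : Fin r → A) (n : Fin r → ℕ)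
    (hn : ∀ i, 1 ≤ n i) (hu : ∀ i, IsUnit (n i : IsLocalRing.ResidueField A)) :
    RingHom.Etale (R := Localization.Away (∏ i, f i))
      (S := Localization.Away (algebraMap A (SGA1.kummerAlg A f n) (∏ i, f i)))
      (Localization.awayMap (algebraMap A (SGA1.kummerAlg A f n)) (∏ i, f i)) := by
  have huA : ∀ i, IsUnit (n i : A) := fun i => by
    by_contra h
    exact (hu i).ne_zero (by rw [← map_natCast (IsLocalRing.residue A)]; exact (IsLocalRing.residue_eq_zero_iff _).2 h)
  exact CAlgH.KummerAlg.etale_away f n hn huA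

variable {A : Type u} [CommRing A] [IsDomain A]

/-- A prime of a nonzero flat algebra over a localisation of a domain over the zero ideal. -/
theorem exists_prime_generic (g : A) (hg : g ≠ 0) (B : Type u) [CommRing B] [Nontrivial B] [Algebra A B]
    [Algebra (Localization.Away g) B] [IsScalarTower A (Localization.Away g) B]
    [Module.Flat (Localization.Away g) B] : ∃ q : Ideal B, q.IsPrime ∧ q.comap (algebraMap A B) = ⊥ := by
  obtain ⟨q, hq⟩ := Ideal.nonempty_minimalPrimes (I := (⊥ : Ideal B)) bot_ne_top
  refine ⟨q, hq.1.1, ?_⟩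
  let R := Localization.Away g
  haveI : IsDomain R := IsLocalization.isDomain_of_le_nonZeroDivisors (S := R) (M := Submonoid.powers g)
    (powers_le_nonZeroDivisors_of_noZeroDivisors hg)
  rw [Submodule.eq_bot_iff]
  intro a ha
  by_contra ha0
  have haR : algebraMap A R a ≠ 0 :=
    (map_ne_zero_iff _ (IsLocalization.injective R (powers_le_nonZeroDivisors_of_noZeroDivisors hg))).2 ha0
  refine Set.disjoint_left.mp (Ideal.disjoint_nonZeroDivisors_of_mem_minimalPrimes hq) ha ?_
  rw [SetLike.mem_coe, mem_nonZeroDivisors_iff_right]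
  intro t ht
  have : t ∈ Submodule.torsion R B := ⟨⟨_, mem_nonZeroDivisors_of_ne_zero haR⟩, by
    rw [Submonoid.smul_def, Algebra.smul_def, ← IsScalarTower.algebraMap_apply A R B, mul_comm]; exact ht⟩
  rwa [Module.Flat.torsion_eq_bot, Submodule.mem_bot] at this

omit [IsDomain A] in
/-- A point of a connected cover with values in a finite étale algebra gives a surjection. -/
theorem exists_surjection (g : A) {A' : Type u} [CommRing A'] [IsDomain A'] [Algebra A A'] [Module.Finite A A']
    (hg' : algebraMap A A' g ≠ 0) (het : RingHom.Etale (R := Localization.Away g) (S := Localization.Away (algebraMap A A' g))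
      (Localization.awayMap (algebraMap A A') g))
    (V : FEt.Cat ((SGA1.specBasicOpen A g) : Scheme.{u})) [ConnectedSpace V.left] [IsAffine V.left]
    [Algebra A Γ(V.left, ⊤)] (hB : algebraMap A Γ(V.left, ⊤) = coverHom g V)
    (hV : V.hom ≫ (SGA1.specBasicOpen A g).ι = V.left.isoSpec.hom ≫ Spec.map (CommRingCat.ofHom (coverHom g V)))
    (χ : Γ(V.left, ⊤) →ₐ[A] Localization.Away (algebraMap A A' g)) :
    ∃ φ : (↑((Spec.map (CommRingCat.ofHom (algebraMap A A'))) ⁻¹ᵁ (SGA1.specBasicOpen A g)) : Scheme.{u}) ⟶ V.left,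
      φ ≫ V.hom = (Spec.map (CommRingCat.ofHom (algebraMap A A'))) ∣_ (SGA1.specBasicOpen A g) ∧ Surjective φ := by
  let π := Spec.map (CommRingCat.ofHom (algebraMap A A'))
  let U := SGA1.specBasicOpen A g
  let U' := π ⁻¹ᵁ U
  let g' := algebraMap A A' g
  let G := Localization.Away g'
  let iU : (U' : Scheme.{u}) ≅ Spec (CommRingCat.of G) := openIso g'
  have hiU : iU.hom ≫ Spec.map (CommRingCat.ofHom (algebraMap A' G)) = U'.ι := openIso_hom g'
  let φ : (U' : Scheme.{u}) ⟶ V.left := iU.hom ≫ Spec.map (CommRingCat.ofHom χ.toRingHom) ≫ V.left.isoSpec.inv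
  have hcomp : φ ≫ V.hom = π ∣_ U := by
    rw [← cancel_mono U.ι, morphismRestrict_ι, Category.assoc, hV, ← hB]
    simp only [φ, Category.assoc, Iso.inv_hom_id_assoc]
    rw [← hiU, Category.assoc]
    simp only [π, ← Spec.map_comp]
    congr 2
    ext a
    show χ (algebraMap A _ a) = algebraMap A' G (algebraMap A A' a)
    rw [χ.commutes, ← IsScalarTower.algebraMap_apply]
  refine ⟨φ, hcomp, ?_⟩
  haveI : IsFinite V.hom := V.prop.1
  haveI : Etale V.hom := V.prop.2
  haveI : IsFinite π := (IsFinite.SpecMap_iff _).2 (RingHom.finite_algebraMap.2 inferInstance)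
  haveI : IsFinite (φ ≫ V.hom) := hcomp ▸ IsZariskiLocalAtTarget.restrict (P := @IsFinite) inferInstance U
  haveI : Etale (φ ≫ V.hom) := by
    rw [hcomp, show π ∣_ U = iU.hom ≫ Spec.map (CommRingCat.ofHom (Localization.awayMap (algebraMap A A') g)) ≫
      (openIso g).inv from ?_]
    · haveI : Etale (Spec.map (CommRingCat.ofHom (Localization.awayMap (algebraMap A A') g))) :=
        (HasRingHomProperty.Spec_iff (P := @Etale)).2 het
      infer_instance
    · rw [← cancel_mono U.ι, morphismRestrict_ι, Category.assoc, Category.assoc,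
        ← openIso_hom g, Iso.inv_hom_id_assoc, ← hiU, Category.assoc]
      simp only [π, ← Spec.map_comp]
      congr 2
      ext a
      simp [Localization.awayMap, IsLocalization.Away.map, G, g']
  haveI : IsFinite φ := IsFinite.of_comp φ V.hom
  haveI : Etale φ := Etale.of_comp φ V.hom
  have hne : Nonempty (U' : Scheme.{u}) := by
    haveI : Nontrivial G := (IsLocalization.injective G
      (powers_le_nonZeroDivisors_of_noZeroDivisors hg')).nontrivial
    exact ⟨iU.inv (Classical.arbitrary (PrimeSpectrum G))⟩
  refine ⟨fun x => ?_⟩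
  have hrange : Set.range φ = Set.univ := by
    rcases isClopen_iff.1 (⟨φ.isClosedMap.isClosed_range, φ.isOpenMap.isOpen_range⟩ : IsClopen (Set.range φ)) with h | h
    · exact absurd h (Set.range_nonempty _).ne_empty
    · exact h
  exact (hrange ▸ Set.mem_univ x : x ∈ Set.range φ)

end Groth.Agent.TameKum
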