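import Groth.Agent.TameKum.SH
import Groth.Agent.CohDer1.TameTower
import Groth.Prelude.Def_SGA1

/-!
# Kummer algebras are tame
-/

set_option autoImplicit false
set_option linter.style.haveILetI false
set_option maxHeartbeats 1000000
set_option backward.isDefEq.respectTransparency.types false
set_option backward.isDefEq.respectTransparency false

universe u

open IsLocalRing

namespace Groth.Agent.TameKum

theorem isSeparable_of_pow_eq {k F : Type u} [Field k] [Field F] [Algebra k F] {n : ℕ} (hn : (n : k) ≠ 0) (y : F)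
    (c : k) (hy : y ^ n = algebraMap k F c) : IsSeparable k y := by
  rcases eq_or_ne c 0 with rfl | hc
  · have hn0 : n ≠ 0 := fun h => hn (by rw [h, Nat.cast_zero])
    have : y = 0 := by rwa [map_zero, pow_eq_zero_iff hn0] at hy
    rw [this]
    exact map_zero (algebraMap k F) ▸ isSeparable_algebraMap (0 : k)
  · refine (Polynomial.separable_X_pow_sub_C c hn hc).of_dvd (minpoly.dvd _ _ ?_)
    simp [hy]

/-- An algebra generated by roots of orders prime to the residue characteristic is tame along a parameter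
whose root generates a prime. -/
theorem tame_of_roots {A C : Type u} [CommRing A] [IsDomain A] [IsNoetherianRing A] [CommRing C] [IsDomain C]
    [IsNoetherianRing C] [Algebra A C] [Algebra.IsIntegral A C] {r : ℕ} (f : Fin r → A) (i : Fin r)
    [(Ideal.span {f i}).IsPrime] (hf0 : f i ≠ 0) (n : Fin r → ℕ) (hn : ∀ j, 1 ≤ n j)
    (hnκ : ∀ j, (n j : ResidueField (Localization.AtPrime (Ideal.span {f i}))) ≠ 0)
    (x : Fin r → C) (hx : ∀ j, x j ^ n j = algebraMap A C (f j)) (hgen : Algebra.adjoin A (Set.range x) = ⊤)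
    [(Ideal.span {x i}).IsPrime] (hinj : Function.Injective (algebraMap A C))
    (hht : ∀ P : Ideal C, P.IsPrime → (P.comap (algebraMap A C)).height = P.height)
    (q : Ideal C) [q.IsPrime] (hq : q.comap (algebraMap A C) = ⊥) :
    EtRam.IsTamelyRamified (Localization.AtPrime (Ideal.span {f i}))
      (SGA1.genericResidueMap (algebraMap A C) (Ideal.span {f i}) q hq) := by
  classical
  let O := Localization.AtPrime (Ideal.span {f i})
  obtain ⟨_, hO⟩ := isDVR_atPrime_span hf0
  let L := q.ResidueField
  have hq0 : q = ⊥ := Ideal.eq_bot_of_comap_eq_bot hq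
  have hLinj : Function.Injective (algebraMap C L) := by
    rw [RingHom.injective_iff_ker_eq_bot, Ideal.ker_algebraMap_residueField, hq0]
  have hgA : ∀ a : A, SGA1.genericResidueMap (algebraMap A C) (Ideal.span {f i}) q hq (algebraMap A O a) =
      algebraMap C L (algebraMap A C a) := fun a => IsLocalization.lift_eq _ a
  intro V hV
  letI : Algebra O V := (RingHom.codRestrict _ V hV.1).toAlgebra
  intro hloc
  haveI := hloc
  have hCV : ∀ c : C, algebraMap C L c ∈ V := fun c => by
    letI : Algebra A V := ((algebraMap O V).comp (algebraMap A O)).toAlgebra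
    haveI : IsScalarTower A V L := IsScalarTower.of_algebraMap_eq fun a =>
      ((IsScalarTower.algebraMap_apply A C L a).trans (hgA a).symm)
    obtain ⟨v, hv⟩ := (IsIntegrallyClosed.isIntegral_iff (R := V) (K := L)).mp
      ((Algebra.IsIntegral.isIntegral (R := A) c).map (IsScalarTower.toAlgHom A C L)).tower_top
    exact hv ▸ v.2
  let γ : C →+* V := (algebraMap C L).codRestrict V hCV
  have hγA : ∀ a : A, γ (algebraMap A C a) = algebraMap O V (algebraMap A O a) := fun a => Subtype.ext (hgA a).symm
  let β : V := γ (x i)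
  -- the prime of `C` cut out by `V`
  let P := (maximalIdeal V).comap γ
  have hPA : P.comap (algebraMap A C) = Ideal.span {f i} := by
    ext a
    rw [Ideal.mem_comap, Ideal.mem_comap, hγA, ← IsLocalization.AtPrime.to_map_mem_maximal_iff O (Ideal.span {f i}) a]
    exact ⟨fun h => fun hu => h (hu.map _), fun h => fun hu => h (hloc.map_nonunit _ hu)⟩
  have hxP : x i ∈ P := by
    refine (Ideal.IsPrime.mem_of_pow_mem (I := P) inferInstance (n i) ?_)
    rw [hx]
    exact hPA.ge (Ideal.mem_span_singleton_self _)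
  have hfi1 : (Ideal.span {f i}).height ≤ 1 := by
    refine Ideal.height_le_one_of_isPrincipal_of_mem_minimalPrimes (Ideal.span {f i}) _ ?_
    rw [Ideal.minimalPrimes_eq_subsingleton_self]
    rfl
  have hxi0 : x i ≠ 0 := fun h0 => hf0 (hinj (by rw [map_zero, ← hx, h0, zero_pow (Nat.one_le_iff_ne_zero.1 (hn i))]))
  have hP : P = Ideal.span {x i} := by
    have := comap_eq_span_of_height (A := C) (R := C) P hxi0 (by exact hxP)
      (by rw [Algebra.algebraMap_self, Ideal.comap_id, ← hht P inferInstance, hPA]; exact hfi1)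
    rwa [Algebra.algebraMap_self, Ideal.comap_id] at this
  have hunit : ∀ c : C, ¬ x i ∣ c → IsUnit (γ c) := fun c hc => by
    by_contra h
    exact hc (Ideal.mem_span_singleton.1 (hP ▸ h : c ∈ Ideal.span {x i}))
  have hxirr : Irreducible (x i) :=
    ((Ideal.span_singleton_prime hxi0).1 inferInstance).irreducible
  have hβm : β ∈ maximalIdeal V := hxP
  have hβ0 : β ≠ 0 := fun h => hxi0 (hLinj ((congrArg Subtype.val h).trans (map_zero _).symm))
  have hfac : ∀ v : V, v ≠ 0 → ∃ (k : ℕ) (c d : C), ¬ x i ∣ c ∧ ¬ x i ∣ d ∧ v * γ d = β ^ k * γ c := by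
    intro v hv
    obtain ⟨a, b, hb, hab⟩ := IsFractionRing.div_surjective (C ⧸ q) (v : L)
    obtain ⟨a, rfl⟩ := Ideal.Quotient.mk_surjective a
    obtain ⟨b, rfl⟩ := Ideal.Quotient.mk_surjective b
    have hb' : algebraMap (C ⧸ q) L (Ideal.Quotient.mk q b) ≠ 0 :=
      (map_ne_zero_iff _ (IsFractionRing.injective (C ⧸ q) L)).2 (nonZeroDivisors.ne_zero hb)
    have hab' : (v : L) * algebraMap C L b = algebraMap C L a := by
      rw [IsScalarTower.algebraMap_apply C (C ⧸ q) L, IsScalarTower.algebraMap_apply C (C ⧸ q) L,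
        Ideal.Quotient.algebraMap_eq, ← hab, div_mul_cancel₀ _ hb']
    have hb0 : b ≠ 0 := fun h0 => hb' (by rw [h0, map_zero, map_zero])
    have ha0 : a ≠ 0 := fun h0 => by
      rw [h0, map_zero, mul_eq_zero] at hab'
      rcases hab' with h | h
      · exact hv (Subtype.ext h)
      · exact hb0 (hLinj (h.trans (map_zero _).symm))
    obtain ⟨s, c, hc, rfl⟩ := WfDvdMonoid.max_power_factor ha0 hxirr
    obtain ⟨t, d, hd, rfl⟩ := WfDvdMonoid.max_power_factor hb0 hxirr
    have heq : v * (β ^ t * γ d) = β ^ s * γ c := by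
      rw [← map_pow, ← map_pow, ← map_mul, ← map_mul]
      exact Subtype.ext hab'
    rcases le_or_gt t s with hts | hts
    · refine ⟨s - t, c, d, hc, hd, mul_left_cancel₀ (pow_ne_zero t hβ0) ?_⟩
      rw [← mul_assoc (β ^ t) (β ^ (s - t)), ← pow_add, Nat.add_sub_cancel' hts, ← heq]
      ring
    · exfalso
      have h1 : β ^ (t - s) * (v * γ d) = γ c := mul_left_cancel₀ (pow_ne_zero s hβ0) (by
        rw [← mul_assoc (β ^ s), ← pow_add, Nat.add_sub_cancel' hts.le, ← heq]; ring)
      exact hβm (isUnit_pow_iff (Nat.sub_ne_zero_of_lt hts) |>.1 (isUnit_of_mul_isUnit_left (h1 ▸ hunit c hc)))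
  have hassoc : ∀ v : V, v ≠ 0 → ∃ k : ℕ, Associated (β ^ k) v := fun v hv => by
    obtain ⟨k, c, d, hc, hd, h⟩ := hfac v hv
    refine ⟨k, ((hunit c hc).mul (hunit d hd).unit⁻¹.isUnit).unit, ?_⟩
    rw [IsUnit.unit_spec, ← mul_assoc, ← h, mul_assoc, IsUnit.mul_val_inv, mul_one]
  have hmax : maximalIdeal V = Ideal.span {β} := by
    refine le_antisymm (fun v hv => ?_) ((Ideal.span_singleton_le_iff_mem _).2 hβm)
    rcases eq_or_ne v 0 with rfl | hv0
    · exact zero_mem _
    obtain ⟨k, u, hu⟩ := hassoc v hv0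
    rcases k.eq_zero_or_pos with rfl | hk
    · exact absurd (hu ▸ by simp : IsUnit v) hv
    · rw [← hu, Ideal.mem_span_singleton]
      exact (dvd_pow_self β hk.ne').mul_right _
  have hβirr : Irreducible β := by
    refine ⟨hβm, fun a b hab => ?_⟩
    by_contra hcon
    push Not at hcon
    obtain ⟨a', rfl⟩ := Ideal.mem_span_singleton.1 (hmax.le (hcon.1 : a ∈ maximalIdeal V))
    have h1 : β * 1 = β * (a' * b) := by rw [mul_one, ← mul_assoc]; exact hab
    exact hcon.2 (isUnit_of_mul_isUnit_right (mul_left_cancel₀ hβ0 h1 ▸ isUnit_one))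
  haveI : IsDiscreteValuationRing V :=
    IsDiscreteValuationRing.ofHasUnitMulPowIrreducibleFactorization ⟨β, hβirr, fun {v} hv => hassoc v hv⟩
  refine ⟨?_, fun p hp hc hdvd => ?_⟩
  · let F := separableClosure (ResidueField O) (ResidueField V)
    have hC : ∀ c : C, residue V (γ c) ∈ F := fun c => by
      have hc : c ∈ Algebra.adjoin A (Set.range x) := hgen ▸ Algebra.mem_top
      induction hc using Algebra.adjoin_induction with
      | mem z hz =>
        obtain ⟨j, rfl⟩ := hz
        refine mem_separableClosure_iff.2 (isSeparable_of_pow_eq (hnκ j) _ (residue O (algebraMap A O (f j))) ?_)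
        rw [← map_pow, ← map_pow, hx, hγA]
        rfl
      | algebraMap a =>
        rw [hγA, show residue V (algebraMap O V (algebraMap A O a)) =
          algebraMap (ResidueField O) (ResidueField V) (residue O (algebraMap A O a)) from rfl]
        exact F.algebraMap_mem _
      | add a b _ _ ha hb => rw [map_add, map_add]; exact add_mem ha hb
      | mul a b _ _ ha hb => rw [map_mul, map_mul]; exact mul_mem ha hb
    refine ⟨fun y => mem_separableClosure_iff.1 (?_ : y ∈ F)⟩
    obtain ⟨v, rfl⟩ := residue_surjective y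
    rcases eq_or_ne v 0 with rfl | hv
    · rw [map_zero]; exact zero_mem _
    obtain ⟨k, c, d, -, hd, h⟩ := hfac v hv
    have h' := congrArg (residue V) h
    rw [map_mul, map_mul] at h'
    rw [eq_div_of_mul_eq ((hunit d hd).map (residue V)).ne_zero h']
    refine div_mem (mul_mem ?_ (hC c)) (hC d)
    rw [map_pow]
    exact pow_mem (hC (x i)) k
  · rw [CohDer1.TameTower.ramificationIdx'_eq (algebraMap A O (f i)) hO β hβirr 1 (n i) (by
      rw [Units.val_one, one_mul, ← hγA, ← map_pow, hx])] at hdvd
    exact hnκ i ((CharP.cast_eq_zero_iff (ResidueField O) p _).2 hdvd)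

end Groth.Agent.TameKum
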