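import Groth.Agent.TameKum.BaseChange
import Groth.Agent.CohDer1.TameTower

/-!
# Base change of tame extensions: the two statements
-/

set_option autoImplicit false
set_option linter.style.haveILetI false
set_option maxHeartbeats 1000000
set_option backward.isDefEq.respectTransparency.types false
set_option backward.isDefEq.respectTransparency false

universe u

open Polynomial IsLocalRing TensorProduct

namespace Groth.Agent.TameKum

variable {A B K L K' : Type u} [CommRing A] [IsDomain A] [IsDiscreteValuationRing A] [CommRing B] [IsDomain B]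
  [IsDiscreteValuationRing B] [Algebra A B] [Field K] [Field L] [Field K'] [Algebra A K] [IsFractionRing A K]
  [Algebra B L] [IsFractionRing B L] [Algebra K L] [Algebra A L] [IsScalarTower A K L] [IsScalarTower A B L]
  [Algebra K K'] [FiniteDimensional K K'] [Algebra.IsSeparable K K']
  {F : Type u} [Field F] [Algebra (K' ⊗[K] L) F]

omit [IsDomain A] [IsDiscreteValuationRing A] [IsFractionRing A K] [FiniteDimensional K K'] [Algebra.IsSeparable K K'] [IsDomain B] [IsDiscreteValuationRing B] [IsFractionRing B L] in
theorem map_base (a : A) :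
    ((algebraMap (K' ⊗[K] L) F).comp Algebra.TensorProduct.includeLeftRingHom) (algebraMap K K' (algebraMap A K a)) =
      ((algebraMap (K' ⊗[K] L) F).comp (Algebra.TensorProduct.includeRight : L →ₐ[K] K' ⊗[K] L).toRingHom)
        (algebraMap B L (algebraMap A B a)) := by
  rw [← IsScalarTower.algebraMap_apply A B L, IsScalarTower.algebraMap_apply A K L]
  refine congrArg (algebraMap (K' ⊗[K] L) F) ?_
  show (Algebra.TensorProduct.includeLeft : K' →ₐ[K] K' ⊗[K] L) (algebraMap K K' _) =
    (Algebra.TensorProduct.includeRight : L →ₐ[K] K' ⊗[K] L) (algebraMap K L _)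
  rw [AlgHom.commutes, AlgHom.commutes]

/-- Base change of an extension all of whose ramification indices are one. -/
theorem unramified_baseChange_of_one (h : EtRam.IsTamelyRamified A ((algebraMap K K').comp (algebraMap A K)))
    (h1 : ∀ (V : ValuationSubring K') (hV : EtRam.Dominates A ((algebraMap K K').comp (algebraMap A K)) V),
      (letI : Algebra A V := (RingHom.codRestrict _ V hV.1).toAlgebra
       Ideal.ramificationIdx' (maximalIdeal A) (maximalIdeal V)) ∣ 1)
    (hF : Function.Surjective (algebraMap (K' ⊗[K] L) F)) :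
    EtRam.IsUnramifiedExt B ((algebraMap (K' ⊗[K] L) F).comp
      ((Algebra.TensorProduct.includeRight : L →ₐ[K] K' ⊗[K] L).toRingHom.comp (algebraMap B L))) := by
  letI : Algebra L F := ((algebraMap (K' ⊗[K] L) F).comp
    (Algebra.TensorProduct.includeRight : L →ₐ[K] K' ⊗[K] L).toRingHom).toAlgebra
  obtain ⟨_, _, hgen⟩ := exists_finite_separable hF
  letI : Algebra B F := ((algebraMap L F).comp (algebraMap B L)).toAlgebra
  haveI : IsScalarTower B L F := IsScalarTower.of_algebraMap_eq fun _ => rfl
  obtain ⟨π, hπ⟩ := IsDiscreteValuationRing.exists_irreducible A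
  haveI : Algebra.FormallyUnramified B (integralClosure B F) := by
    refine unramified_compositum_of_algebra h hπ.maximalIdeal_eq 1 one_pos (by rw [Nat.cast_one]; exact one_ne_zero) h1
      (K' := L) (M := F) (E0 := B) (algebraMap A B) (algebraMap A B π) (pow_one _) (Algebra.ofId B F)
      ((algebraMap (K' ⊗[K] L) F).comp Algebra.TensorProduct.includeLeftRingHom) (fun a => map_base a) ?_
    rw [eq_top_iff, ← hgen]
    exact Subfield.closure_mono (Set.union_subset_union_left _ Set.subset_union_left)
  exact isUnramifiedExt_of_formallyUnramified (O' := B) (K' := L) (M := F)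

variable [IsLocalHom (algebraMap A B)]

/-- Base change of tame extensions. -/
theorem tame_baseChange (hinj : Function.Injective (algebraMap A B))
    (h : EtRam.IsTamelyRamified A ((algebraMap K K').comp (algebraMap A K)))
    (hF : Function.Surjective (algebraMap (K' ⊗[K] L) F)) :
    EtRam.IsTamelyRamified B ((algebraMap (K' ⊗[K] L) F).comp
      ((Algebra.TensorProduct.includeRight : L →ₐ[K] K' ⊗[K] L).toRingHom.comp (algebraMap B L))) := by
  classical
  letI : Algebra L F := ((algebraMap (K' ⊗[K] L) F).comp
    (Algebra.TensorProduct.includeRight : L →ₐ[K] K' ⊗[K] L).toRingHom).toAlgebra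
  obtain ⟨_, _, hgen⟩ := exists_finite_separable hF
  obtain ⟨n, hn0, hnA, hn⟩ := exists_exponent h
  rcases Nat.lt_or_ge n 2 with hlt | h2
  · obtain rfl : n = 1 := by omega
    exact tame_of_isUnramifiedExt (O := B) (K := L) (L := F) (unramified_baseChange_of_one h hn hF)
  show EtRam.IsTamelyRamified B ((algebraMap L F).comp (algebraMap B L))
  obtain ⟨π, hπ⟩ := IsDiscreteValuationRing.exists_irreducible A
  obtain ⟨τ, hτ⟩ := IsDiscreteValuationRing.exists_irreducible B
  obtain ⟨m, v, hv⟩ := IsDiscreteValuationRing.eq_unit_mul_pow_irreducible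
    ((map_ne_zero_iff _ hinj).2 hπ.ne_zero) hτ
  have hnUA : IsUnit (n : A) := by
    by_contra hn'
    exact hnA (by rw [← map_natCast (residue A)]; exact (residue_eq_zero_iff _).2 hn')
  have hnUB : IsUnit (n : B) := map_natCast (algebraMap A B) n ▸ hnUA.map _
  have hnB : (n : ResidueField B) ≠ 0 := map_natCast (residue B) n ▸ (hnUB.map (residue B)).ne_zero
  have hnF : (n : L) ≠ 0 := map_natCast (algebraMap B L) n ▸ (hnUB.map (algebraMap B L)).ne_zero
  let Ω := AlgebraicClosure F
  obtain ⟨y, hy⟩ := IsAlgClosed.exists_pow_nat_eq (algebraMap F Ω (algebraMap L F (algebraMap B L τ))) hn0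
  obtain ⟨w, hw⟩ := IsAlgClosed.exists_pow_nat_eq (algebraMap F Ω (algebraMap L F (algebraMap B L v))) hn0
  have hsep : ∀ (z : Ω) (c : B), c ≠ 0 → z ^ n = algebraMap F Ω (algebraMap L F (algebraMap B L c)) → IsSeparable F z := by
    intro z c hc hz
    have hc' : algebraMap L F (algebraMap B L c) ≠ 0 :=
      (_root_.map_ne_zero _).2 ((map_ne_zero_iff _ (IsFractionRing.injective B L)).2 hc)
    exact (separable_X_pow_sub_C _ (by rw [← map_natCast (algebraMap L F)]; exact (_root_.map_ne_zero _).2 hnF) hc').of_dvd
      (minpoly.dvd _ _ (by simp [hz]))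
  let M := IntermediateField.adjoin F ({y, w} : Set Ω)
  haveI : FiniteDimensional F M := by
    refine IntermediateField.finiteDimensional_adjoin ?_
    rintro z (rfl | rfl)
    · exact (hsep z τ hτ.ne_zero hy).isIntegral
    · exact (hsep z v v.ne_zero hw).isIntegral
  haveI : Algebra.IsSeparable F M := by
    rw [IntermediateField.isSeparable_adjoin_iff_isSeparable]
    rintro z (rfl | rfl)
    · exact hsep z τ hτ.ne_zero hy
    · exact hsep z v v.ne_zero hw
  haveI : FiniteDimensional L M := FiniteDimensional.trans L F M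
  haveI : Algebra.IsSeparable L M := Algebra.IsSeparable.trans L F M
  let yM : M := ⟨y, IntermediateField.subset_adjoin F _ (Or.inl rfl)⟩
  let wM : M := ⟨w, IntermediateField.subset_adjoin F _ (Or.inr rfl)⟩
  obtain ⟨-, _, _, -, -, -⟩ := S1987.result B τ hτ n h2
  let C1 := AdjoinRoot (X ^ n - C τ : B[X])
  have hm1 : (X ^ n - C τ : B[X]).Monic := monic_X_pow_sub_C τ hn0.ne'
  haveI : Module.Finite B C1 := hm1.finite_adjoinRoot
  let g := AdjoinRoot.lift ((algebraMap L M).comp (algebraMap B L)) yM (f := X ^ n - C τ) (by
    rw [eval₂_sub, eval₂_X_pow, eval₂_C, sub_eq_zero]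
    exact Subtype.ext hy)
  have hg : ∀ b, g (algebraMap B C1 b) = algebraMap L M (algebraMap B L b) := fun b => AdjoinRoot.lift_of _
  have hginj : Function.Injective g := by
    rw [RingHom.injective_iff_ker_eq_bot]
    refine Ideal.eq_bot_of_comap_eq_bot (R := B) ?_
    rw [RingHom.comap_ker, ← RingHom.injective_iff_ker_eq_bot]
    intro a b hab
    rw [RingHom.comp_apply, RingHom.comp_apply, hg, hg] at hab
    exact IsFractionRing.injective B L ((algebraMap L M).injective hab)
  letI : Algebra C1 M := g.toAlgebra
  let K'' := FractionRing C1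
  letI : Algebra K'' M := (IsFractionRing.lift hginj : K'' →+* M).toAlgebra
  haveI : IsScalarTower C1 K'' M :=
    IsScalarTower.of_algebraMap_eq (R := C1) (S := K'') (A := M) fun c => (IsFractionRing.lift_algebraMap hginj c).symm
  have hinjC : Function.Injective ((algebraMap C1 K'').comp (algebraMap B C1)) := by
    intro a b hab
    have h' := congrArg (algebraMap K'' M) hab
    rw [RingHom.comp_apply, RingHom.comp_apply, ← IsScalarTower.algebraMap_apply C1 K'' M,
      ← IsScalarTower.algebraMap_apply C1 K'' M] at h'
    exact IsFractionRing.injective B L ((algebraMap L M).injective ((hg a).symm.trans (h'.trans (hg b))))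
  letI : Algebra L K'' := (IsFractionRing.lift hinjC : L →+* K'').toAlgebra
  haveI : IsScalarTower L K'' M := IsScalarTower.of_algebraMap_eq' (IsLocalization.ringHom_ext (nonZeroDivisors B)
    (RingHom.ext fun b => by
      rw [RingHom.comp_apply, RingHom.comp_apply, RingHom.comp_apply,
        show algebraMap L K'' (algebraMap B L b) = algebraMap C1 K'' (algebraMap B C1 b) from
          IsFractionRing.lift_algebraMap hinjC b, ← IsScalarTower.algebraMap_apply C1 K'' M]
      exact (hg b).symm))
  haveI : FiniteDimensional K'' M := Module.Finite.right L K'' M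
  haveI : Algebra.IsSeparable K'' M := Algebra.isSeparable_tower_top_of_isSeparable L K'' M
  let vC : C1ˣ := Units.map (algebraMap B C1).toMonoidHom v
  let E0 := AdjoinRoot (X ^ n - C (vC : C1))
  haveI : Algebra.Etale C1 E0 := SmoothLib.etale_adjoinRoot_of_separable _ (monic_X_pow_sub_C _ hn0.ne')
    (separable_X_pow_sub_C_unit vC (map_natCast (algebraMap B C1) n ▸ hnUB.map _))
  haveI : Module.Finite C1 E0 := (monic_X_pow_sub_C _ hn0.ne').finite_adjoinRoot
  let ν : E0 →ₐ[C1] M := AdjoinRoot.liftAlgHom _ (Algebra.ofId C1 M) wM (by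
    rw [eval₂_sub, eval₂_X_pow, eval₂_C, sub_eq_zero]
    refine Subtype.ext ?_
    show w ^ n = (g (algebraMap B C1 v) : Ω)
    rw [hg]
    exact hw)
  have hνC : ∀ c, ν (algebraMap C1 E0 c) = g c := ν.commutes
  have hroot1 : (AdjoinRoot.root (X ^ n - C τ) : C1) ^ n = algebraMap B C1 τ := root_pow τ n
  have hroot0 : (AdjoinRoot.root (X ^ n - C (vC : C1)) : E0) ^ n = algebraMap C1 E0 vC := by
    have := AdjoinRoot.eval₂_root (X ^ n - C (vC : C1))
    rwa [eval₂_sub, eval₂_X_pow, eval₂_C, sub_eq_zero] at this
  haveI : Algebra.FormallyUnramified C1 (integralClosure C1 M) := by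
    refine unramified_compositum_of_algebra h hπ.maximalIdeal_eq n hn0 hnA hn (O' := C1) (K' := K'') (M := M) (E0 := E0)
      (((algebraMap C1 E0).comp (algebraMap B C1)).comp (algebraMap A B))
      (AdjoinRoot.root _ * algebraMap C1 E0 (AdjoinRoot.root _) ^ m) ?_ ν
      ((algebraMap F M).comp ((algebraMap (K' ⊗[K] L) F).comp Algebra.TensorProduct.includeLeftRingHom)) ?_ ?_
    · rw [mul_pow, hroot0, ← pow_mul, mul_comm m n, pow_mul, ← map_pow, hroot1, RingHom.comp_apply, RingHom.comp_apply,
        hv, map_mul, map_mul, map_pow, map_pow]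
      rfl
    · intro a
      rw [RingHom.comp_apply (algebraMap F M), map_base (B := B), RingHom.comp_apply ((algebraMap C1 E0).comp _),
        RingHom.comp_apply (algebraMap C1 E0), hνC, hg]
      exact (IsScalarTower.algebraMap_apply L F M _).symm
    · rw [eq_top_iff]
      rintro ⟨z, hz⟩ -
      let S := Subfield.closure (Set.range ((algebraMap F M).comp ((algebraMap (K' ⊗[K] L) F).comp
        Algebra.TensorProduct.includeLeftRingHom)) ∪ Set.range ν ∪ Set.range (algebraMap K'' M))
      show (⟨z, hz⟩ : M) ∈ S
      have hFS : ∀ f : F, algebraMap F M f ∈ S := by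
        intro f
        have hle : (⊤ : Subfield F) ≤ S.comap (algebraMap F M) := by
          rw [← hgen, Subfield.closure_le]
          rintro _ (⟨a, rfl⟩ | ⟨l, rfl⟩)
          · exact Subfield.subset_closure (Or.inl (Or.inl ⟨a, rfl⟩))
          · refine Subfield.subset_closure (Or.inr ⟨algebraMap L K'' l, ?_⟩)
            rw [← IsScalarTower.algebraMap_apply L K'' M, ← IsScalarTower.algebraMap_apply L F M]
        exact hle (Subfield.mem_top f)
      induction hz using IntermediateField.adjoin_induction with
      | mem x hx =>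
        rcases hx with rfl | rfl
        · refine Subfield.subset_closure (Or.inr ⟨algebraMap C1 K'' (AdjoinRoot.root _), ?_⟩)
          rw [← IsScalarTower.algebraMap_apply C1 K'' M]
          exact AdjoinRoot.lift_root _
        · exact Subfield.subset_closure (Or.inl (Or.inr ⟨AdjoinRoot.root _, AdjoinRoot.liftAlgHom_root _ _ _ _⟩))
      | algebraMap f => exact hFS f
      | add a b _ _ ha hb => exact add_mem ha hb
      | inv a _ ha => exact inv_mem ha
      | mul a b _ _ ha hb => exact mul_mem ha hb
  refine (CohDer1.TameTower.main B L F M).1 ?_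
  exact tame_of_unramified (A := B) (K := L) (L := M) hτ.maximalIdeal_eq n hn0 hnB (RingHom.ext hg)
    (isUnramifiedExt_of_formallyUnramified (O' := C1) (K' := K'') (M := M))

end Groth.Agent.TameKum
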