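import Groth.Agent.TameKum.Field
import Mathlib.RingTheory.AdjoinRoot
import Mathlib.FieldTheory.IsAlgClosed.AlgebraicClosure
import Mathlib.RingTheory.IntegralClosure.IntegralRestrict

/-!
# Tameness and unramified Kummer base change
-/

set_option autoImplicit false
set_option linter.style.haveILetI false

universe u

open Polynomial IsLocalRing

namespace Groth.Agent.TameKum

variable {A : Type u} [CommRing A] [IsDomain A] [IsDiscreteValuationRing A]

theorem root_pow (π : A) (e : ℕ) :
    (AdjoinRoot.root (X ^ e - C π : A[X])) ^ e = AdjoinRoot.of (X ^ e - C π) π := by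
  have := AdjoinRoot.eval₂_root (X ^ e - C π : A[X])
  rwa [eval₂_sub, eval₂_X_pow, eval₂_C, sub_eq_zero] at this

theorem exists_rep (π : A) (e : ℕ) (x : AdjoinRoot (X ^ e - C π : A[X])) :
    ∃ a : A, ∃ y, x = algebraMap A _ a + AdjoinRoot.root (X ^ e - C π) * y := by
  obtain ⟨q, rfl⟩ := AdjoinRoot.mk_surjective x
  obtain ⟨r, hr⟩ := X_dvd_sub_C (p := q)
  refine ⟨q.coeff 0, AdjoinRoot.mk _ r, ?_⟩
  rw [AdjoinRoot.algebraMap_eq, ← AdjoinRoot.mk_C, ← AdjoinRoot.mk_X, ← map_mul, ← map_add, ← hr]
  simp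

theorem isLocalHom_adjoinRoot (π : A) (e : ℕ) (he : 0 < e) :
    IsLocalHom (algebraMap A (AdjoinRoot (X ^ e - C π : A[X]))) := by
  have hm : (X ^ e - C π : A[X]).Monic := monic_X_pow_sub_C π he.ne'
  haveI := hm.free_adjoinRoot
  haveI := hm.finite_adjoinRoot
  haveI : Nontrivial (AdjoinRoot (X ^ e - C π : A[X])) := AdjoinRoot.nontrivial _ (by
    rw [degree_X_pow_sub_C he]
    exact_mod_cast he.ne')
  exact Algebra.IsIntegral.isLocalHom A _

/-- The maximal ideal of `A[z]/(z ^ e - π)` is generated by `z`. -/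
theorem maximal_eq {π : A} (hπ : maximalIdeal A = Ideal.span {π}) (e : ℕ) (he : 0 < e)
    (P : Ideal (AdjoinRoot (X ^ e - C π : A[X]))) [P.IsMaximal] :
    P = Ideal.span {AdjoinRoot.root (X ^ e - C π)} := by
  have hm : (X ^ e - C π : A[X]).Monic := monic_X_pow_sub_C π he.ne'
  haveI := hm.finite_adjoinRoot
  haveI := Ideal.isMaximal_comap_of_isIntegral_of_isMaximal (R := A) P
  have hc : P.comap (algebraMap A _) = maximalIdeal A := IsLocalRing.eq_maximalIdeal inferInstance
  have hroot : AdjoinRoot.root (X ^ e - C π : A[X]) ∈ P := by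
    refine (Ideal.IsMaximal.isPrime ‹_›).mem_of_pow_mem e ?_
    rw [root_pow]
    have : π ∈ P.comap (algebraMap A _) := by rw [hc, hπ]; exact Ideal.mem_span_singleton_self π
    exact this
  refine le_antisymm (fun x hx => ?_) ((Ideal.span_singleton_le_iff_mem _).2 hroot)
  obtain ⟨a, y, rfl⟩ := exists_rep π e x
  have ha : a ∈ maximalIdeal A := by
    rw [← hc]
    exact (Ideal.add_mem_iff_left P (P.mul_mem_right y hroot)).1 hx
  rw [hπ, Ideal.mem_span_singleton] at ha
  obtain ⟨c, rfl⟩ := ha
  refine Ideal.add_mem _ ?_ (Ideal.mul_mem_right _ _ (Ideal.mem_span_singleton_self _))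
  rw [map_mul, AdjoinRoot.algebraMap_eq, ← root_pow]
  exact Ideal.mul_mem_right _ _ (Ideal.pow_mem_of_mem _ (Ideal.mem_span_singleton_self _) _ he)

theorem isLocalRing_adjoinRoot {π : A} (hπ : maximalIdeal A = Ideal.span {π}) (e : ℕ) (he : 0 < e) :
    IsLocalRing (AdjoinRoot (X ^ e - C π : A[X])) := by
  haveI : Nontrivial (AdjoinRoot (X ^ e - C π : A[X])) := AdjoinRoot.nontrivial _ (by
    rw [degree_X_pow_sub_C he]
    exact_mod_cast he.ne')
  obtain ⟨P, hP⟩ := Ideal.exists_maximal (AdjoinRoot (X ^ e - C π : A[X]))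
  exact IsLocalRing.of_unique_max_ideal ⟨P, hP, fun Q hQ => by
    rw [@maximal_eq _ _ _ _ π hπ e he Q hQ, @maximal_eq _ _ _ _ π hπ e he P hP]⟩

variable {K L : Type u} [Field K] [Algebra A K] [IsFractionRing A K] [Field L] [Algebra K L]
  [FiniteDimensional K L] [Algebra.IsSeparable K L]

/-- A tame extension becomes unramified after adjoining a suitable root of the uniformiser. -/
theorem exists_unramified (h : EtRam.IsTamelyRamified A ((algebraMap K L).comp (algebraMap A K)))
    {π : A} (hπ : maximalIdeal A = Ideal.span {π}) (e : ℕ) (he : 0 < e) (heA : (e : ResidueField A) ≠ 0)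
    (hn : ∀ (V : ValuationSubring L) (hV : EtRam.Dominates A ((algebraMap K L).comp (algebraMap A K)) V),
      (letI : Algebra A V := (RingHom.codRestrict _ V hV.1).toAlgebra
       Ideal.ramificationIdx' (maximalIdeal A) (maximalIdeal V)) ∣ e) :
    ∃ (L' : Type u) (_ : Field L') (_ : Algebra K L')
      (_ : Algebra (AdjoinRoot (X ^ e - C π : A[X])) L') (_ : L →ₐ[K] L'),
      FiniteDimensional K L' ∧ Algebra.IsSeparable K L' ∧
      (algebraMap (AdjoinRoot (X ^ e - C π : A[X])) L').comp (AdjoinRoot.of (X ^ e - C π)) =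
        (algebraMap K L').comp (algebraMap A K) ∧
      ∀ [IsLocalRing (AdjoinRoot (X ^ e - C π : A[X]))],
        EtRam.IsUnramifiedExt (AdjoinRoot (X ^ e - C π : A[X]))
          (algebraMap (AdjoinRoot (X ^ e - C π : A[X])) L') := by
  have hπirr : Irreducible π := (IsDiscreteValuationRing.irreducible_iff_uniformizer π).2 hπ
  have hπK : algebraMap A K π ≠ 0 := (map_ne_zero_iff _ (IsFractionRing.injective A K)).2 hπirr.ne_zero
  let c : L := algebraMap K L (algebraMap A K π)
  obtain ⟨α, hα⟩ := IsAlgClosed.exists_pow_nat_eq (algebraMap L (AlgebraicClosure L) c) he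
  have heL : (e : L) ≠ 0 := by
    have h1 : (e : A) ≠ 0 := fun h0 => heA (by rw [← map_natCast (residue A), h0, map_zero])
    rw [← map_natCast (algebraMap K L)]
    refine (_root_.map_ne_zero _).2 ?_
    rw [← map_natCast (algebraMap A K)]
    exact (map_ne_zero_iff _ (IsFractionRing.injective A K)).2 h1
  have hroot : aeval α (X ^ e - C c : L[X]) = 0 := by simp [hα]
  have hint : IsIntegral L α := ⟨_, monic_X_pow_sub_C c he.ne', hroot⟩
  have hsep : IsSeparable L α :=
    (separable_X_pow_sub_C c heL ((_root_.map_ne_zero _).2 hπK)).of_dvd (minpoly.dvd _ _ hroot)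
  let M := IntermediateField.adjoin L ({α} : Set (AlgebraicClosure L))
  haveI : FiniteDimensional L M := IntermediateField.adjoin.finiteDimensional hint
  haveI : Algebra.IsSeparable L M := (IntermediateField.isSeparable_adjoin_simple_iff_isSeparable L _).2 hsep
  haveI : FiniteDimensional K M := FiniteDimensional.trans K L M
  haveI : Algebra.IsSeparable K M := Algebra.IsSeparable.trans K L M
  let αM : M := IntermediateField.AdjoinSimple.gen L α
  have hαM : αM ^ e = algebraMap K M (algebraMap A K π) := by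
    rw [IsScalarTower.algebraMap_apply K L M]
    refine Subtype.ext ?_
    rw [SubmonoidClass.coe_pow, IntermediateField.AdjoinSimple.coe_gen, hα]
    rfl
  let g := AdjoinRoot.lift ((algebraMap K M).comp (algebraMap A K)) αM (f := X ^ e - C π) (by
    rw [eval₂_sub, eval₂_X_pow, eval₂_C, hαM, RingHom.comp_apply, sub_self])
  have hgen : Subfield.closure (Set.range (algebraMap L M) ∪ {αM}) = ⊤ := by
    have := congrArg IntermediateField.toSubfield
      (IntermediateField.lift_injective M (show IntermediateField.lift (IntermediateField.adjoin L {αM}) =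
        IntermediateField.lift (⊤ : IntermediateField L M) by
          rw [IntermediateField.lift_adjoin, Set.image_singleton, IntermediateField.lift_top]; rfl))
    exact this
  refine ⟨M, inferInstance, inferInstance, g.toAlgebra, IsScalarTower.toAlgHom K L M, inferInstance,
    inferInstance, ?_, ?_⟩
  · refine RingHom.ext fun a => ?_
    show g (AdjoinRoot.of _ a) = _
    exact AdjoinRoot.lift_of _
  intro _ W hW
  letI : Algebra (AdjoinRoot (X ^ e - C π : A[X])) W := (RingHom.codRestrict g W hW.1).toAlgebra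
  intro hlocW
  haveI := hlocW
  haveI := isLocalHom_adjoinRoot π e he
  have hgA : ∀ a, g (algebraMap A _ a) = algebraMap K M (algebraMap A K a) := fun a => AdjoinRoot.lift_of _
  have hWA : EtRam.Dominates A ((algebraMap K M).comp (algebraMap A K)) W := by
    refine ⟨fun a => ?_, fun a ha => ?_⟩
    · rw [RingHom.comp_apply, ← hgA]; exact hW.1 _
    · rw [RingHom.comp_apply, ← hgA]
      exact hW.2 _ fun hu => ha (IsLocalHom.map_nonunit (f := algebraMap A (AdjoinRoot (X ^ e - C π : A[X]))) a hu)
  obtain ⟨hαW, hmax, hsepW⟩ := unramified_of_kummer h hπirr e he hn M αM hαM hgen W hWA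
  have hrt : algebraMap (AdjoinRoot (X ^ e - C π : A[X])) W (AdjoinRoot.root _) = ⟨αM, hαW⟩ :=
    Subtype.ext (AdjoinRoot.lift_root _)
  refine ⟨le_antisymm (((local_hom_TFAE _).out 0 2).mp hlocW) ?_, ?_⟩
  · rw [hmax, Ideal.span_singleton_le_iff_mem, ← hrt]
    refine Ideal.mem_map_of_mem _ fun hu => ?_
    have hm : (⟨αM, hαW⟩ : W) ∈ maximalIdeal W := hmax ▸ Ideal.mem_span_singleton_self _
    exact hm (hrt ▸ hu.map _)
  · letI : Algebra A W := (RingHom.codRestrict _ W hWA.1).toAlgebra
    haveI : IsLocalHom (algebraMap A W) := isLocalHom_of_dominates hWA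
    haveI : IsScalarTower A (AdjoinRoot (X ^ e - C π : A[X])) W :=
      IsScalarTower.of_algebraMap_eq fun a => Subtype.ext (hgA a).symm
    haveI : Algebra.IsSeparable (ResidueField A) (ResidueField W) := hsepW
    exact Algebra.isSeparable_tower_top_of_isSeparable (ResidueField A)
      (ResidueField (AdjoinRoot (X ^ e - C π : A[X]))) (ResidueField W)

/-- An extension unramified over a tame Kummer extension is tame. -/
theorem tame_of_unramified {π : A} (hπ : maximalIdeal A = Ideal.span {π}) (e : ℕ) (he : 0 < e)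
    (heA : (e : ResidueField A) ≠ 0) [Algebra (AdjoinRoot (X ^ e - C π : A[X])) L]
    (hcomp : (algebraMap (AdjoinRoot (X ^ e - C π : A[X])) L).comp (AdjoinRoot.of (X ^ e - C π)) =
      (algebraMap K L).comp (algebraMap A K))
    (h : ∀ [IsLocalRing (AdjoinRoot (X ^ e - C π : A[X]))],
      EtRam.IsUnramifiedExt (AdjoinRoot (X ^ e - C π : A[X])) (algebraMap (AdjoinRoot (X ^ e - C π : A[X])) L)) :
    EtRam.IsTamelyRamified A ((algebraMap K L).comp (algebraMap A K)) := by
  haveI := isLocalRing_adjoinRoot hπ e he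
  haveI := isLocalHom_adjoinRoot π e he
  have hπirr : Irreducible π := (IsDiscreteValuationRing.irreducible_iff_uniformizer π).2 hπ
  intro V hV
  letI : Algebra A V := (RingHom.codRestrict _ V hV.1).toAlgebra
  intro hlocV
  haveI := hlocV
  haveI := CohDer1.TameTower.isDVR_of_dominates A K L V hV
  have hA' : maximalIdeal (AdjoinRoot (X ^ e - C π : A[X])) = Ideal.span {AdjoinRoot.root _} :=
    maximal_eq hπ e he _
  let g := algebraMap (AdjoinRoot (X ^ e - C π : A[X])) L
  have hg : ∀ a, g (algebraMap A _ a) = algebraMap K L (algebraMap A K a) := fun a => congr($hcomp a)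
  have hm : (X ^ e - C π : A[X]).Monic := monic_X_pow_sub_C π he.ne'
  haveI := hm.finite_adjoinRoot
  have hmem : ∀ x, g x ∈ V := fun x => by
    letI : Algebra A L := ((algebraMap K L).comp (algebraMap A K)).toAlgebra
    haveI : IsScalarTower A V L := IsScalarTower.of_algebraMap_eq fun _ => rfl
    let gA : AdjoinRoot (X ^ e - C π : A[X]) →ₐ[A] L := { g with commutes' := hg }
    obtain ⟨v, hv⟩ := (IsIntegrallyClosed.isIntegral_iff (R := V) (K := L)).mp
      ((Algebra.IsIntegral.isIntegral (R := A) x).map gA).tower_top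
    exact hv ▸ v.2
  let β : V := ⟨g (AdjoinRoot.root _), hmem _⟩
  have hβ : algebraMap A V π = β ^ e := Subtype.ext (by
    show algebraMap K L (algebraMap A K π) = g (AdjoinRoot.root _) ^ e
    rw [← hg, ← map_pow, root_pow]
    rfl)
  have hβm : β ∈ maximalIdeal V := by
    refine (maximalIdeal.isMaximal V).isPrime.mem_of_pow_mem e (hβ ▸ ?_)
    exact fun hu => hπirr.not_isUnit (hlocV.map_nonunit _ hu)
  have hV' : EtRam.Dominates (AdjoinRoot (X ^ e - C π : A[X])) g V := by
    refine ⟨hmem, fun x hx => ?_⟩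
    rw [hA', Ideal.mem_span_singleton] at hx
    obtain ⟨y, rfl⟩ := hx
    have : (⟨g (AdjoinRoot.root _ * y), hmem _⟩ : V) = β * ⟨g y, hmem y⟩ := Subtype.ext (map_mul g _ _)
    exact (V.valuation_lt_one_iff ⟨_, hmem _⟩).1 (this ▸ Ideal.mul_mem_right _ _ hβm)
  letI : Algebra (AdjoinRoot (X ^ e - C π : A[X])) V := (RingHom.codRestrict g V hV'.1).toAlgebra
  haveI : IsLocalHom (algebraMap (AdjoinRoot (X ^ e - C π : A[X])) V) := isLocalHom_of_dominates hV'
  obtain ⟨hun, hsep⟩ := @h _ V hV' _
  have hmaxV : maximalIdeal V = Ideal.span {β} := by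
    rw [← (hun : _ = maximalIdeal V), hA', Ideal.map_span, Set.image_singleton]
    rfl
  have hβirr : Irreducible β := (IsDiscreteValuationRing.irreducible_iff_uniformizer β).2 hmaxV
  haveI : IsScalarTower A (AdjoinRoot (X ^ e - C π : A[X])) V :=
    IsScalarTower.of_algebraMap_eq fun a => Subtype.ext (hg a).symm
  refine ⟨?_, fun p hp hc hdvd => ?_⟩
  · have hsurj : Function.Surjective (algebraMap (ResidueField A) (ResidueField (AdjoinRoot (X ^ e - C π : A[X])))) := by
      intro x
      obtain ⟨x, rfl⟩ := residue_surjective x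
      obtain ⟨a, y, rfl⟩ := exists_rep π e x
      refine ⟨residue A a, ?_⟩
      rw [map_add, map_mul, (residue_eq_zero_iff (AdjoinRoot.root _)).2 (hA' ▸ Ideal.mem_span_singleton_self _),
        zero_mul, add_zero]
      rfl
    haveI : Algebra.IsSeparable (ResidueField (AdjoinRoot (X ^ e - C π : A[X]))) (ResidueField V) := hsep
    haveI : Algebra.IsSeparable (ResidueField A) (ResidueField (AdjoinRoot (X ^ e - C π : A[X]))) :=
      ⟨fun x => by obtain ⟨y, rfl⟩ := hsurj x; exact isSeparable_algebraMap y⟩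
    exact Algebra.IsSeparable.trans (ResidueField A) (ResidueField (AdjoinRoot (X ^ e - C π : A[X]))) (ResidueField V)
  · rw [CohDer1.TameTower.ramificationIdx'_eq π hπ β hβirr 1 e (by simpa using hβ)] at hdvd
    exact heA ((CharP.cast_eq_zero_iff (ResidueField A) p e).2 hdvd)

end Groth.Agent.TameKum
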