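import Groth.Agent.TameKum.Local
import Groth.Agent.TameKum.Iff
import Groth.Agent.SmoothLib.Monogenic
import Groth.Agent.S1987

/-!
# Base change of tame and unramified extensions along an extension of discrete valuation rings
-/

set_option autoImplicit false
set_option linter.style.haveILetI false
set_option maxHeartbeats 1000000
set_option backward.isDefEq.respectTransparency.types false
set_option backward.isDefEq.respectTransparency false

universe u

open Polynomial IsLocalRing TensorProduct

namespace Groth.Agent.TameKum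

/-- If the integral closure is formally unramified, the extension is unramified. -/
theorem isUnramifiedExt_of_formallyUnramified {O' K' M : Type u} [CommRing O'] [IsDomain O'] [IsDiscreteValuationRing O']
    [Field K'] [Algebra O' K'] [IsFractionRing O' K'] [Field M] [Algebra K' M] [Algebra O' M] [IsScalarTower O' K' M]
    [FiniteDimensional K' M] [Algebra.IsSeparable K' M] [Algebra.FormallyUnramified O' (integralClosure O' M)] :
    EtRam.IsUnramifiedExt O' (algebraMap O' M) := by
  intro W hW
  letI : Algebra O' W := (RingHom.codRestrict _ W hW.1).toAlgebra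
  intro hloc
  haveI := hloc
  haveI : IsScalarTower O' W M := IsScalarTower.of_algebraMap_eq fun _ => rfl
  let D := integralClosure O' M
  haveI : IsDedekindDomain D := IsIntegralClosure.isDedekindDomain O' K' M D
  haveI : IsFractionRing D M := integralClosure.isFractionRing_of_finite_extension K' M
  haveI : Module.Finite O' D := IsIntegralClosure.finite O' K' M D
  have hDW : ∀ d : D, (d : M) ∈ W := fun d => by
    obtain ⟨w, hw⟩ := (IsIntegrallyClosed.isIntegral_iff (R := W) (K := M)).mp
      (show IsIntegral W (d : M) from d.2.tower_top)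
    exact hw ▸ w.2
  let γ : D →ₐ[O'] W := { (D.val.toRingHom).codRestrict W hDW with commutes' := fun a => Subtype.ext rfl }
  let q := (maximalIdeal W).comap γ.toRingHom
  have hq0 : q ≠ ⊥ := fun h0 => by
    obtain ⟨π, hπ⟩ := IsDiscreteValuationRing.exists_irreducible O'
    have hmem : algebraMap O' D π ∈ q := by
      show γ (algebraMap O' D π) ∈ maximalIdeal W
      rw [γ.commutes]
      exact fun hu => hπ.not_isUnit (hloc.map_nonunit _ hu)
    rw [h0, Ideal.mem_bot] at hmem
    have h1 : algebraMap O' M π = 0 := congrArg Subtype.val hmem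
    rw [IsScalarTower.algebraMap_apply O' K' M, map_eq_zero, map_eq_zero_iff _ (IsFractionRing.injective O' K')] at h1
    exact hπ.ne_zero h1
  let DQ := Localization.AtPrime q
  haveI : IsDiscreteValuationRing DQ := IsLocalization.AtPrime.isDiscreteValuationRing_of_dedekind_domain D hq0 DQ
  have hu : ∀ y : q.primeCompl, IsUnit (γ y) := fun y => by_contra fun h => y.2 h
  let γ' : DQ →ₐ[O'] W := IsLocalization.liftAlgHom hu
  have hγ' : ∀ d : D, γ' (algebraMap D DQ d) = γ d := fun d => IsLocalization.lift_eq _ d
  have hinj : Function.Injective γ' := by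
    show Function.Injective (IsLocalization.lift (M := q.primeCompl) hu)
    rw [IsLocalization.lift_injective_iff]
    exact fun x y => ⟨fun h => congrArg _ (IsLocalization.injective DQ q.primeCompl_le_nonZeroDivisors h),
      fun h => congrArg _ (Subtype.ext (congrArg (Subtype.val : W → M) h : (x : M) = y))⟩
  have hlocγ : ∀ d : DQ, IsUnit (γ' d) → IsUnit d := fun d hd => by
    obtain ⟨a, s, rfl⟩ := IsLocalization.exists_mk'_eq q.primeCompl d
    rw [IsLocalization.AtPrime.isUnit_mk'_iff]
    intro ha
    have h1 : γ' (IsLocalization.mk' DQ a s) * γ (s : D) = γ a := by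
      rw [← hγ', ← hγ', ← map_mul, IsLocalization.mk'_spec]
    exact (ha : γ a ∈ maximalIdeal W) (h1 ▸ hd.mul (hu s))
  letI : Algebra DQ M := ((W.subtype).comp γ'.toRingHom).toAlgebra
  haveI : IsScalarTower D DQ M := IsScalarTower.of_algebraMap_eq fun d => (congrArg Subtype.val (hγ' d)).symm
  haveI : IsFractionRing DQ M := IsFractionRing.isFractionRing_of_isDomain_of_isLocalization q.primeCompl DQ M
  have hsurj : Function.Surjective γ' := by
    intro w
    rcases ValuationRing.isInteger_or_isInteger DQ (w : M) with ⟨c, hc⟩ | ⟨c, hc⟩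
    · exact ⟨c, Subtype.ext hc⟩
    · rcases eq_or_ne w 0 with rfl | hw0
      · exact ⟨0, map_zero _⟩
      · have hmul : γ' c * w = 1 := Subtype.ext (by
          show algebraMap DQ M c * (w : M) = 1
          rw [hc, inv_mul_cancel₀ (fun h => hw0 (Subtype.ext h))])
        obtain ⟨c', rfl⟩ := hlocγ c (IsUnit.of_mul_eq_one w hmul)
        refine ⟨(↑c'⁻¹ : DQ), (left_inv_eq_right_inv ?_ hmul)⟩
        rw [← map_mul, Units.inv_mul, map_one]
  haveI : Algebra.EssFiniteType D DQ := Algebra.EssFiniteType.of_isLocalization _ q.primeCompl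
  haveI : Algebra.EssFiniteType O' DQ := Algebra.EssFiniteType.comp O' D DQ
  haveI : Algebra.FormallyUnramified D DQ := Algebra.FormallyUnramified.of_isLocalization q.primeCompl
  haveI : Algebra.FormallyUnramified O' DQ := Algebra.FormallyUnramified.comp O' D DQ
  haveI : Algebra.FormallyUnramified O' W := Algebra.FormallyUnramified.of_surjective γ' hsurj
  haveI : Algebra.EssFiniteType O' W := Algebra.EssFiniteType.of_surjective γ' hsurj
  exact ⟨Algebra.FormallyUnramified.map_maximalIdeal, inferInstance⟩

theorem ramificationIdx'_eq_one {A V : Type u} [CommRing A] [IsDomain A] [IsDiscreteValuationRing A] [CommRing V]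
    [IsDomain V] [IsDiscreteValuationRing V] [Algebra A V] [IsLocalHom (algebraMap A V)]
    (h : (maximalIdeal A).map (algebraMap A V) = maximalIdeal V) :
    Ideal.ramificationIdx' (maximalIdeal A) (maximalIdeal V) = 1 := by
  obtain ⟨π, hπ⟩ := IsDiscreteValuationRing.exists_irreducible A
  refine CohDer1.TameTower.ramificationIdx'_eq π hπ.maximalIdeal_eq (algebraMap A V π) ?_ 1 1 (by simp)
  rw [IsDiscreteValuationRing.irreducible_iff_uniformizer, ← h, hπ.maximalIdeal_eq, Ideal.map_span, Set.image_singleton]

variable {O K L : Type u} [CommRing O] [IsDomain O] [IsDiscreteValuationRing O] [Field K] [Algebra O K]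
  [IsFractionRing O K] [Field L] [Algebra K L] [FiniteDimensional K L] [Algebra.IsSeparable K L]

theorem idx_eq_one_of_unramified (h : EtRam.IsUnramifiedExt O ((algebraMap K L).comp (algebraMap O K)))
    (V : ValuationSubring L) (hV : EtRam.Dominates O ((algebraMap K L).comp (algebraMap O K)) V) :
    (letI : Algebra O V := (RingHom.codRestrict _ V hV.1).toAlgebra
     Ideal.ramificationIdx' (maximalIdeal O) (maximalIdeal V)) = 1 := by
  haveI := CohDer1.TameTower.isDVR_of_dominates O K L V hV
  letI : Algebra O V := (RingHom.codRestrict _ V hV.1).toAlgebra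
  haveI : IsLocalHom (algebraMap O V) := isLocalHom_of_dominates hV
  exact ramificationIdx'_eq_one (@h V hV _).1

theorem tame_of_isUnramifiedExt (h : EtRam.IsUnramifiedExt O ((algebraMap K L).comp (algebraMap O K))) :
    EtRam.IsTamelyRamified O ((algebraMap K L).comp (algebraMap O K)) := by
  intro V hV
  letI : Algebra O V := (RingHom.codRestrict _ V hV.1).toAlgebra
  intro hl
  refine ⟨(@h V hV _).2, fun p hp _ hd => ?_⟩
  rw [idx_eq_one_of_unramified h V hV] at hd
  exact hp.ne_one (Nat.dvd_one.1 hd)

/-- Tame extensions become unramified over a DVR having, in a finite unramified algebra, a suitable root of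
the uniformiser. -/
theorem unramified_compositum_of_algebra
    (h : EtRam.IsTamelyRamified O ((algebraMap K L).comp (algebraMap O K))) {π : O}
    (hπ : maximalIdeal O = Ideal.span {π}) (n : ℕ) (hn0 : 0 < n) (hnO : (n : ResidueField O) ≠ 0)
    (hn : ∀ (V : ValuationSubring L) (hV : EtRam.Dominates O ((algebraMap K L).comp (algebraMap O K)) V),
      (letI : Algebra O V := (RingHom.codRestrict _ V hV.1).toAlgebra
       Ideal.ramificationIdx' (maximalIdeal O) (maximalIdeal V)) ∣ n)
    {O' K' M E0 : Type u} [CommRing O'] [IsDomain O'] [IsDiscreteValuationRing O'] [Field K'] [Algebra O' K']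
    [IsFractionRing O' K'] [Field M] [Algebra K' M] [Algebra O' M] [IsScalarTower O' K' M] [FiniteDimensional K' M]
    [CommRing E0] [Algebra O' E0] [Module.Finite O' E0] [Algebra.FormallyUnramified O' E0]
    (ρ : O →+* E0) (x : E0) (hx : x ^ n = ρ π) (ν : E0 →ₐ[O'] M) (ι : L →+* M)
    (hι : ∀ a, ι (algebraMap K L (algebraMap O K a)) = ν (ρ a))
    (hgen : Subfield.closure (Set.range ι ∪ Set.range ν ∪ Set.range (algebraMap K' M)) = ⊤) :
    Algebra.FormallyUnramified O' (integralClosure O' M) := by
  classical
  letI : Algebra L M := ι.toAlgebra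
  letI : Algebra K M := (ι.comp (algebraMap K L)).toAlgebra
  haveI : IsScalarTower K L M := IsScalarTower.of_algebraMap_eq fun _ => rfl
  let α : M := ν x
  have hπirr : Irreducible π := (IsDiscreteValuationRing.irreducible_iff_uniformizer π).2 hπ
  have hπK : algebraMap O K π ≠ 0 := (map_ne_zero_iff _ (IsFractionRing.injective O K)).2 hπirr.ne_zero
  let c : L := algebraMap K L (algebraMap O K π)
  have hαc : α ^ n = algebraMap L M c := by
    rw [← map_pow, hx]
    exact (hι π).symm
  have hnL : (n : L) ≠ 0 := by
    have h1 : (n : O) ≠ 0 := fun h0 => hnO (by rw [← map_natCast (residue O), h0, map_zero])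
    rw [← map_natCast (algebraMap K L)]
    refine (_root_.map_ne_zero _).2 ?_
    rw [← map_natCast (algebraMap O K)]
    exact (map_ne_zero_iff _ (IsFractionRing.injective O K)).2 h1
  have hroot : aeval α (X ^ n - C c : L[X]) = 0 := by simp [hαc]
  have hint : IsIntegral L α := ⟨_, monic_X_pow_sub_C c hn0.ne', hroot⟩
  have hsep : IsSeparable L α :=
    (separable_X_pow_sub_C c hnL ((_root_.map_ne_zero _).2 hπK)).of_dvd (minpoly.dvd _ _ hroot)
  let F := IntermediateField.adjoin L ({α} : Set M)
  haveI : FiniteDimensional L F := IntermediateField.adjoin.finiteDimensional hint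
  haveI : Algebra.IsSeparable L F := (IntermediateField.isSeparable_adjoin_simple_iff_isSeparable L _).2 hsep
  haveI : FiniteDimensional K F := FiniteDimensional.trans K L F
  haveI : Algebra.IsSeparable K F := Algebra.IsSeparable.trans K L F
  letI : Algebra O F := ((algebraMap K F).comp (algebraMap O K)).toAlgebra
  haveI : IsScalarTower O K F := IsScalarTower.of_algebraMap_eq fun _ => rfl
  let αF : F := IntermediateField.AdjoinSimple.gen L α
  have hαF : αF ^ n = algebraMap K F (algebraMap O K π) := by
    rw [IsScalarTower.algebraMap_apply K L F]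
    refine Subtype.ext ?_
    rw [SubmonoidClass.coe_pow, IntermediateField.AdjoinSimple.coe_gen, hαc]
    rfl
  have hgenF : Subfield.closure (Set.range (algebraMap L F) ∪ {αF}) = ⊤ := by
    have := congrArg IntermediateField.toSubfield
      (IntermediateField.lift_injective F (show IntermediateField.lift (IntermediateField.adjoin L {αF}) =
        IntermediateField.lift (⊤ : IntermediateField L F) by
          rw [IntermediateField.lift_adjoin, Set.image_singleton, IntermediateField.lift_top]; rfl))
    exact this
  let C0 := AdjoinRoot (X ^ n - C π : O[X])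
  let D := integralClosure O F
  have hαint : IsIntegral O αF :=
    ⟨X ^ n - C π, monic_X_pow_sub_C π hn0.ne', by
      rw [eval₂_sub, eval₂_X_pow, eval₂_C, hαF, sub_eq_zero]
      rfl⟩
  let αD : D := ⟨αF, hαint⟩
  have hαD : αD ^ n = algebraMap O D π := Subtype.ext (by push_cast; exact hαF)
  letI : Algebra C0 D := (AdjoinRoot.lift (algebraMap O D) αD (f := X ^ n - C π)
    (by rw [eval₂_sub, eval₂_X_pow, eval₂_C, hαD, sub_self])).toAlgebra
  haveI : IsScalarTower O C0 D := IsScalarTower.of_algebraMap_eq fun a => (AdjoinRoot.lift_of _).symm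
  haveI : Algebra.FormallyUnramified C0 D :=
    formallyUnramified_integralClosure h hπ n hn0 hnO hn F αF hαF hgenF (congrArg Subtype.val (AdjoinRoot.lift_root _))
  haveI : Module.Finite O D := IsIntegralClosure.finite O K F D
  haveI : Module.Finite C0 D := Module.Finite.of_restrictScalars_finite O C0 D
  -- base change to `E0` and take the image in `M`
  letI : Algebra C0 E0 := (AdjoinRoot.lift ρ x (f := X ^ n - C π)
    (by rw [eval₂_sub, eval₂_X_pow, eval₂_C, hx, sub_self])).toAlgebra
  letI : Algebra E0 M := ν.toRingHom.toAlgebra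
  haveI : IsScalarTower O' E0 M := IsScalarTower.of_algebraMap_eq fun a => (ν.commutes a).symm
  letI : Algebra C0 M := ((algebraMap E0 M).comp (algebraMap C0 E0)).toAlgebra
  haveI : IsScalarTower C0 E0 M := IsScalarTower.of_algebraMap_eq fun _ => rfl
  have hcompat : ((F.val.toRingHom).comp (D.val.toRingHom)).comp (algebraMap C0 D) =
      (algebraMap E0 M).comp (algebraMap C0 E0) := by
    refine AdjoinRoot.ringHom_ext (RingHom.ext fun a => ?_) ?_
    · show ((algebraMap C0 D (AdjoinRoot.of _ a) : D) : F).1 = ν (algebraMap C0 E0 (AdjoinRoot.of _ a))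
      have h1 : algebraMap C0 D (AdjoinRoot.of _ a) = algebraMap O D a := AdjoinRoot.lift_of _
      have h2 : algebraMap C0 E0 (AdjoinRoot.of _ a) = ρ a := AdjoinRoot.lift_of _
      rw [h1, h2]
      exact hι a
    · show ((algebraMap C0 D (AdjoinRoot.root _) : D) : F).1 = ν (algebraMap C0 E0 (AdjoinRoot.root _))
      have h1 : algebraMap C0 D (AdjoinRoot.root _) = αD := AdjoinRoot.lift_root _
      have h2 : algebraMap C0 E0 (AdjoinRoot.root _) = x := AdjoinRoot.lift_root _
      rw [h1, h2]
      rfl
  let valD : D →ₐ[C0] M :=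
    { toRingHom := (F.val.toRingHom).comp (D.val.toRingHom)
      commutes' := fun z => RingHom.congr_fun hcompat z }
  let E := E0 ⊗[C0] D
  let Φ₀ : E →ₐ[E0] M := Algebra.TensorProduct.lift (Algebra.ofId E0 M) valD fun _ _ => Commute.all _ _
  haveI : IsScalarTower O' E0 E := inferInstance
  haveI : Module.Finite O' E := Module.Finite.trans E0 E
  haveI : Algebra.FormallyUnramified O' E := Algebra.FormallyUnramified.comp O' E0 E
  let Φ : E →ₐ[O'] M := { Φ₀.toRingHom with commutes' := fun a => (Φ₀.commutes _).trans (ν.commutes a) }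
  refine formallyUnramified_of_generated (K' := K') Φ ?_
  haveI : IsFractionRing D F := integralClosure.isFractionRing_of_finite_extension K F
  rw [eq_top_iff, ← hgen, Subfield.closure_le]
  rintro y ((⟨l, rfl⟩ | ⟨z, rfl⟩) | ⟨k, rfl⟩)
  · obtain ⟨a, b, hb, hab⟩ := IsFractionRing.div_surjective D (algebraMap L F l)
    have hl : ι l = ((a : F) : M) / ((b : F) : M) := (congrArg F.val hab).symm.trans (map_div₀ F.val _ _)
    have hmem : ∀ d : D, ((d : F) : M) ∈ Subfield.closure (Set.range Φ ∪ Set.range (algebraMap K' M)) := fun d =>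
      Subfield.subset_closure (Or.inl ⟨1 ⊗ₜ d, (Algebra.TensorProduct.lift_tmul (Algebra.ofId E0 M) valD (fun _ _ => Commute.all _ _) 1 d).trans (by rw [map_one, one_mul]; rfl)⟩)
    rw [hl]
    exact div_mem (hmem a) (hmem b)
  · exact Subfield.subset_closure (Or.inl ⟨algebraMap E0 E z, Φ₀.commutes z⟩)
  · exact Subfield.subset_closure (Or.inr ⟨k, rfl⟩)

/-- Fields generated by an extension and `L'` are separable. -/
theorem exists_finite_separable {K K' L F : Type u} [Field K] [Field K'] [Field L] [Algebra K K'] [Algebra K L]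
    [FiniteDimensional K K'] [Algebra.IsSeparable K K'] [Field F] [Algebra (K' ⊗[K] L) F]
    (hF : Function.Surjective (algebraMap (K' ⊗[K] L) F)) :
    letI : Algebra L F := ((algebraMap (K' ⊗[K] L) F).comp
      (Algebra.TensorProduct.includeRight : L →ₐ[K] K' ⊗[K] L).toRingHom).toAlgebra
    FiniteDimensional L F ∧ Algebra.IsSeparable L F ∧
      Subfield.closure (Set.range ((algebraMap (K' ⊗[K] L) F).comp Algebra.TensorProduct.includeLeftRingHom) ∪
        Set.range (algebraMap L F)) = ⊤ := by
  letI : Algebra L F := ((algebraMap (K' ⊗[K] L) F).comp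
    (Algebra.TensorProduct.includeRight : L →ₐ[K] K' ⊗[K] L).toRingHom).toAlgebra
  haveI : Algebra.FormallyUnramified K K' := Algebra.FormallyUnramified.of_isSeparable K K'
  let e := (Algebra.TensorProduct.comm K L K')
  let Φ : L ⊗[K] K' →ₐ[L] F :=
    { toRingHom := (algebraMap (K' ⊗[K] L) F).comp e.toRingEquiv.toRingHom
      commutes' := fun l => congrArg (algebraMap (K' ⊗[K] L) F) (show e (l ⊗ₜ (1 : K')) = (1 : K') ⊗ₜ l from rfl) }
  have hΦ : Function.Surjective Φ := hF.comp e.surjective
  haveI : FiniteDimensional L F := Module.Finite.of_surjective Φ.toLinearMap hΦ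
  haveI : Algebra.FormallyUnramified L F := Algebra.FormallyUnramified.of_surjective Φ hΦ
  refine ⟨inferInstance, Algebra.FormallyUnramified.isSeparable L F, ?_⟩
  rw [eq_top_iff]
  rintro y -
  obtain ⟨t, rfl⟩ := hF y
  induction t using TensorProduct.induction_on with
  | zero => rw [map_zero]; exact zero_mem _
  | add a b ha hb => rw [map_add]; exact add_mem ha hb
  | tmul a b =>
    rw [show a ⊗ₜ[K] b = (a ⊗ₜ[K] (1 : L)) * ((1 : K') ⊗ₜ[K] b) by simp, map_mul]
    exact mul_mem (Subfield.subset_closure (Or.inl ⟨a, rfl⟩)) (Subfield.subset_closure (Or.inr ⟨b, rfl⟩))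

end Groth.Agent.TameKum
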