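import Mathlib.RingTheory.DiscreteValuationRing.Basic
import Mathlib.RingTheory.Valuation.ValuationSubring
import Mathlib.RingTheory.LocalRing.ResidueField.Basic
import Mathlib.RingTheory.Filtration
import Mathlib.FieldTheory.SeparableClosure
import Mathlib.FieldTheory.IntermediateField.Adjoin.Basic
import Mathlib.FieldTheory.KummerPolynomial

/-!
# Abhyankar's lemma for one extension of discrete valuation rings
-/

set_option autoImplicit false
set_option linter.style.haveILetI false

universe u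

open Polynomial IsLocalRing

namespace Groth.Agent.TameKum

theorem isSeparable_of_mem_adjoin {F E : Type*} [Field F] [Field E] [Algebra F E] {t x : E}
    (h : IsSeparable F t) (hx : x ∈ IntermediateField.adjoin F {t}) : IsSeparable F x := by
  have hle : IntermediateField.adjoin F {t} ≤ separableClosure F E :=
    IntermediateField.adjoin_simple_le_iff.2 (mem_separableClosure_iff.2 h)
  exact mem_separableClosure_iff.1 (hle hx)

/-- If `W` is generated as a fraction ring over the DVR `V` by `α` and `t` with `t ^ e = u` a unit,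
`e` invertible in the residue field, and `α ^ m = ϖ * t`, then `α` is a uniformiser of `W` and the
residue extension is separable. -/
theorem uniformiser_and_separable {V M : Type u} [CommRing V] [IsDomain V] [IsDiscreteValuationRing V]
    [Field M] (W : ValuationSubring M) [IsDiscreteValuationRing W] (ι : V →+* W) [IsLocalHom ι]
    (hι : Function.Injective ι) (ϖ : V) (hϖ : Irreducible ϖ) (u : Vˣ) (e m : ℕ) (he0 : 0 < e) (he : (e : ResidueField V) ≠ 0)
    (hm : 0 < m) (α t : W) (ht : t ^ e = ι u) (hα : α ^ m = ι ϖ * t)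
    (hgen : Subfield.closure (Set.range (fun v => (ι v : M)) ∪ {(α : M), (t : M)}) = ⊤) :
    maximalIdeal W = Ideal.span {α} ∧
      (letI : Algebra V W := ι.toAlgebra
       haveI : IsLocalHom (algebraMap V W) := ‹IsLocalHom ι›
       Algebra.IsSeparable (ResidueField V) (ResidueField W)) := by
  classical
  letI : Algebra V W := ι.toAlgebra
  haveI hloc : IsLocalHom (algebraMap V W) := ‹IsLocalHom ι›
  let R : Subring W := Subring.closure (Set.range ι ∪ {α, t})
  have hιR : ∀ v, ι v ∈ R := fun v => Subring.subset_closure (Or.inl ⟨v, rfl⟩)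
  have hαR : α ∈ R := Subring.subset_closure (Or.inr (Or.inl rfl))
  have htR : t ∈ R := Subring.subset_closure (Or.inr (Or.inr rfl))
  have hevR : ∀ a : V[X], a.eval₂ ι t ∈ R := fun a => by
    rw [eval₂_eq_sum_range]
    exact R.sum_mem fun i _ => R.mul_mem (hιR _) (R.pow_mem htR i)
  have htu : IsUnit t := (isUnit_pow_iff he0.ne').1 (ht ▸ u.isUnit.map ι)
  have hαm : α ∈ maximalIdeal W := by
    refine (maximalIdeal.isMaximal W).isPrime.mem_of_pow_mem m (hα ▸ Ideal.mul_mem_right _ _ ?_)
    exact fun hu => hϖ.not_isUnit (IsLocalHom.map_nonunit (f := ι) _ hu)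
  have hϖα : ∃ r ∈ R, ι ϖ = α * r := by
    refine ⟨α ^ (m - 1) * (t ^ (e - 1) * ι ↑u⁻¹), R.mul_mem (R.pow_mem hαR _) (R.mul_mem (R.pow_mem htR _) (hιR _)), ?_⟩
    rw [← mul_assoc, ← pow_succ', Nat.sub_add_cancel hm, hα, mul_assoc, ← mul_assoc t, ← pow_succ',
      Nat.sub_add_cancel he0, ht, ← map_mul, Units.mul_inv, map_one, mul_one]
  -- modulo `α` everything is a polynomial in `t`
  have hdec : ∀ y ∈ R, ∃ a : V[X], ∃ y' ∈ R, y = a.eval₂ ι t + α * y' := by
    intro y hy
    induction hy using Subring.closure_induction with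
    | mem x hx =>
      rcases hx with ⟨v, rfl⟩ | rfl | rfl
      · exact ⟨C v, 0, R.zero_mem, by simp⟩
      · exact ⟨0, 1, R.one_mem, by simp⟩
      · exact ⟨X, 0, R.zero_mem, by simp⟩
    | zero => exact ⟨0, 0, R.zero_mem, by simp⟩
    | one => exact ⟨1, 0, R.zero_mem, by simp⟩
    | add x y _ _ hx hy =>
      obtain ⟨a, x', hx', rfl⟩ := hx
      obtain ⟨b, y', hy', rfl⟩ := hy
      exact ⟨a + b, x' + y', R.add_mem hx' hy', by rw [eval₂_add]; ring⟩
    | neg x _ hx =>
      obtain ⟨a, x', hx', rfl⟩ := hx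
      exact ⟨-a, -x', R.neg_mem hx', by rw [eval₂_neg]; ring⟩
    | mul x y _ _ hx hy =>
      obtain ⟨a, x', hx', rfl⟩ := hx
      obtain ⟨b, y', hy', rfl⟩ := hy
      exact ⟨a * b, a.eval₂ ι t * y' + b.eval₂ ι t * x' + α * x' * y',
        R.add_mem (R.add_mem (R.mul_mem (hevR a) hy') (R.mul_mem (hevR b) hx'))
          (R.mul_mem (R.mul_mem hαR hx') hy'), by rw [eval₂_mul]; ring⟩
  -- residue computations
  let tb : ResidueField W := residue W t
  have haev : ∀ a : V[X], aeval tb (a.map (residue V)) = residue W (a.eval₂ ι t) := fun a => by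
    rw [aeval_def, eval₂_map, hom_eval₂]
    rfl
  let q0 : (ResidueField V)[X] := X ^ e - C (residue V u)
  have hq0 : q0.Separable := separable_X_pow_sub_C _ he ((u.isUnit.map (residue V)).ne_zero)
  have hq0' : ((X : V[X]) ^ e - C (u : V)).map (residue V) = q0 := by simp [q0]
  have hroot : aeval tb q0 = 0 := by
    rw [← hq0', haev]; simp [ht]
  let g := minpoly (ResidueField V) tb
  obtain ⟨h, hgh⟩ := minpoly.dvd _ _ hroot
  have hh0 : aeval tb h ≠ 0 := by
    obtain ⟨x, y, hxy⟩ := (hgh ▸ hq0 : (g * h).Separable).isCoprime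
    intro h0
    have := congrArg (aeval tb) hxy
    simp [h0] at this
  have hsep : IsSeparable (ResidueField V) tb := Polynomial.Separable.of_dvd hq0 ⟨h, hgh⟩
  have hstep : ∀ y ∈ R, y ∈ maximalIdeal W → ∃ s ∈ R, IsUnit s ∧ ∃ y' ∈ R, s * y = α * y' := by
    intro y hy hym
    obtain ⟨a, y', hy', rfl⟩ := hdec y hy
    have ha : a.eval₂ ι t ∈ maximalIdeal W := by
      simpa using (maximalIdeal W).sub_mem hym ((maximalIdeal W).mul_mem_right y' hαm)
    obtain ⟨c, hc⟩ := minpoly.dvd (ResidueField V) tb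
      (p := a.map (residue V)) (by rw [haev, residue_eq_zero_iff]; exact ha)
    obtain ⟨h', rfl⟩ := Polynomial.map_surjective (residue V) residue_surjective h
    obtain ⟨c', rfl⟩ := Polynomial.map_surjective (residue V) residue_surjective c
    have hdiv : C ϖ ∣ a * h' - c' * (X ^ e - C (u : V)) := by
      rw [C_dvd_iff_dvd_coeff]
      intro i
      rw [← Ideal.mem_span_singleton, ← hϖ.maximalIdeal_eq, ← residue_eq_zero_iff, ← coeff_map,
        Polynomial.map_sub, Polynomial.map_mul, Polynomial.map_mul, hq0', hc, hgh]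
      rw [show g * c'.map (residue V) * h'.map (residue V) - c'.map (residue V) * (g * h'.map (residue V)) = 0
        by ring, coeff_zero]
    obtain ⟨r, hr⟩ := hdiv
    have hr' := congrArg (eval₂ ι t) hr
    simp only [eval₂_sub, eval₂_mul, eval₂_X_pow, eval₂_C, ht, sub_self, mul_zero, sub_zero] at hr'
    obtain ⟨r0, hr0, hr0'⟩ := hϖα
    refine ⟨h'.eval₂ ι t, hevR _, ?_, r0 * r.eval₂ ι t + h'.eval₂ ι t * y',
      R.add_mem (R.mul_mem hr0 (hevR _)) (R.mul_mem (hevR _) hy'), ?_⟩
    · rw [← residue_ne_zero_iff_isUnit, ← haev]; exact hh0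
    · rw [mul_add, mul_comm (h'.eval₂ ι t) (a.eval₂ ι t), hr', hr0']; ring
  have hα0 : α ≠ 0 := by
    intro h0
    rw [h0, zero_pow hm.ne'] at hα
    rcases mul_eq_zero.1 hα.symm with h1 | h1
    · exact hϖ.ne_zero (hι (h1.trans (map_zero ι).symm))
    · exact htu.ne_zero h1
  -- every element of `R` is a power of `α` times a quotient of units
  have hpowne : ∀ y : W, y ≠ 0 → ∃ N : ℕ, ¬ α ^ N ∣ y := by
    intro y hy
    by_contra! hall
    have hne : Ideal.span {α} ≠ (⊤ : Ideal W) := fun h =>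
      (maximalIdeal.isMaximal W).ne_top (top_le_iff.1 (h ▸ (Ideal.span_singleton_le_iff_mem _).2 hαm))
    have : y ∈ (⨅ i : ℕ, Ideal.span {α} ^ i) := by
      simp only [Ideal.mem_iInf, Ideal.span_singleton_pow, Ideal.mem_span_singleton]
      exact hall
    rw [Ideal.iInf_pow_eq_bot_of_isLocalRing _ hne, Ideal.mem_bot] at this
    exact hy this
  have hexp : ∀ N : ℕ, ∀ y ∈ R, ¬ α ^ N ∣ y →
      ∃ k : ℕ, ∃ s ∈ R, IsUnit s ∧ ∃ z ∈ R, IsUnit z ∧ s * y = α ^ k * z := by
    intro N
    induction N with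
    | zero => intro y _ hN; exact absurd (by simp) hN
    | succ N ih =>
      intro y hy hN
      by_cases hu : IsUnit y
      · exact ⟨0, 1, R.one_mem, isUnit_one, y, hy, hu, by simp⟩
      · obtain ⟨s, hs, hsu, y', hy', hsy⟩ := hstep y hy hu
        obtain ⟨k, s', hs', hs'u, z, hz, hzu, he'⟩ := ih y' hy' fun hd => hN (by
          rw [← hsu.dvd_mul_left, hsy, pow_succ']; exact mul_dvd_mul_left _ hd)
        refine ⟨k + 1, s' * s, R.mul_mem hs' hs, hs'u.mul hsu, z, hz, hzu, ?_⟩
        rw [mul_assoc, hsy, pow_succ', mul_assoc α, ← he']; ring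
  -- every element of `W` is a quotient of elements of `R`
  have hfrac : ∀ w : W, ∃ a ∈ R, ∃ b ∈ R, b ≠ 0 ∧ w * b = a := by
    intro w
    have hmap : Subring.closure (Set.range (fun v => (ι v : M)) ∪ {(α : M), (t : M)}) = R.map W.subtype := by
      rw [RingHom.map_closure, Set.image_union, Set.image_pair, ← Set.range_comp]
      rfl
    have hw : (w : M) ∈ Subfield.closure (Set.range (fun v => (ι v : M)) ∪ {(α : M), (t : M)}) := by
      rw [hgen]; trivial
    obtain ⟨a, ha, b, hb, hab⟩ := Subfield.mem_closure_iff.1 hw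
    rw [hmap] at ha hb
    obtain ⟨a', ha', rfl⟩ := ha
    obtain ⟨b', hb', rfl⟩ := hb
    by_cases hb0 : b' = 0
    · subst hb0
      exact ⟨0, R.zero_mem, 1, R.one_mem, one_ne_zero, Subtype.ext (by simpa using hab.symm)⟩
    · refine ⟨a', ha', b', hb', hb0, Subtype.ext ?_⟩
      have hb1 : (b' : M) ≠ 0 := fun h => hb0 (Subtype.ext h)
      show (w : M) * (b' : M) = (a' : M)
      rw [← hab]
      exact div_mul_cancel₀ _ hb1
  have hαu : ¬ IsUnit α := hαm
  have hval : ∀ w : W, w ≠ 0 → ∃ k l : ℕ, ∃ z ∈ R, IsUnit z ∧ ∃ z' ∈ R, IsUnit z' ∧ w * (α ^ l * z') = α ^ k * z := by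
    intro w hw
    obtain ⟨a, ha, b, hb, hb0, hab⟩ := hfrac w
    obtain ⟨Na, hNa⟩ := hpowne a (hab ▸ mul_ne_zero hw hb0)
    obtain ⟨Nb, hNb⟩ := hpowne b hb0
    obtain ⟨k, s, hs, hsu, z, hz, hzu, hk⟩ := hexp Na a ha hNa
    obtain ⟨l, s', hs', hs'u, z', hz', hz'u, hl⟩ := hexp Nb b hb hNb
    refine ⟨k, l, z * s', R.mul_mem hz hs', hzu.mul hs'u, z' * s, R.mul_mem hz' hs, hz'u.mul hsu, ?_⟩
    rw [← mul_assoc, ← mul_assoc, ← mul_assoc, ← hk, mul_assoc w (α ^ l), ← hl, ← hab]; ring
  refine ⟨le_antisymm (fun w hw => ?_) ((Ideal.span_singleton_le_iff_mem _).2 hαm), ?_⟩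
  · rcases eq_or_ne w 0 with rfl | hw0
    · exact Submodule.zero_mem _
    obtain ⟨k, l, z, -, hzu, z', -, hz'u, hkl⟩ := hval w hw0
    rw [Ideal.mem_span_singleton]
    rcases Nat.lt_or_ge l k with h1 | h1
    · obtain ⟨d, rfl⟩ := Nat.exists_eq_add_of_lt h1
      rw [show α ^ (l + d + 1) * z = α ^ l * (α * (α ^ d * z)) by ring, mul_left_comm] at hkl
      have := mul_left_cancel₀ (pow_ne_zero _ hα0) hkl
      rw [← hz'u.dvd_mul_right, this]
      exact dvd_mul_right _ _
    · obtain ⟨d, rfl⟩ := Nat.exists_eq_add_of_le h1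
      rw [show w * (α ^ (k + d) * z') = α ^ k * (w * (α ^ d * z')) by ring] at hkl
      have := mul_left_cancel₀ (pow_ne_zero _ hα0) hkl
      exact absurd (isUnit_of_mul_isUnit_left (this ▸ hzu : IsUnit (w * (α ^ d * z')))) hw
  · -- residue field generated by the residue of `t`
    refine ⟨fun x => ?_⟩
    obtain ⟨w, rfl⟩ := residue_surjective x
    suffices hmem : residue W w ∈ IntermediateField.adjoin (ResidueField V) {tb} by
      exact isSeparable_of_mem_adjoin hsep hmem
    have hR : ∀ y ∈ R, residue W y ∈ IntermediateField.adjoin (ResidueField V) {tb} := by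
      intro y hy
      obtain ⟨a, y', -, rfl⟩ := hdec y hy
      rw [map_add, map_mul, (residue_eq_zero_iff α).2 hαm, zero_mul, add_zero, ← haev]
      exact IntermediateField.algebra_adjoin_le_adjoin (ResidueField V) {tb}
        (Polynomial.aeval_mem_adjoin_singleton (ResidueField V) tb)
    by_cases hwu : IsUnit w
    · obtain ⟨k, l, z, hz, hzu, z', hz', hz'u, hkl⟩ := hval w hwu.ne_zero
      have hkl' : k = l := by
        rcases Nat.lt_trichotomy k l with h1 | h1 | h1
        · obtain ⟨d, rfl⟩ := Nat.exists_eq_add_of_lt h1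
          rw [show w * (α ^ (k + d + 1) * z') = α ^ k * (α * (w * α ^ d * z')) by ring] at hkl
          exact absurd (isUnit_of_mul_isUnit_left ((mul_left_cancel₀ (pow_ne_zero _ hα0) hkl) ▸ hzu)) hαu
        · exact h1
        · obtain ⟨d, rfl⟩ := Nat.exists_eq_add_of_lt h1
          rw [show α ^ (l + d + 1) * z = α ^ l * (α * (α ^ d * z)) by ring, mul_left_comm] at hkl
          exact absurd (isUnit_of_mul_isUnit_left
            ((mul_left_cancel₀ (pow_ne_zero _ hα0) hkl) ▸ hwu.mul hz'u)) hαu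
      subst hkl'
      rw [mul_left_comm] at hkl
      have := congrArg (residue W) (mul_left_cancel₀ (pow_ne_zero _ hα0) hkl)
      rw [map_mul] at this
      rw [eq_div_of_mul_eq ((hz'u.map (residue W)).ne_zero) this]
      exact div_mem (hR _ hz) (hR _ hz')
    · rw [(residue_eq_zero_iff w).2 hwu]
      exact zero_mem _

end Groth.Agent.TameKum
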