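import Groth.Agent.TameKum.DivideAux
import Groth.Agent.HenselLib.ExtValuation
import Mathlib.FieldTheory.KummerPolynomial

/-!
# The residue characteristic does not divide the ramification of a tame cover
-/

set_option autoImplicit false
set_option linter.style.haveILetI false
set_option backward.isDefEq.respectTransparency.types false
set_option backward.isDefEq.respectTransparency false

universe u

open IsLocalRing TensorProduct

namespace Groth.Agent.TameKum

/-- The residue field of a Kummer algebra in elements of the maximal ideal is that of the base. -/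
theorem residue_surjective_kummer {A : Type u} [CommRing A] [IsLocalRing A] {r : ℕ} (f : Fin r → A)
    (hm : ∀ i, f i ∈ maximalIdeal A) (n : Fin r → ℕ)
    [IsLocalRing (SGA1.kummerAlg A f n)] [IsLocalHom (algebraMap A (SGA1.kummerAlg A f n))] :
    Function.Surjective (algebraMap (ResidueField A) (ResidueField (SGA1.kummerAlg A f n))) := by
  intro y
  obtain ⟨y, rfl⟩ := residue_surjective y
  have hy : y ∈ Algebra.adjoin A (Set.range (CAlgH.KummerAlg.root f n)) :=
    CAlgH.KummerAlg.adjoin_root f n ▸ Algebra.mem_top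
  induction hy using Algebra.adjoin_induction with
  | mem z hz =>
    obtain ⟨i, rfl⟩ := hz
    refine ⟨0, ?_⟩
    rw [map_zero]
    refine ((residue_eq_zero_iff _).2 ?_).symm
    intro hu
    refine (mem_maximalIdeal _).1 (hm i) (isUnit_of_map_unit (algebraMap A (SGA1.kummerAlg A f n)) (f i) ?_)
    rw [← CAlgH.KummerAlg.root_pow f n i]
    exact hu.pow _
  | algebraMap a => exact ⟨residue A a, rfl⟩
  | add a b _ _ ha hb =>
    obtain ⟨a', ha'⟩ := ha
    obtain ⟨b', hb'⟩ := hb
    exact ⟨a' + b', by rw [map_add, map_add, ha', hb']⟩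
  | mul a b _ _ ha hb =>
    obtain ⟨a', ha'⟩ := ha
    obtain ⟨b', hb'⟩ := hb
    exact ⟨a' * b', by rw [map_mul, map_mul, ha', hb']⟩

variable {A : Type u} [CommRing A] [IsRegularLocalRing A] [IsDomain A] {B : Type u} [CommRing B] [Algebra A B]

set_option maxHeartbeats 1600000 in
/-- A tame cover over a strictly local Kummer base: every point with values in a domain is rational. -/
theorem splits_of_kills {r : ℕ} (hr : 0 < r) (f : Fin r → A) (hm : ∀ i, f i ∈ maximalIdeal A) (hf0 : ∀ i, f i ≠ 0)
    [∀ i, (Ideal.span {f i}).IsPrime]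
    [Algebra (Localization.Away (∏ i, f i)) B] [IsScalarTower A (Localization.Away (∏ i, f i)) B]
    [Module.Finite (Localization.Away (∏ i, f i)) B] [Algebra.Etale (Localization.Away (∏ i, f i)) B]
    (htame : SGA1.IsTameAlong f (algebraMap A B)) (n : Fin r → ℕ) (hn : ∀ i, 1 ≤ n i)
    (hnκ : ∀ i, (n i : ResidueField (Localization.AtPrime (Ideal.span {f i}))) ≠ 0)
    (hkill : ∀ i, Kills (algebraMap A B) (f i) (n i))
    (C : Type u) [CommRing C] [IsRegularLocalRing C] [IsDomain C] [IsIntegrallyClosed C] [Algebra A C]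
    [IsLocalHom (algebraMap A C)] (hinj : Function.Injective (algebraMap A C))
    (hht : ∀ P : Ideal C, P.IsPrime → P.height = 1 → (P.comap (algebraMap A C)).height ≤ 1)
    (x : Fin r → C) (hx : ∀ i, x i ^ n i = algebraMap A C (f i))
    (R : Type u) [CommRing R] [HenselianLocalRing R] [IsSepClosed (ResidueField R)] [Algebra R C]
    [Module.Finite R C] [IsLocalHom (algebraMap R C)]
    (hres : Function.Surjective (algebraMap (ResidueField R) (ResidueField C)))
    {D : Type u} [CommRing D] [IsDomain D] [Algebra A D] [Algebra C D] [IsScalarTower A C D]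
    (ψ : B →ₐ[A] D) (hinjD : Function.Injective (algebraMap C D)) (b : B) :
    ∃ (k : ℕ) (d : C), ψ b * algebraMap C D (algebraMap A C (∏ i, f i)) ^ k = algebraMap C D d := by
  obtain ⟨_, _, hloc⟩ := etale_base hr f hm hf0 htame n hn hnκ hkill C hinj hht x hx
  let E := integralClosure C (C ⊗[A] B)
  let Ψ : C ⊗[A] B →ₐ[C] D := Algebra.TensorProduct.lift (Algebra.ofId C D) ψ fun _ _ => Commute.all _ _
  obtain ⟨k, c, hc⟩ := hloc.surj (algebraMap C E (algebraMap A C (∏ i, f i))) ((1 : C) ⊗ₜ[A] b)
  haveI : Algebra.FormallyUnramified C E := inferInstance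
  obtain ⟨d, hd⟩ := mem_range_of_sepClosed (R := R) hres (Ψ.comp E.val) hinjD c
  refine ⟨k, d, ?_⟩
  have h2 := congrArg Ψ hc
  rw [map_mul, map_pow] at h2
  have h1 : Ψ ((1 : C) ⊗ₜ[A] b) = ψ b := by simp [Ψ]
  rw [h1] at h2
  rw [← Ψ.commutes]
  exact h2.trans hd

set_option maxHeartbeats 4000000 in
set_option synthInstance.maxHeartbeats 100000 in
/-- Over a strictly local base with the roots, the cover has no extension of degree the residue characteristic. -/
theorem extension_trivial {r : ℕ} (f : Fin r → A) (hm : ∀ i, f i ∈ maximalIdeal A) (hf0 : ∀ i, f i ≠ 0)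
    [∀ i, (Ideal.span {f i}).IsPrime]
    [Algebra (Localization.Away (∏ i, f i)) B] [IsScalarTower A (Localization.Away (∏ i, f i)) B]
    [Module.Finite (Localization.Away (∏ i, f i)) B] [Algebra.Etale (Localization.Away (∏ i, f i)) B]
    (htame : SGA1.IsTameAlong f (algebraMap A B)) (n : Fin r → ℕ) (hn : ∀ i, 1 ≤ n i)
    (hnκ : ∀ i, (n i : ResidueField (Localization.AtPrime (Ideal.span {f i}))) ≠ 0)
    (hkill : ∀ i, Kills (algebraMap A B) (f i) (n i))
    (i : Fin r) (p : ℕ) (hp : p.Prime) [CharP (ResidueField A) p] (hpn : p ∣ n i)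
    {R : Type u} [CommRing R] [IsRegularLocalRing R] [IsDomain R] [IsIntegrallyClosed R] [HenselianLocalRing R]
    [IsSepClosed (ResidueField R)] [Algebra A R] [IsLocalHom (algebraMap A R)]
    (hinjR : Function.Injective (algebraMap A R))
    (hhtR : ∀ P : Ideal R, P.IsPrime → (P.comap (algebraMap A R)).height ≤ P.height)
    (t : R) (htm : t ∈ maximalIdeal R) (htsq : t ∉ maximalIdeal R ^ 2) (ht : t ^ (n i / p) = algebraMap A R (f i))
    (y : Fin r → R) (hy : ∀ j, j ≠ i → y j ^ n j = algebraMap A R (f j))
    {M' : Type u} [Field M'] [Algebra (FractionRing R) M'] [Algebra R M'] [IsScalarTower R (FractionRing R) M']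
    [Algebra A M'] [IsScalarTower A R M']
    (ψ : B →ₐ[A] M') (hgenψ : Algebra.adjoin (FractionRing R) (Set.range ψ) = ⊤) :
    Function.Surjective (algebraMap (FractionRing R) M') := by
  classical
  let g := ∏ i, f i
  have hg : g ≠ 0 := Finset.prod_ne_zero_iff.2 fun i _ => hf0 i
  let KR := FractionRing R
  let O := Localization.AtPrime (Ideal.span {f i})
  -- the Kummer algebra of degree `p` over it
  have hmt : ∀ _ : Fin 1, t ∈ maximalIdeal R := fun _ => htm
  have hft : LinearIndependent (ResidueField R) fun k : Fin 1 => (maximalIdeal R).toCotangent ⟨t, hmt k⟩ := by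
    rw [linearIndependent_unique_iff]
    intro h
    exact htsq ((Ideal.toCotangent_eq_zero _ _).1 h)
  let C := SGA1.kummerAlg R (fun _ : Fin 1 => t) (fun _ => p)
  obtain ⟨_, _, _, _, hinjC, hhtC⟩ := isRegular_kummer (fun _ : Fin 1 => t) hmt hft (fun _ => p) (fun _ => hp.pos)
  haveI : FaithfulSMul R C := (faithfulSMul_iff_algebraMap_injective _ _).2 hinjC
  haveI : IsLocalHom (algebraMap R C) := Algebra.IsIntegral.isLocalHom R C
  let θ : C := CAlgH.KummerAlg.root (fun _ : Fin 1 => t) (fun _ => p) 0
  have hθ : θ ^ p = algebraMap R C t := CAlgH.KummerAlg.root_pow (fun _ : Fin 1 => t) (fun _ => p) 0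
  haveI : IsScalarTower A R C := inferInstance
  haveI : IsLocalHom (algebraMap A C) := by
    rw [IsScalarTower.algebraMap_eq A R C]
    exact RingHom.isLocalHom_comp _ _
  let x : Fin r → C := fun j => if j = i then θ else algebraMap R C (y j)
  have hx : ∀ j, x j ^ n j = algebraMap A C (f j) := fun j => by
    show (if j = i then θ else algebraMap R C (y j)) ^ n j = _
    by_cases hj : j = i
    · subst hj
      rw [if_pos rfl, ← Nat.div_mul_cancel hpn, mul_comm, pow_mul, hθ, ← map_pow, ht,
        ← IsScalarTower.algebraMap_apply]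
    · rw [if_neg hj, ← map_pow, hy j hj,
        ← IsScalarTower.algebraMap_apply]
  have hinjAC : Function.Injective (algebraMap A C) := hinjC.comp hinjR
  have hhtAC : ∀ P : Ideal C, P.IsPrime → P.height = 1 → (P.comap (algebraMap A C)).height ≤ 1 := fun P hP hP1 => by
    rw [show P.comap (algebraMap A C) = (P.comap (algebraMap R C)).comap (algebraMap A R) from
      (Ideal.comap_comap _ _).symm]
    exact (hhtR _ inferInstance).trans (by rw [hhtC _ hP, hP1])
  -- an embedding of the compositum in the algebraic closure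
  let Mh := AlgebraicClosure M'
  let ι : M' →ₐ[KR] Mh := IsScalarTower.toAlgHom KR M' Mh
  obtain ⟨θh, hθh⟩ := IsAlgClosed.exists_pow_nat_eq (algebraMap M' Mh (algebraMap R M' t)) hp.pos
  obtain ⟨Φ, hΦ⟩ := CAlgH.KummerAlg.exists_algHom (fun _ : Fin 1 => t) (fun _ => p) (S := Mh)
    (fun _ => θh) (fun _ => hθh.trans (IsScalarTower.algebraMap_apply R M' Mh t).symm)
  have hΦinj : Function.Injective Φ := by
    rw [RingHom.injective_iff_ker_eq_bot]
    refine Ideal.eq_bot_of_comap_eq_bot (R := R) ?_
    show (RingHom.ker Φ.toRingHom).comap (algebraMap R C) = ⊥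
    rw [RingHom.comap_ker, ← RingHom.injective_iff_ker_eq_bot]
    intro a b hab
    have hab' : algebraMap R Mh a = algebraMap R Mh b := by
      rw [← Φ.commutes, ← Φ.commutes]; exact hab
    rw [IsScalarTower.algebraMap_apply R M' Mh, IsScalarTower.algebraMap_apply R M' Mh] at hab'
    exact IsFractionRing.injective R KR ((algebraMap KR M').injective (by
      rw [← IsScalarTower.algebraMap_apply, ← IsScalarTower.algebraMap_apply]; exact (algebraMap M' Mh).injective hab'))
  letI : Algebra C Mh := Φ.toRingHom.toAlgebra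
  haveI : IsScalarTower R C Mh :=
    IsScalarTower.of_algebraMap_eq (R := R) (S := C) (A := Mh) fun a => (Φ.commutes a).symm
  haveI : IsScalarTower A C Mh := IsScalarTower.of_algebraMap_eq (R := A) (S := C) (A := Mh) fun a => by
    rw [IsScalarTower.algebraMap_apply A R C, ← IsScalarTower.algebraMap_apply R C Mh,
      IsScalarTower.algebraMap_apply R M' Mh, ← IsScalarTower.algebraMap_apply A R M',
      ← IsScalarTower.algebraMap_apply A M' Mh]
  have hB : ∀ b : B, algebraMap M' Mh (ψ b) ∈ IntermediateField.adjoin KR {θh} := by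
    intro b
    obtain ⟨k, d, hd⟩ := splits_of_kills (Fin.pos i) f hm hf0 htame n hn hnκ hkill C hinjAC hhtAC x hx R
      (residue_surjective_kummer (fun _ : Fin 1 => t) hmt (fun _ => p))
      ((IsScalarTower.toAlgHom A M' Mh).comp ψ) hΦinj b
    have hrange : ∀ d : C, Φ d ∈ IntermediateField.adjoin KR {θh} := by
      intro d
      have hmem : d ∈ Algebra.adjoin R (Set.range (CAlgH.KummerAlg.root (fun _ : Fin 1 => t) (fun _ => p))) :=
        CAlgH.KummerAlg.adjoin_root (fun _ : Fin 1 => t) (fun _ => p) ▸ Algebra.mem_top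
      induction hmem using Algebra.adjoin_induction with
      | mem z hz =>
        obtain ⟨k, rfl⟩ := hz
        rw [hΦ]
        exact IntermediateField.mem_adjoin_simple_self KR θh
      | algebraMap a =>
        rw [Φ.commutes, IsScalarTower.algebraMap_apply R KR Mh]
        exact IntermediateField.algebraMap_mem _ _
      | add a b _ _ ha hb => rw [map_add]; exact add_mem ha hb
      | mul a b _ _ ha hb => rw [map_mul]; exact mul_mem ha hb
    have hne : Φ (algebraMap A C g) ^ k ≠ 0 :=
      pow_ne_zero _ ((map_ne_zero_iff _ hΦinj).2 ((map_ne_zero_iff _ hinjAC).2 hg))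
    have hval : algebraMap M' Mh (ψ b) * Φ (algebraMap A C g) ^ k = Φ d := hd
    rw [eq_div_of_mul_eq hne hval]
    exact div_mem (hrange d) (pow_mem (hrange _) k)
  have hle : ι.fieldRange ≤ IntermediateField.adjoin KR {θh} := by
    rintro _ ⟨z, rfl⟩
    have hz : z ∈ Algebra.adjoin KR (Set.range ψ) := hgenψ ▸ Algebra.mem_top
    induction hz using Algebra.adjoin_induction with
    | mem w hw => obtain ⟨b, rfl⟩ := hw; exact hB b
    | algebraMap a => exact (ι.commutes a).symm ▸ IntermediateField.algebraMap_mem _ _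
    | add a b _ _ ha hb => rw [map_add]; exact add_mem ha hb
    | mul a b _ _ ha hb => rw [map_mul]; exact mul_mem ha hb
  have hirr : Irreducible (Polynomial.X ^ p - Polynomial.C (algebraMap R KR t)) := by
    refine X_pow_sub_C_irreducible_of_prime hp fun b hb => ?_
    obtain ⟨a, rfl⟩ := IsIntegrallyClosed.isIntegral_iff.1
      (IsIntegral.of_pow hp.pos (hb ▸ isIntegral_algebraMap : IsIntegral R (b ^ p)))
    rw [← map_pow] at hb
    have hb' : a ^ p = t := IsFractionRing.injective R KR hb
    have ham : a ∈ maximalIdeal R := fun hua => htm (hb' ▸ hua.pow p)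
    exact htsq (hb' ▸ Ideal.pow_le_pow_right hp.two_le (Ideal.pow_mem_pow ham p))
  have haevalθ : Polynomial.aeval θh (Polynomial.X ^ p - Polynomial.C (algebraMap R KR t)) = 0 := by
    rw [map_sub, map_pow, Polynomial.aeval_X, Polynomial.aeval_C, ← IsScalarTower.algebraMap_apply R KR Mh, hθh,
      ← IsScalarTower.algebraMap_apply R M' Mh, sub_self]
  have hmonic := Polynomial.monic_X_pow_sub_C (algebraMap R KR t) hp.pos.ne'
  have hdeg : Module.finrank KR (IntermediateField.adjoin KR {θh}) = p := by
    rw [IntermediateField.adjoin.finrank ⟨_, hmonic, haevalθ⟩,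
      ← minpoly.eq_of_irreducible_of_monic hirr haevalθ hmonic, Polynomial.natDegree_X_pow_sub_C]
  haveI : FiniteDimensional KR (IntermediateField.adjoin KR {θh}) :=
    Module.finite_of_finrank_pos (hdeg ▸ hp.pos)
  haveI : FiniteDimensional KR M' :=
    Module.Finite.of_injective
      ((IntermediateField.inclusion hle).comp (AlgHom.rangeRestrict ι : M' →ₐ[KR] ι.fieldRange)).toLinearMap
      ((IntermediateField.inclusion hle).injective.comp ((AlgHom.rangeRestrict ι).toRingHom.injective))
  haveI hfr : (Module.finrank KR M') ∣ p := by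
    rw [← hdeg, ← show Module.finrank KR ι.fieldRange = Module.finrank KR M' from
      (AlgEquiv.ofInjectiveField ι).toLinearEquiv.finrank_eq.symm]
    exact IntermediateField.finrank_dvd_of_le_right hle
  rcases (Nat.dvd_prime hp).1 hfr with h1 | hpp
  · intro z
    exact (finrank_eq_one_iff_of_nonzero' (1 : M') one_ne_zero).1 h1 z |>.imp fun a ha => by
      rw [Algebra.smul_def, mul_one] at ha; exact ha
  exfalso
  have heq : ι.fieldRange = IntermediateField.adjoin KR {θh} := by
    refine IntermediateField.eq_of_le_of_finrank_eq hle ?_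
    rw [hdeg, ← hpp]
    exact (AlgEquiv.ofInjectiveField ι).toLinearEquiv.finrank_eq.symm
  obtain ⟨θ', hθ'⟩ : θh ∈ ι.fieldRange := heq.symm ▸ IntermediateField.mem_adjoin_simple_self KR θh
  obtain ⟨Φ', hΦ'⟩ := CAlgH.KummerAlg.exists_algHom (fun _ : Fin 1 => t) (fun _ => p) (S := M')
    (fun _ => θ') (fun _ => (algebraMap M' Mh).injective (by
      rw [map_pow]; exact (congrArg (· ^ p) hθ').trans hθh))
  have hcomp : ((IsScalarTower.toAlgHom R M' Mh).comp Φ') = Φ :=
    CAlgH.KummerAlg.algHom_ext' (fun _ : Fin 1 => t) (fun _ => p) fun k => by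
      rw [AlgHom.comp_apply, hΦ', hΦ]; exact hθ'
  have hΦ'inj : Function.Injective Φ' := fun a b hab => hΦinj (by
    rw [← hcomp]; exact congrArg (algebraMap M' Mh) hab)
  let KC := FractionRing C
  let Φ'' : KC →+* M' := IsFractionRing.lift (g := Φ'.toRingHom) hΦ'inj
  have hΦ''surj : ∀ z, ∃ w, Φ'' w = z := by
    intro z
    have hz : algebraMap M' Mh z ∈ IntermediateField.adjoin KR {θh} := hle ⟨z, rfl⟩
    suffices h : algebraMap M' Mh z ∈ ((algebraMap M' Mh).comp Φ'').fieldRange by
      obtain ⟨w, hw⟩ := h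
      exact ⟨w, (algebraMap M' Mh).injective hw⟩
    let F : IntermediateField KR Mh :=
      { ((algebraMap M' Mh).comp Φ'').fieldRange with
        algebraMap_mem' := fun k => by
          obtain ⟨a, b, hb, rfl⟩ := IsFractionRing.div_surjective R k
          refine ⟨algebraMap C KC (algebraMap R C a) / algebraMap C KC (algebraMap R C b), ?_⟩
          rw [RingHom.comp_apply, map_div₀, map_div₀, map_div₀, IsFractionRing.lift_algebraMap,
            IsFractionRing.lift_algebraMap, AlgHom.toRingHom_eq_coe, RingHom.coe_coe, Φ'.commutes, Φ'.commutes,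
            ← IsScalarTower.algebraMap_apply R M' Mh, ← IsScalarTower.algebraMap_apply R M' Mh,
            ← IsScalarTower.algebraMap_apply R KR Mh, ← IsScalarTower.algebraMap_apply R KR Mh] }
    exact (IntermediateField.adjoin_simple_le_iff (K := F)).2 ⟨algebraMap C KC θ, by
      rw [RingHom.comp_apply, IsFractionRing.lift_algebraMap, AlgHom.toRingHom_eq_coe, RingHom.coe_coe, hΦ']
      exact hθ'⟩ hz
  let CM := integralClosure R M'
  have hmemCM : ∀ c : C, Φ' c ∈ CM := fun c => (Algebra.IsIntegral.isIntegral (R := R) c).map Φ'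
  let ε : C ≃ₐ[R] CM := AlgEquiv.ofBijective (Φ'.codRestrict CM hmemCM)
    ⟨fun a b hab => hΦ'inj (congrArg Subtype.val hab), fun z => by
      obtain ⟨w, hw⟩ := hΦ''surj (z : M')
      letI : Algebra KC M' := Φ''.toAlgebra
      letI : Algebra C M' := Φ'.toRingHom.toAlgebra
      haveI : IsScalarTower C KC M' :=
        IsScalarTower.of_algebraMap_eq fun c => (IsFractionRing.lift_algebraMap (g := Φ'.toRingHom) hΦ'inj c).symm
      haveI : IsScalarTower R C M' :=
        IsScalarTower.of_algebraMap_eq (R := R) (S := C) (A := M') fun a => (Φ'.commutes a).symm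
      have hint : IsIntegral C w := by
        rw [← isIntegral_algHom_iff (IsScalarTower.toAlgHom C KC M') (algebraMap KC M').injective]
        show IsIntegral C (Φ'' w)
        rw [hw]
        exact IsIntegral.tower_top (R := R) z.2
      obtain ⟨c, hc⟩ := IsIntegrallyClosed.isIntegral_iff.1 hint
      refine ⟨c, Subtype.ext ?_⟩
      show Φ' c = (z : M')
      rw [← hw, ← hc]
      exact (IsFractionRing.lift_algebraMap (g := Φ'.toRingHom) hΦ'inj c).symm⟩
  -- a height one prime over `p`
  have hpA : (p : A) ≠ 0 := fun h0 => hnκ i (by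
    obtain ⟨m, hm'⟩ := hpn
    rw [hm', Nat.cast_mul, ← map_natCast (algebraMap A (ResidueField O)), h0, map_zero, zero_mul])
  have hpR : (p : R) ≠ 0 := by rw [← map_natCast (algebraMap A R)]; exact (map_ne_zero_iff _ hinjR).2 hpA
  have hpm : (p : A) ∈ maximalIdeal A := by
    rw [← residue_eq_zero_iff, map_natCast]; exact CharP.cast_eq_zero _ _
  have hpmR : (p : R) ∈ maximalIdeal R := fun hu => (mem_maximalIdeal _).1 hpm
    (IsLocalHom.map_nonunit (f := algebraMap A R) _ (by rwa [map_natCast]))
  obtain ⟨P, hPmin, -⟩ := Ideal.exists_minimalPrimes_le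
    ((Ideal.span_singleton_le_iff_mem _).2 hpmR : Ideal.span {(p : R)} ≤ maximalIdeal R)
  haveI := hPmin.1.1
  have hPp : (p : R) ∈ P := hPmin.1.2 (Ideal.mem_span_singleton_self _)
  have hP1 : P.height = 1 := by
    refine le_antisymm (Ideal.height_le_one_of_isPrincipal_of_mem_minimalPrimes _ P hPmin) ?_
    rw [ENat.one_le_iff_ne_zero, Ne, Ideal.height_eq_zero_iff_eq_bot]
    intro hbot
    rw [hbot, Ideal.mem_bot] at hPp
    exact hpR hPp
  obtain ⟨𝔓, h𝔓, h𝔓c⟩ := CAlgH.KummerAlg.exists_prime_over (fun _ : Fin 1 => t) (fun _ => p) (fun _ => hp.pos) P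
  let q' : Ideal CM := 𝔓.comap ε.symm.toAlgHom.toRingHom
  have hq' : q'.comap (algebraMap R CM) = P := by
    rw [← h𝔓c, Ideal.comap_comap]
    exact congrArg (fun φ => Ideal.comap φ 𝔓) (RingHom.ext fun a => ε.symm.commutes a)
  have hunr : Algebra.IsUnramifiedAt R q' := by
    by_cases hgP : algebraMap A R g ∈ P
    · obtain ⟨j, hj⟩ : ∃ j, algebraMap A R (f j) ∈ P := by
        have hmem : ∏ j, algebraMap A R (f j) ∈ P := by rw [← map_prod]; exact hgP
        obtain ⟨j, -, hj⟩ := (Ideal.IsPrime.prod_mem_iff (hp := (inferInstance : P.IsPrime))).1 hmem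
        exact ⟨j, hj⟩
      have hPc : P.comap (algebraMap A R) = Ideal.span {f j} :=
        comap_eq_span_of_height P (hf0 j) hj ((hhtR P inferInstance).trans hP1.le)
      have hji : j ≠ i := by
        rintro rfl
        have hmem : (p : A) ∈ Ideal.span {f j} := hPc ▸ (by rw [Ideal.mem_comap, map_natCast]; exact hPp)
        refine hnκ j ?_
        obtain ⟨m, hm'⟩ := hpn
        rw [hm', Nat.cast_mul, ← map_natCast (algebraMap A (ResidueField (Localization.AtPrime (Ideal.span {f j})))),
          show algebraMap A (ResidueField (Localization.AtPrime (Ideal.span {f j}))) (p : A) =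
            residue _ (algebraMap A (Localization.AtPrime (Ideal.span {f j})) (p : A)) from rfl,
          (residue_eq_zero_iff _).2 ((IsLocalization.AtPrime.to_map_mem_maximal_iff _ _ _).2 hmem), zero_mul]
      exact unramified_of_kills g hg P hP1 ψ hgenψ (hf0 j) (hn j) (hnκ j) (fun q _ hq => htame j q hq) (hkill j)
        hinjR hPc (y j) (hy j hji) q' hq'
    · exact unramified_of_notMem g P hP1 ψ hgenψ hgP q' hq'
  refine not_unramified_of_charP t p hp 𝔓 ?_ ?_
  · rw [← map_natCast (algebraMap R C)]
    exact (h𝔓c.symm ▸ hPp : (p : R) ∈ 𝔓.comap (algebraMap R C))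
  · haveI : Algebra.FormallyUnramified R (Localization.AtPrime q') := hunr
    exact Algebra.FormallyUnramified.of_equiv
      (IsLocalization.algEquivOfAlgEquiv (A := R) (M := q'.primeCompl) (T := 𝔓.primeCompl)
        (Localization.AtPrime q') (Localization.AtPrime 𝔓) ε.symm (by
          ext c
          simp only [Submonoid.mem_map, Ideal.mem_primeCompl_iff]
          exact ⟨fun ⟨z, hz, hzc⟩ => hzc ▸ hz, fun hc => ⟨ε c, fun h => hc ((congrArg (· ∈ 𝔓) (ε.symm_apply_apply c)).mp h), ε.symm_apply_apply c⟩⟩))

set_option maxHeartbeats 4000000 in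
set_option synthInstance.maxHeartbeats 100000 in
/-- The residue characteristic can be removed from exponents killing the ramification. -/
theorem kills_div {r : ℕ} (f : Fin r → A) (hm : ∀ i, f i ∈ maximalIdeal A)
    (hf : LinearIndependent (ResidueField A) (fun i => (maximalIdeal A).toCotangent ⟨f i, hm i⟩))
    [∀ i, (Ideal.span {f i}).IsPrime]
    [Algebra (Localization.Away (∏ i, f i)) B] [IsScalarTower A (Localization.Away (∏ i, f i)) B]
    [Module.Finite (Localization.Away (∏ i, f i)) B] [Algebra.Etale (Localization.Away (∏ i, f i)) B]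
    (htame : SGA1.IsTameAlong f (algebraMap A B)) (n : Fin r → ℕ) (hn : ∀ i, 1 ≤ n i)
    (hnκ : ∀ i, (n i : ResidueField (Localization.AtPrime (Ideal.span {f i}))) ≠ 0)
    (hkill : ∀ i, Kills (algebraMap A B) (f i) (n i))
    (i : Fin r) (p : ℕ) (hp : p.Prime) [CharP (ResidueField A) p] (hpn : p ∣ n i) :
    Kills (algebraMap A B) (f i) (n i / p) := by
  classical
  have hf0 : ∀ i, f i ≠ 0 := fun i h0 => hf.ne_zero i (by
    rw [show (⟨f i, hm i⟩ : maximalIdeal A) = 0 from Subtype.ext h0, map_zero])
  let g := ∏ i, f i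
  have hg : g ≠ 0 := Finset.prod_ne_zero_iff.2 fun i _ => hf0 i
  let n' := Function.update n i (n i / p)
  have hn'i : n' i = n i / p := Function.update_self _ _ _
  have hdivpos : 1 ≤ n i / p := Nat.div_pos (Nat.le_of_dvd (hn i) hpn) hp.pos
  have hn' : ∀ j, 1 ≤ n' j := fun j => by
    by_cases hj : j = i
    · subst hj; rw [hn'i]; exact hdivpos
    · simp only [n', Function.update_of_ne hj]; exact hn j
  let A2 := SGA1.kummerAlg A f n'
  obtain ⟨_, _, _, _, hinj2, hht2⟩ := isRegular_kummer f hm hf n' hn'
  haveI : FaithfulSMul A A2 := (faithfulSMul_iff_algebraMap_injective _ _).2 hinj2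
  haveI : IsLocalHom (algebraMap A A2) := Algebra.IsIntegral.isLocalHom A A2
  -- the strict henselisation
  let R := HenselLib.LocalSH A2
  haveI hRreg : IsRegularLocalRing R := isRegular_localSH A2
  haveI := CAlgH3.isDomain_of_isRegularLocalRing R
  haveI := CAlgH3.ufm_of_regular R
  haveI : IsNoetherianRing R := inferInstance
  haveI : IsSepClosed (ResidueField R) :=
    (HenselLib.isSepClosure_residueField_localSH (R := A2)).sep_closed
  letI : Algebra A R := ((algebraMap A2 R).comp (algebraMap A A2)).toAlgebra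
  haveI : IsScalarTower A A2 R := IsScalarTower.of_algebraMap_eq (R := A) (S := A2) (A := R) fun _ => rfl
  haveI : IsLocalHom (algebraMap A R) := RingHom.isLocalHom_comp _ _
  have hinjR : Function.Injective (algebraMap A R) :=
    (FaithfulSMul.algebraMap_injective A2 R).comp hinj2
  have hhtR : ∀ P : Ideal R, P.IsPrime → (P.comap (algebraMap A R)).height ≤ P.height := fun P hP => by
    rw [show P.comap (algebraMap A R) = (P.comap (algebraMap A2 R)).comap (algebraMap A A2) from
      (Ideal.comap_comap _ _).symm, hht2 _ inferInstance]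
    exact height_comap_le_of_flat P
  let y : Fin r → R := fun j => algebraMap A2 R (CAlgH.KummerAlg.root f n' j)
  have hy : ∀ j, y j ^ n' j = algebraMap A R (f j) := fun j => by
    show (algebraMap A2 R (CAlgH.KummerAlg.root f n' j)) ^ n' j = _
    rw [← map_pow, CAlgH.KummerAlg.root_pow, ← IsScalarTower.algebraMap_apply]
  let t := y i
  have ht : t ^ (n i / p) = algebraMap A R (f i) := hn'i ▸ hy i
  have htm : t ∈ maximalIdeal R := fun hu => hm i
    (IsLocalHom.map_nonunit (f := algebraMap A R) _ (ht ▸ hu.pow _))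
  have htsq : t ∉ maximalIdeal R ^ 2 := by
    intro h
    have h1 : t ∈ (maximalIdeal A2 ^ 2).map (algebraMap A2 R) := by
      rw [Ideal.map_pow, HenselLib.map_maximalIdeal_localSH]; exact h
    have h2 : CAlgH.KummerAlg.root f n' i ∈ ((maximalIdeal A2 ^ 2).map (algebraMap A2 R)).comap (algebraMap A2 R) := h1
    rw [Ideal.comap_map_eq_self_of_faithfullyFlat] at h2
    exact root_notMem_sq f hm hf n' hn' i h2
  have ht0 : t ≠ 0 := fun h => htsq (h ▸ zero_mem _)
  haveI : (Ideal.span {t}).IsPrime := by
    haveI := (CAlgH3.regular_quotient_of_notMem_sq htm htsq).1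
    haveI := CAlgH3.isDomain_of_isRegularLocalRing (R ⧸ Ideal.span {t})
    exact (Ideal.Quotient.isDomain_iff_prime _).1 inferInstance
  have hcomap : (Ideal.span {t}).comap (algebraMap A R) = Ideal.span {f i} := by
    refine comap_eq_span_of_height _ (hf0 i) ?_ ((hhtR _ inferInstance).trans ?_)
    · rw [← ht]
      exact Ideal.pow_mem_of_mem _ (Ideal.mem_span_singleton_self t) _ hdivpos
    · refine Ideal.height_le_one_of_isPrincipal_of_mem_minimalPrimes (Ideal.span {t}) _ ?_
      rw [Ideal.minimalPrimes_eq_subsingleton_self]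
      rfl
  -- ramification at a point of the generic fibre
  intro q _ hq
  letI := genericAlgebra q hq
  obtain ⟨_, _, _, -⟩ := finite_separable_generic q hq g hg
  let O := Localization.AtPrime (Ideal.span {f i})
  let K := FractionRing A
  let L := q.ResidueField
  obtain ⟨_, hO⟩ := isDVR_atPrime_span (hf0 i)
  letI : Algebra O K := IsLocalization.localizationAlgebraOfSubmonoidLe O K (Ideal.span {f i}).primeCompl
    (nonZeroDivisors A) (Ideal.span {f i}).primeCompl_le_nonZeroDivisors
  haveI : IsScalarTower A O K := IsLocalization.localization_isScalarTower_of_submonoid_le O K _ _ _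
  haveI : IsFractionRing O K :=
    IsFractionRing.isFractionRing_of_isDomain_of_isLocalization (Ideal.span {f i}).primeCompl O K
  refine idx_dvd_congr (genericResidueMap_eq q hq (Ideal.span {f i})).symm fun V hV => ?_
  have hπ : Irreducible (algebraMap A O (f i)) := (IsDiscreteValuationRing.irreducible_iff_uniformizer _).2 hO
  obtain ⟨_, ϖ, u, e, hϖ, he, hu, hidx⟩ := exists_factor (K := K) (L := L) hπ V hV
  rw [hidx]
  -- the compositum with the fraction field of `R`
  let O' := Localization.AtPrime (Ideal.span {t})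
  obtain ⟨_, hO'⟩ := isDVR_atPrime_span ht0
  let KR := FractionRing R
  letI : Algebra O' KR := IsLocalization.localizationAlgebraOfSubmonoidLe O' KR (Ideal.span {t}).primeCompl
    (nonZeroDivisors R) (Ideal.span {t}).primeCompl_le_nonZeroDivisors
  haveI : IsScalarTower R O' KR := IsLocalization.localization_isScalarTower_of_submonoid_le O' KR _ _ _
  haveI : IsFractionRing O' KR :=
    IsFractionRing.isFractionRing_of_isDomain_of_isLocalization (Ideal.span {t}).primeCompl O' KR
  let ρ : O →+* O' := Localization.localRingHom _ _ (algebraMap A R) hcomap.symm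
  letI : Algebra O O' := ρ.toAlgebra
  haveI : IsLocalHom (algebraMap O O') := Localization.isLocalHom_localRingHom _ _ _ _
  letI : Algebra O KR := ((algebraMap O' KR).comp ρ).toAlgebra
  haveI : IsScalarTower O O' KR := IsScalarTower.of_algebraMap_eq fun _ => rfl
  have hinjKR : Function.Injective ((algebraMap R KR).comp (algebraMap A R)) :=
    (IsFractionRing.injective R KR).comp hinjR
  letI : Algebra K KR := (IsFractionRing.lift hinjKR : K →+* KR).toAlgebra
  have hKKR : ∀ a : A, algebraMap K KR (algebraMap A K a) = algebraMap R KR (algebraMap A R a) := fun a =>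
    IsFractionRing.lift_algebraMap _ a
  have hρ : ∀ a : A, ρ (algebraMap A O a) = algebraMap R O' (algebraMap A R a) :=
    fun a => Localization.localRingHom_to_map _ _ _ _ a
  haveI : IsScalarTower O K KR := IsScalarTower.of_algebraMap_eq' (IsLocalization.ringHom_ext
    (Ideal.span {f i}).primeCompl (RingHom.ext fun a => by
      simp only [RingHom.comp_apply]
      rw [← IsScalarTower.algebraMap_apply A O K, hKKR, IsScalarTower.algebraMap_apply O O' KR,
        show algebraMap O O' (algebraMap A O a) = ρ (algebraMap A O a) from rfl, hρ, ← IsScalarTower.algebraMap_apply]))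
  have hinjO : Function.Injective (algebraMap O O') := by
    intro a b hab
    refine IsFractionRing.injective O K ((algebraMap K KR).injective ?_)
    rw [← IsScalarTower.algebraMap_apply O K KR, ← IsScalarTower.algebraMap_apply O K KR,
      IsScalarTower.algebraMap_apply O O' KR, IsScalarTower.algebraMap_apply O O' KR, hab]
  have hgenL : Algebra.adjoin K (Set.range (algebraMap B L)) = ⊤ := by
    rw [eq_top_iff]
    rintro z -
    obtain ⟨a, b, hb, rfl⟩ := IsFractionRing.div_surjective (B ⧸ q) z
    obtain ⟨a, rfl⟩ := Ideal.Quotient.mk_surjective a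
    obtain ⟨b, rfl⟩ := Ideal.Quotient.mk_surjective b
    have hmem : ∀ c : B, algebraMap (B ⧸ q) L (Ideal.Quotient.mk q c) ∈ Algebra.adjoin K (Set.range (algebraMap B L)) :=
      fun c => Algebra.subset_adjoin ⟨c, IsScalarTower.algebraMap_apply B (B ⧸ q) L c⟩
    rw [div_eq_mul_inv]
    exact mul_mem (hmem a) (Subalgebra.inv_mem_of_algebraic _
      (Algebra.IsAlgebraic.isAlgebraic ((⟨_, hmem b⟩ : Algebra.adjoin K (Set.range (algebraMap B L))) : L)))
  obtain ⟨M', _, i₁, j, W', hij, hgen', hdom', hW'⟩ :=
    HenselLib.ExtValuation.exists_compositum (B := O) (C := O') (L := K) (M₀ := KR) (M := L) hinjO hgenL V hV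
  letI : Algebra KR M' := i₁.toAlgebra
  letI : Algebra R M' := (i₁.comp (algebraMap R KR)).toAlgebra
  haveI : IsScalarTower R KR M' := IsScalarTower.of_algebraMap_eq fun _ => rfl
  letI : Algebra A M' := ((algebraMap R M').comp (algebraMap A R)).toAlgebra
  haveI : IsScalarTower A R M' := IsScalarTower.of_algebraMap_eq fun _ => rfl
  have hjA : ∀ a : A, j (algebraMap B L (algebraMap A B a)) = algebraMap A M' a := fun a => by
    rw [← IsScalarTower.algebraMap_apply A B L, IsScalarTower.algebraMap_apply A K L]
    show _ = i₁ (algebraMap R KR (algebraMap A R a))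
    rw [← hKKR]
    exact (RingHom.congr_fun hij _).symm
  let ψ : B →ₐ[A] M' := { toRingHom := j.comp (algebraMap B L), commutes' := hjA }
  have hgenψ : Algebra.adjoin KR (Set.range ψ) = ⊤ := by
    rw [← hgen', ← Set.range_comp]
    rfl
  have hsurj : Function.Surjective i₁ :=
    extension_trivial f hm hf0 htame n hn hnκ hkill i p hp hpn hinjR hhtR t htm htsq ht y
      (fun j hj => by rw [show n j = n' j from (Function.update_of_ne hj _ _).symm]; exact hy j) ψ hgenψ
  let e₁ : KR ≃+* M' := RingEquiv.ofBijective i₁ ⟨i₁.injective, hsurj⟩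
  let W : ValuationSubring KR := W'.comap i₁
  have hWC : EtRam.Dominates O' (algebraMap O' KR) W :=
    ⟨fun a => hdom'.1 a, fun a ha => by
      have hmem : algebraMap O' KR a ∈ W := hdom'.1 a
      rw [← W.valuation_lt_one_iff (⟨_, hmem⟩ : W)]
      have h1 := (W'.valuation_lt_one_iff (⟨_, hdom'.1 a⟩ : W')).2 (hdom'.2 a ha)
      refine fun hu => h1 ?_
      exact hu.map ((i₁.comp W.subtype).codRestrict W' fun w => w.2)⟩
  refine dvd_of_pow V W hWC (e₁.symm.toRingHom.comp j) ?_ ρ
    ((algebraMap K L).comp (algebraMap O K)) ?_ (algebraMap A O (f i)) (algebraMap R O' t)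
    ((IsDiscreteValuationRing.irreducible_iff_uniformizer _).2 hO') (n i / p) ?_ ϖ u e he
    (congrArg Subtype.val hu)
  · rw [← hW']
    ext z
    show i₁ (e₁.symm (j z)) ∈ W' ↔ j z ∈ W'
    rw [show i₁ (e₁.symm (j z)) = j z from e₁.apply_symm_apply _]
  · intro a
    refine e₁.injective ?_
    show e₁ (e₁.symm _) = i₁ _
    rw [e₁.apply_symm_apply, show algebraMap O' KR (ρ a) = algebraMap K KR (algebraMap O K a) from
      IsScalarTower.algebraMap_apply O K KR a]
    exact (RingHom.congr_fun hij _).symm
  · rw [hρ, ← ht, map_pow]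

end Groth.Agent.TameKum
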