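import Groth.Agent.TameKum.SH

/-!
# Auxiliary lemmas for the divisibility of ramification indices
-/

set_option autoImplicit false
set_option maxHeartbeats 1000000
set_option linter.style.haveILetI false

universe u

open IsLocalRing TensorProduct

namespace Groth.Agent.TameKum

/-- A root of order `p` is not unramified at primes of characteristic `p`. -/
theorem not_unramified_of_charP {R : Type u} [CommRing R] (t : R) (p : ℕ) (hp : p.Prime)
    (𝔓 : Ideal (SGA1.kummerAlg R (fun _ : Fin 1 => t) (fun _ => p))) [𝔓.IsPrime]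
    (hp𝔓 : (p : SGA1.kummerAlg R (fun _ : Fin 1 => t) (fun _ => p)) ∈ 𝔓) :
    ¬ Algebra.IsUnramifiedAt R 𝔓 := by
  classical
  intro hu
  haveI := hu
  let C := SGA1.kummerAlg R (fun _ : Fin 1 => t) (fun _ => p)
  let κ := 𝔓.ResidueField
  let θ : κ := algebraMap C κ (CAlgH.KummerAlg.root _ _ 0)
  let E := DualNumber κ
  have hpκ : (p : κ) = 0 := by
    rw [← map_natCast (algebraMap C κ), ← RingHom.mem_ker, Ideal.ker_algebraMap_residueField]
    exact hp𝔓
  have hpE : (p : E) = 0 := by rw [← map_natCast (algebraMap κ E), hpκ, map_zero]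
  have hθ : ∀ c : κ, (algebraMap κ E θ + c • DualNumber.eps) ^ p = algebraMap R E t := by
    intro c
    have h1 : (algebraMap κ E θ) ^ p = algebraMap R E t := by
      rw [← map_pow, ← map_pow, CAlgH.KummerAlg.root_pow, ← IsScalarTower.algebraMap_apply R C κ,
        ← IsScalarTower.algebraMap_apply R κ E]
    obtain ⟨r, hr⟩ : (p : E) ∣ (algebraMap κ E θ + c • DualNumber.eps) ^ p - (algebraMap κ E θ) ^ p -
        (c • DualNumber.eps) ^ p := by
      obtain ⟨r, hr⟩ := exists_add_pow_prime_eq hp (algebraMap κ E θ) (c • DualNumber.eps)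
      exact ⟨algebraMap κ E θ * (c • DualNumber.eps) * r, by rw [hr]; ring⟩
    rw [hpE, zero_mul, sub_eq_zero, sub_eq_iff_eq_add] at hr
    rw [hr, h1]
    obtain ⟨m, rfl⟩ : ∃ m, p = m + 2 := ⟨p - 2, by have := hp.two_le; omega⟩
    rw [smul_pow, pow_add (DualNumber.eps : E), pow_two, DualNumber.eps_mul_eps, mul_zero, smul_zero, zero_add]
  obtain ⟨φ, hφ⟩ := CAlgH.KummerAlg.exists_algHom (fun _ : Fin 1 => t) (fun _ => p) (S := E)
    (fun _ => algebraMap κ E θ + (1 : κ) • DualNumber.eps) (fun _ => hθ 1)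
  obtain ⟨ψ, hψ⟩ := CAlgH.KummerAlg.exists_algHom (fun _ : Fin 1 => t) (fun _ => p) (S := E)
    (fun _ => algebraMap κ E θ + (0 : κ) • DualNumber.eps) (fun _ => hθ 0)
  have hfst : ∀ (χ : C →ₐ[R] E), TrivSqZeroExt.fst (χ (CAlgH.KummerAlg.root _ _ 0)) = θ →
      ∀ y, TrivSqZeroExt.fst (χ y) = algebraMap C κ y := by
    intro χ hχ y
    exact congrArg (fun g => g y) (CAlgH.KummerAlg.algHom_ext' (fun _ : Fin 1 => t) (fun _ => p)
      (φ := ((TrivSqZeroExt.fstHom κ κ κ).restrictScalars R).comp χ) (ψ := IsScalarTower.toAlgHom R C κ)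
      fun i => by fin_cases i; exact hχ)
  have hfe : ∀ c : κ, TrivSqZeroExt.fst (algebraMap κ E θ + c • DualNumber.eps) = θ := fun c => by
    simp [E, TrivSqZeroExt.algebraMap_eq_inl']
  have hφ' := hfst φ (by rw [hφ]; exact hfe 1)
  have hψ' := hfst ψ (by rw [hψ]; exact hfe 0)
  have hunit : ∀ (χ : C →ₐ[R] E), (∀ y, TrivSqZeroExt.fst (χ y) = algebraMap C κ y) →
      ∀ y : 𝔓.primeCompl, IsUnit (χ y) := by
    intro χ hχ y
    rw [TrivSqZeroExt.isUnit_iff_isUnit_fst, hχ, isUnit_iff_ne_zero, ne_eq, ← RingHom.mem_ker,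
      Ideal.ker_algebraMap_residueField]
    exact y.2
  let φ' : Localization.AtPrime 𝔓 →ₐ[R] E := IsLocalization.liftAlgHom (hunit φ hφ')
  let ψ' : Localization.AtPrime 𝔓 →ₐ[R] E := IsLocalization.liftAlgHom (hunit ψ hψ')
  have heq : φ' = ψ' := by
    refine Algebra.FormallyUnramified.ext' (R := R) (A := Localization.AtPrime 𝔓) (B := E) (TrivSqZeroExt.fstHom κ κ κ).toRingHom ⟨2, ?_⟩ φ' ψ' fun z => ?_
    · rw [pow_two, Ideal.zero_eq_bot, eq_bot_iff, Ideal.mul_le]
      intro a ha b hb
      change TrivSqZeroExt.fst a = 0 at ha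
      change TrivSqZeroExt.fst b = 0 at hb
      exact TrivSqZeroExt.ext ((TrivSqZeroExt.fst_mul a b).trans (by rw [ha, zero_mul]; rfl))
        ((TrivSqZeroExt.snd_mul a b).trans (by rw [ha, hb]; simp))
    · refine congrFun (congrArg DFunLike.coe (IsLocalization.ringHom_ext 𝔓.primeCompl
        (j := (TrivSqZeroExt.fstHom κ κ κ).toRingHom.comp φ'.toRingHom)
        (k := (TrivSqZeroExt.fstHom κ κ κ).toRingHom.comp ψ'.toRingHom) (RingHom.ext fun y => ?_))) z
      show TrivSqZeroExt.fst (φ' (algebraMap C _ y)) = TrivSqZeroExt.fst (ψ' (algebraMap C _ y))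
      rw [show φ' (algebraMap C _ y) = φ y from IsLocalization.lift_eq _ y,
        show ψ' (algebraMap C _ y) = ψ y from IsLocalization.lift_eq _ y, hφ', hψ']
  have h3 : φ (CAlgH.KummerAlg.root _ _ 0) = ψ (CAlgH.KummerAlg.root _ _ 0) :=
    ((IsLocalization.lift_eq (hunit φ hφ') _).symm.trans
      (congrArg (fun g => g (algebraMap C _ (CAlgH.KummerAlg.root (fun _ : Fin 1 => t) (fun _ => p) 0))) heq)).trans
        (IsLocalization.lift_eq (hunit ψ hψ') _)
  rw [hφ, hψ, add_right_inj] at h3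
  have h4 := congrArg TrivSqZeroExt.snd h3
  simp at h4

/-- Finite unramified algebras over a strictly henselian ring map onto the scalars in any domain. -/
theorem mem_range_of_sepClosed {R C : Type u} [CommRing R] [HenselianLocalRing R] [IsSepClosed (ResidueField R)]
    [CommRing C] [IsLocalRing C] [Algebra R C] [Module.Finite R C] [IsLocalHom (algebraMap R C)]
    (hres : Function.Surjective (algebraMap (ResidueField R) (ResidueField C)))
    {E D : Type u} [CommRing E] [Algebra C E] [Module.Finite C E] [Algebra.FormallyUnramified C E]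
    [CommRing D] [IsDomain D] [Algebra C D] (Φ : E →ₐ[C] D) (hinj : Function.Injective (algebraMap C D)) (e : E) :
    ∃ c : C, Φ e = algebraMap C D c := by
  let D0 := Φ.range
  haveI : Module.Finite C D0 := Module.Finite.of_surjective Φ.rangeRestrict.toLinearMap Φ.rangeRestrict_surjective
  haveI : Algebra.FormallyUnramified C D0 :=
    Algebra.FormallyUnramified.of_surjective Φ.rangeRestrict Φ.rangeRestrict_surjective
  letI : Algebra R D0 := ((algebraMap C D0).comp (algebraMap R C)).toAlgebra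
  haveI : IsScalarTower R C D0 := IsScalarTower.of_algebraMap_eq fun _ => rfl
  haveI : Module.Finite R D0 := Module.Finite.trans C D0
  haveI : IsLocalRing D0 := HenselLib.Olivier.isLocalRing_of_integral_domain (A := R) D0
  haveI : FaithfulSMul C D0 := (faithfulSMul_iff_algebraMap_injective C D0).2 fun a b hab =>
    hinj (congrArg Subtype.val hab)
  haveI : IsLocalHom (algebraMap C D0) := Algebra.IsIntegral.isLocalHom C D0
  haveI : Algebra.EssFiniteType C D0 := inferInstance
  have hmax : (maximalIdeal C).map (algebraMap C D0) = maximalIdeal D0 :=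
    Algebra.FormallyUnramified.map_maximalIdeal
  haveI : IsSepClosed (ResidueField C) :=
    haveI : Algebra.IsAlgebraic (ResidueField R) (ResidueField C) :=
      ⟨fun x => (hres x).choose_spec ▸ isAlgebraic_algebraMap _⟩
    Algebra.IsAlgebraic.isSepClosed (F := ResidueField R)
  haveI : Algebra.IsSeparable (ResidueField C) (ResidueField D0) := inferInstance
  have hsurj : Function.Surjective (algebraMap (ResidueField C) (ResidueField D0)) :=
    IsSepClosed.algebraMap_surjective _ _
  have htop : (⊤ : Submodule C D0) ≤ LinearMap.range (Algebra.linearMap C D0) ⊔ maximalIdeal C • ⊤ := by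
    intro y _
    obtain ⟨z, hz⟩ := hsurj (residue D0 y)
    obtain ⟨c, rfl⟩ := residue_surjective z
    rw [Submodule.mem_sup]
    refine ⟨algebraMap C D0 c, ⟨c, rfl⟩, y - algebraMap C D0 c, ?_, add_sub_cancel _ _⟩
    rw [Ideal.smul_top_eq_map, hmax, Submodule.restrictScalars_mem, ← residue_eq_zero_iff, map_sub, ← hz, sub_eq_zero]
    rfl
  have hle := Submodule.le_of_le_smul_of_le_jacobson_bot (Module.finite_def.1 ‹Module.Finite C D0›)
    (IsLocalRing.maximalIdeal_le_jacobson _) htop
  obtain ⟨c, hc⟩ := hle (Submodule.mem_top (x := Φ.rangeRestrict e))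
  exact ⟨c, (congrArg Subtype.val hc).symm⟩

/-- Ramification indices seen in a DVR where the uniformiser of the base is a power of the uniformiser. -/
theorem dvd_of_pow {O C KC L : Type u} [CommRing O] [CommRing C] [IsDomain C]
    [IsDiscreteValuationRing C] [Field KC] [Algebra C KC] [IsFractionRing C KC] [Field L]
    (V : ValuationSubring L) (W : ValuationSubring KC) (hWC : EtRam.Dominates C (algebraMap C KC) W)
    (j : L →+* KC) (hV : W.comap j = V) (ρ : O →+* C) (gO : O →+* L)
    (hj : ∀ a, j (gO a) = algebraMap C KC (ρ a)) (π : O) (t : C) (ht : Irreducible t) (n : ℕ)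
    (hπ : ρ π = t ^ n) (ϖ : V) (u : Vˣ) (e : ℕ) (he : 0 < e) (hu : gO π = (u : L) * (ϖ : L) ^ e) : e ∣ n := by
  have hW : ∀ z ∈ W, ∃ c : C, algebraMap C KC c = z := by
    intro z hz
    rcases ValuationRing.isInteger_or_isInteger C z with ⟨c, hc⟩ | ⟨c, hc⟩
    · exact ⟨c, hc⟩
    · by_cases hcu : IsUnit c
      · obtain ⟨c, rfl⟩ := hcu
        refine ⟨↑c⁻¹, ?_⟩
        rw [map_units_inv, hc, inv_inv]
      · rcases eq_or_ne z 0 with rfl | hz0
        · exact ⟨0, map_zero _⟩
        · exfalso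
          have h1 : W.valuation z⁻¹ < 1 := hc ▸ hWC.2 c hcu
          have h2 : W.valuation z ≤ 1 := (W.valuation_le_one_iff z).2 hz
          rw [map_inv₀] at h1
          exact absurd h1 (not_lt.2 ((one_le_inv₀ (zero_lt_iff.2 ((Valuation.ne_zero_iff _).2 hz0))).2 h2))
  have hjW : ∀ v : V, j (v : L) ∈ W := fun v => (hV.ge v.2 : (v : L) ∈ W.comap j)
  obtain ⟨a, ha⟩ := hW _ (hjW ϖ)
  obtain ⟨b, hb⟩ := hW _ (hjW u)
  obtain ⟨b', hb'⟩ := hW _ (hjW ↑u⁻¹)
  have hbu : IsUnit b := IsUnit.of_mul_eq_one b' (IsFractionRing.injective C KC (by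
    rw [map_mul, hb, hb', map_one, ← map_mul, ← map_one j]
    exact congrArg j (congrArg Subtype.val u.mul_inv)))
  have heq : t ^ n = b * a ^ e := IsFractionRing.injective C KC (by
    rw [← hπ, ← hj, hu, map_mul, map_mul, map_pow, map_pow, ha, hb])
  have ha0 : a ≠ 0 := by
    intro h0
    rw [h0, zero_pow he.ne', mul_zero] at heq
    exact pow_ne_zero n ht.ne_zero heq
  obtain ⟨k, w, rfl⟩ := IsDiscreteValuationRing.eq_unit_mul_pow_irreducible ha0 ht
  obtain ⟨b, rfl⟩ := hbu
  refine ⟨k, ?_⟩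
  rw [mul_pow, ← pow_mul, ← mul_assoc, ← Units.val_pow_eq_pow_val, ← Units.val_mul] at heq
  have := IsDiscreteValuationRing.unit_mul_pow_congr_pow ht ht 1 (b * w ^ e) n (k * e) (by simpa using heq)
  rw [this, mul_comm]

end Groth.Agent.TameKum
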