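import Groth.Agent.TameKum.KBase
import Groth.Agent.CAlgH.KummerAlg

/-!
# Extension of tame covers after a Kummer covering
-/

set_option autoImplicit false
set_option linter.style.haveILetI false

universe u

open IsLocalRing TensorProduct

namespace Groth.Agent.TameKum

theorem isRegular_kummer {A : Type u} [CommRing A] [IsRegularLocalRing A] {r : ℕ} (f : Fin r → A)
    (hm : ∀ i, f i ∈ maximalIdeal A)
    (hf : LinearIndependent (ResidueField A) (fun i => (maximalIdeal A).toCotangent ⟨f i, hm i⟩))
    (n : Fin r → ℕ) (hn : ∀ i, 1 ≤ n i) :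
    ∃ (_ : IsRegularLocalRing (SGA1.kummerAlg A f n)) (_ : IsDomain (SGA1.kummerAlg A f n))
      (_ : IsIntegrallyClosed (SGA1.kummerAlg A f n)) (_ : Module.Finite A (SGA1.kummerAlg A f n)),
      Function.Injective (algebraMap A (SGA1.kummerAlg A f n)) ∧
      ∀ P : Ideal (SGA1.kummerAlg A f n), P.IsPrime → (P.comap (algebraMap A _)).height = P.height := by
  haveI hreg := CAlgH.KummerAlg.isRegularLocalRing f hm hf n hn
  haveI := CAlgH3.isDomain_of_isRegularLocalRing (SGA1.kummerAlg A f n)
  haveI := CAlgH3.ufm_of_regular (SGA1.kummerAlg A f n)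
  haveI := CAlgH3.isDomain_of_isRegularLocalRing A
  haveI := CAlgH3.ufm_of_regular A
  haveI := CAlgH.KummerAlg.finite f n hn
  have hinj : Function.Injective (algebraMap A (SGA1.kummerAlg A f n)) := by
    rw [RingHom.injective_iff_ker_eq_bot, eq_bot_iff]
    obtain ⟨P, hP, hPc⟩ := CAlgH.KummerAlg.exists_prime_over f n hn ⊥
    rw [← hPc]
    exact Ideal.comap_mono bot_le
  haveI : FaithfulSMul A (SGA1.kummerAlg A f n) := (faithfulSMul_iff_algebraMap_injective _ _).2 hinj
  exact ⟨hreg, inferInstance, inferInstance, inferInstance, hinj, fun P hP => DimLib.height_comap_eq P⟩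

variable {A : Type u} [CommRing A] [IsRegularLocalRing A] [IsDomain A]
  {B : Type u} [CommRing B] [Algebra A B]

theorem exists_kills (f : A) (hf0 : f ≠ 0) [(Ideal.span {f}).IsPrime] (g : A) (hg : g ≠ 0)
    [Algebra (Localization.Away g) B] [IsScalarTower A (Localization.Away g) B]
    [Module.Finite (Localization.Away g) B] [Algebra.Etale (Localization.Away g) B]
    (htame : ∀ (q : Ideal B) [q.IsPrime] (hq : Ideal.comap (algebraMap A B) q = ⊥),
      EtRam.IsTamelyRamified (Localization.AtPrime (Ideal.span {f}))
        (SGA1.genericResidueMap (algebraMap A B) (Ideal.span {f}) q hq)) :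
    ∃ e : ℕ, 0 < e ∧ (e : ResidueField (Localization.AtPrime (Ideal.span {f}))) ≠ 0 ∧
      Kills (algebraMap A B) f e := by
  classical
  let O := Localization.AtPrime (Ideal.span {f})
  let K := FractionRing A
  obtain ⟨_, hO⟩ := isDVR_atPrime_span hf0
  letI : Algebra O K := IsLocalization.localizationAlgebraOfSubmonoidLe O K (Ideal.span {f}).primeCompl
    (nonZeroDivisors A) (Ideal.span {f}).primeCompl_le_nonZeroDivisors
  haveI : IsScalarTower A O K := IsLocalization.localization_isScalarTower_of_submonoid_le O K _ _ _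
  haveI : IsFractionRing O K :=
    IsFractionRing.isFractionRing_of_isDomain_of_isLocalization (Ideal.span {f}).primeCompl O K
  let S := (Finset.Icc 1 (Module.finrank K (K ⊗[A] B))).filter fun j : ℕ => (j : ResidueField O) ≠ 0
  refine ⟨∏ j ∈ S, j, Finset.prod_pos fun j hj => (Finset.mem_Icc.1 (Finset.mem_filter.1 hj).1).1, ?_, ?_⟩
  · push_cast
    exact Finset.prod_ne_zero_iff.2 fun j hj => (Finset.mem_filter.1 hj).2
  intro q _ hq
  letI := genericAlgebra q hq
  obtain ⟨_, _, _, hle⟩ := finite_separable_generic q hq g hg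
  refine idx_dvd_congr (genericResidueMap_eq q hq (Ideal.span {f})).symm fun V hV => ?_
  have ht := htame q hq
  rw [genericResidueMap_eq q hq (Ideal.span {f})] at ht
  obtain ⟨π, hπ⟩ := IsDiscreteValuationRing.exists_irreducible O
  obtain ⟨_, ϖ, u, e, hϖ, he, hu, hidx⟩ := exists_factor (K := K) (L := q.ResidueField) hπ V hV
  have hle' := (ramificationIdx'_le (K := K) (L := q.ResidueField) V hV).trans hle
  letI : Algebra O V := (RingHom.codRestrict _ V hV.1).toAlgebra
  haveI : IsLocalHom (algebraMap O V) := isLocalHom_of_dominates hV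
  have htame' := (@ht V hV _).2
  rw [hidx] at hle' htame' ⊢
  exact Finset.dvd_prod_of_mem _ (Finset.mem_filter.2 ⟨Finset.mem_Icc.2 ⟨he, hle'⟩,
    natCast_ne_zero_of_forall he.ne' htame'⟩)

set_option maxHeartbeats 1600000 in
/-- Abhyankar's lemma: a tame cover extends to a finite étale algebra over a regular local base containing
roots of the parameters of orders killing the ramification. -/
theorem etale_base {r : ℕ} (hr : 0 < r) (f : Fin r → A) (hm : ∀ i, f i ∈ maximalIdeal A) (hf0 : ∀ i, f i ≠ 0)
    [∀ i, (Ideal.span {f i}).IsPrime]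
    [Algebra (Localization.Away (∏ i, f i)) B] [IsScalarTower A (Localization.Away (∏ i, f i)) B]
    [Module.Finite (Localization.Away (∏ i, f i)) B] [Algebra.Etale (Localization.Away (∏ i, f i)) B]
    (htame : SGA1.IsTameAlong f (algebraMap A B)) (n : Fin r → ℕ) (hn : ∀ i, 1 ≤ n i)
    (hnκ : ∀ i, (n i : ResidueField (Localization.AtPrime (Ideal.span {f i}))) ≠ 0)
    (hkill : ∀ i, Kills (algebraMap A B) (f i) (n i))
    (A' : Type u) [CommRing A'] [IsRegularLocalRing A'] [IsDomain A'] [IsIntegrallyClosed A'] [Algebra A A']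
    [IsLocalHom (algebraMap A A')] (hinj : Function.Injective (algebraMap A A'))
    (hht : ∀ P : Ideal A', P.IsPrime → P.height = 1 → (P.comap (algebraMap A A')).height ≤ 1)
    (x : Fin r → A') (hx : ∀ i, x i ^ n i = algebraMap A A' (f i)) :
    Algebra.Etale A' (integralClosure A' (A' ⊗[A] B)) ∧ Module.Finite A' (integralClosure A' (A' ⊗[A] B)) ∧
      IsLocalization.Away (algebraMap A' (integralClosure A' (A' ⊗[A] B)) (algebraMap A A' (∏ i, f i))) (A' ⊗[A] B) := by
  classical
  let g := ∏ i, f i
  have hg : g ≠ 0 := Finset.prod_ne_zero_iff.2 fun i _ => hf0 i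
  let g' := algebraMap A A' g
  have hg' : g' ≠ 0 := (map_ne_zero_iff _ hinj).2 hg
  have hdim : 1 ≤ (maximalIdeal A').spanFinrank := by
    by_contra hlt
    have h0 : maximalIdeal A' = ⊥ :=
      (Submodule.spanFinrank_eq_zero_iff_eq_bot (IsNoetherian.noetherian _)).1 (by omega)
    have hmem : g' ∈ maximalIdeal A' := by
      show algebraMap A A' g ∈ maximalIdeal A'
      refine fun hu => ?_
      have hgu : IsUnit g := IsLocalHom.map_nonunit (f := algebraMap A A') g hu
      exact hm ⟨0, hr⟩ (isUnit_of_dvd_unit (Finset.dvd_prod_of_mem f (Finset.mem_univ _)) hgu)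
    rw [h0, Ideal.mem_bot] at hmem
    exact hg' hmem
  let S := A' ⊗[A] B
  let Ag := Localization.Away g
  let Ag' := Localization.Away g'
  have hgS : IsUnit (algebraMap A' S g') := by
    rw [← IsScalarTower.algebraMap_apply A A' S, ← (Algebra.TensorProduct.includeRight : B →ₐ[A] S).commutes g,
      IsScalarTower.algebraMap_apply A Ag B]
    exact ((IsLocalization.Away.algebraMap_isUnit g).map _).map _
  letI : Algebra Ag' S := (IsLocalization.Away.lift g' hgS).toAlgebra
  haveI : IsScalarTower A' Ag' S := IsScalarTower.of_algebraMap_eq fun a => (IsLocalization.Away.lift_eq g' hgS a).symm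
  haveI : Algebra.Etale A B := by
    haveI : Algebra.Etale A Ag := Algebra.Etale.of_isLocalizationAway g
    exact Algebra.Etale.comp A Ag B
  haveI : Algebra.Etale A' S := inferInstance
  haveI : Algebra.Etale Ag' S := by
    haveI : Algebra.FormallyEtale A' Ag' := Algebra.FormallyEtale.of_isLocalization (Submonoid.powers g')
    haveI : Algebra.FormallyEtale Ag' S := Algebra.FormallyEtale.localization_base (Submonoid.powers g')
    haveI : Algebra.FinitePresentation Ag' S :=
      Algebra.FinitePresentation.of_restrict_scalars_finitePresentation A' Ag' S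
    exact { }
  haveI : Module.Finite Ag' S := by
    obtain ⟨σ, hσ⟩ := (inferInstance : Module.Finite Ag B).fg_top
    refine ⟨⟨σ.image fun b => (1 : A') ⊗ₜ[A] b, ?_⟩⟩
    rw [eq_top_iff]
    rintro x -
    induction x using TensorProduct.induction_on with
    | zero => exact Submodule.zero_mem _
    | add a b ha hb => exact Submodule.add_mem _ ha hb
    | tmul a b =>
      have hb : b ∈ Submodule.span Ag (σ : Set B) := hσ ▸ Submodule.mem_top
      suffices h1 : (1 : A') ⊗ₜ[A] b ∈ Submodule.span Ag' ↑(σ.image fun b => (1 : A') ⊗ₜ[A] b) by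
        have := Submodule.smul_mem _ (algebraMap A' Ag' a) h1
        rwa [algebraMap_smul, TensorProduct.smul_tmul', smul_eq_mul, mul_one] at this
      clear a
      induction hb using Submodule.span_induction with
      | mem y hy => exact Submodule.subset_span (Finset.mem_image.2 ⟨y, hy, rfl⟩)
      | zero => rw [tmul_zero]; exact Submodule.zero_mem _
      | add y z _ _ hy hz => rw [tmul_add]; exact Submodule.add_mem _ hy hz
      | smul c y _ hy =>
        obtain ⟨k, a, hc⟩ := IsLocalization.Away.surj g c
        obtain ⟨w, hw⟩ := (IsLocalization.Away.algebraMap_isUnit (S := Ag') g').pow k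
        have key : (w : Ag') • ((1 : A') ⊗ₜ[A] (c • y)) =
            algebraMap A' Ag' (algebraMap A A' a) • ((1 : A') ⊗ₜ[A] y) := by
          rw [hw, ← map_pow, algebraMap_smul, algebraMap_smul, ← map_pow, algebraMap_smul, algebraMap_smul,
            ← tmul_smul, ← tmul_smul]
          congr 1
          rw [Algebra.smul_def, Algebra.smul_def, Algebra.smul_def, IsScalarTower.algebraMap_apply A Ag B,
            IsScalarTower.algebraMap_apply A Ag B a, ← hc, map_mul, map_pow]
          ring
        rw [← inv_smul_smul w ((1 : A') ⊗ₜ[A] (c • y)), Units.smul_def w, key]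
        exact Submodule.smul_mem _ _ (Submodule.smul_mem _ _ hy)
  refine etale_integralClosure A' hdim g' hg' S fun M _ _ _ _ _ _ ψ hgen q _ hq1 hgq => ?_
  let Kr := FractionRing A'
  letI : Algebra A M := ((algebraMap A' M).comp (algebraMap A A')).toAlgebra
  haveI : IsScalarTower A A' M := IsScalarTower.of_algebraMap_eq fun _ => rfl
  let ψB : B →ₐ[A] M := (ψ.restrictScalars A).comp Algebra.TensorProduct.includeRight
  have hgenB : Algebra.adjoin Kr (Set.range ψB) = ⊤ := by
    rw [eq_top_iff, ← hgen, Algebra.adjoin_le_iff]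
    rintro _ ⟨s, rfl⟩
    induction s using TensorProduct.induction_on with
    | zero => rw [map_zero]; exact zero_mem _
    | add a b ha hb => rw [map_add]; exact add_mem ha hb
    | tmul a b =>
      have : ψ (a ⊗ₜ[A] b) = algebraMap Kr M (algebraMap A' Kr a) * ψB b := by
        rw [← IsScalarTower.algebraMap_apply A' Kr M, ← ψ.commutes a]
        show _ = ψ _ * ψ ((1 : A') ⊗ₜ[A] b)
        rw [← map_mul, Algebra.TensorProduct.algebraMap_apply, Algebra.algebraMap_self, RingHom.id_apply,
          Algebra.TensorProduct.tmul_mul_tmul, mul_one, one_mul]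
      rw [this]
      exact mul_mem (Subalgebra.algebraMap_mem _ _) (Algebra.subset_adjoin ⟨b, rfl⟩)
  haveI : Module.Finite A' (integralClosure A' M) := IsIntegralClosure.finite A' Kr M _
  haveI : IsNoetherianRing (integralClosure A' M) := IsNoetherianRing.of_finite A' _
  have hinjC : Function.Injective (algebraMap A' (integralClosure A' M)) := fun a b hab => by
    have : algebraMap A' M a = algebraMap A' M b := congrArg Subtype.val hab
    rw [IsScalarTower.algebraMap_apply A' Kr M, IsScalarTower.algebraMap_apply A' Kr M] at this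
    exact IsFractionRing.injective A' Kr ((algebraMap Kr M).injective this)
  haveI : FaithfulSMul A' (integralClosure A' M) := (faithfulSMul_iff_algebraMap_injective _ _).2 hinjC
  let P := q.comap (algebraMap A' (integralClosure A' M))
  have hP1 : P.height = 1 := by rw [DimLib.height_comap_eq (R := A') q]; exact hq1
  obtain ⟨i, hi⟩ : ∃ i, algebraMap A A' (f i) ∈ P := by
    have hmem : ∏ i, algebraMap A A' (f i) ∈ P := by rw [← map_prod]; exact hgq
    obtain ⟨i, -, hi⟩ := (Ideal.IsPrime.prod_mem_iff (hp := (inferInstance : P.IsPrime))).1 hmem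
    exact ⟨i, hi⟩
  have hPc : P.comap (algebraMap A A') = Ideal.span {f i} :=
    comap_eq_span_of_height P (hf0 i) hi (hht P inferInstance hP1)
  exact unramified_of_kills g hg P hP1 ψB hgenB (hf0 i) (hn i) (hnκ i) (fun q _ hq => htame i q hq) (hkill i) hinj
    hPc (x i) (hx i) q rfl

end Groth.Agent.TameKum
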