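import Groth.Agent.TameKum.Core
import Groth.Agent.CohDer1.TameTower

/-!
# Abhyankar's lemma for tame extensions of the fraction field of a DVR
-/

set_option autoImplicit false
set_option linter.style.haveILetI false

universe u

open Polynomial IsLocalRing

namespace Groth.Agent.TameKum

theorem isLocalHom_of_dominates {A : Type u} [CommRing A] [IsLocalRing A] {F : Type u} [Field F] {g : A →+* F} {V : ValuationSubring F}
    (h : EtRam.Dominates A g V) : IsLocalHom (RingHom.codRestrict g V h.1) := by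
  refine ⟨fun a ha => ?_⟩
  by_contra hna
  exact absurd ((V.valuation_lt_one_iff _).2 (h.2 a hna)) (fun hm => hm ha)

variable {A K L : Type u} [CommRing A] [IsDomain A] [IsDiscreteValuationRing A] [Field K] [Algebra A K]
  [IsFractionRing A K] [Field L] [Algebra K L] [FiniteDimensional K L] [Algebra.IsSeparable K L]

theorem natCast_ne_zero_of_forall {e : ℕ} (he : e ≠ 0)
    (h : ∀ p : ℕ, p.Prime → CharP (ResidueField A) p → ¬ p ∣ e) : (e : ResidueField A) ≠ 0 := by
  obtain ⟨p, hp⟩ := CharP.exists (ResidueField A)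
  rw [Ne, CharP.cast_eq_zero_iff (ResidueField A) p]
  rcases CharP.char_is_prime_or_zero (ResidueField A) p with hpp | rfl
  · exact h p hpp hp
  · exact fun hd => he (Nat.eq_zero_of_zero_dvd hd)

/-- Uniformisers: `π = u * ϖ ^ e` with `e` the ramification index. -/
theorem exists_factor {π : A} (hπ : Irreducible π) (V : ValuationSubring L)
    (hV : EtRam.Dominates A ((algebraMap K L).comp (algebraMap A K)) V) :
    ∃ (_ : IsDiscreteValuationRing V) (ϖ : V) (u : Vˣ) (e : ℕ), Irreducible ϖ ∧ 0 < e ∧
      RingHom.codRestrict _ V hV.1 π = u * ϖ ^ e ∧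
      (letI : Algebra A V := (RingHom.codRestrict _ V hV.1).toAlgebra
       Ideal.ramificationIdx' (maximalIdeal A) (maximalIdeal V) = e) := by
  haveI := CohDer1.TameTower.isDVR_of_dominates A K L V hV
  haveI := isLocalHom_of_dominates hV
  letI : Algebra A V := (RingHom.codRestrict _ V hV.1).toAlgebra
  obtain ⟨ϖ, hϖ⟩ := IsDiscreteValuationRing.exists_irreducible V
  have h0 : RingHom.codRestrict _ V hV.1 π ≠ 0 := fun h => hπ.ne_zero (by
    have h1 : algebraMap K L (algebraMap A K π) = 0 := congrArg Subtype.val h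
    exact (map_eq_zero_iff _ (IsFractionRing.injective A K)).mp ((map_eq_zero _).mp h1))
  obtain ⟨e, u, hu⟩ := IsDiscreteValuationRing.eq_unit_mul_pow_irreducible h0 hϖ
  refine ⟨‹_›, ϖ, u, e, hϖ, ?_, hu, CohDer1.TameTower.ramificationIdx'_eq π hπ.maximalIdeal_eq ϖ hϖ u e hu⟩
  rcases Nat.eq_zero_or_pos e with rfl | h
  · refine absurd ?_ hπ.not_isUnit
    refine (isLocalHom_of_dominates hV).map_nonunit _ ?_
    rw [hu, pow_zero, mul_one]
    exact u.isUnit
  · exact h

/-- The ramification index is at most the degree. -/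
theorem ramificationIdx'_le (V : ValuationSubring L)
    (hV : EtRam.Dominates A ((algebraMap K L).comp (algebraMap A K)) V) :
    (letI : Algebra A V := (RingHom.codRestrict _ V hV.1).toAlgebra
     Ideal.ramificationIdx' (maximalIdeal A) (maximalIdeal V)) ≤ Module.finrank K L := by
  classical
  obtain ⟨π, hπ⟩ := IsDiscreteValuationRing.exists_irreducible A
  obtain ⟨_, ϖ, u, e, hϖ, he, hu, hidx⟩ := exists_factor hπ V hV
  rw [hidx]
  let g := RingHom.codRestrict _ V hV.1
  haveI := isLocalHom_of_dominates hV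
  letI : Algebra A L := ((algebraMap K L).comp (algebraMap A K)).toAlgebra
  haveI : IsScalarTower A K L := IsScalarTower.of_algebraMap_eq fun _ => rfl
  have key : ∀ a : Fin e → A, ∑ i, g (a i) * ϖ ^ (i : ℕ) = 0 → ∀ i, π ∣ a i := by
    intro a ha
    by_contra hcon
    push Not at hcon
    let S := Finset.univ.filter fun i => ¬ π ∣ a i
    have hS : S.Nonempty := hcon.elim fun i hi => ⟨i, by simp [S, hi]⟩
    let i := S.min' hS
    have hi : ¬ π ∣ a i := (Finset.mem_filter.1 (S.min'_mem hS)).2
    have hunit : IsUnit (g (a i)) := by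
      refine IsUnit.map g ?_
      by_contra hn
      exact hi (Ideal.mem_span_singleton.1 (hπ.maximalIdeal_eq ▸ hn))
    rw [← Finset.add_sum_erase _ _ (Finset.mem_univ i), add_eq_zero_iff_eq_neg] at ha
    have hdiv : ϖ ^ ((i : ℕ) + 1) ∣ g (a i) * ϖ ^ (i : ℕ) := by
      rw [ha, dvd_neg]
      refine Finset.dvd_sum fun j hj => ?_
      rcases lt_or_gt_of_ne (Finset.mem_erase.1 hj).1 with hlt | hgt
      · have hj' : π ∣ a j := by
          by_contra hn
          exact absurd (S.min'_le j (by simp [S, hn])) (not_le.2 hlt)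
        obtain ⟨c, hc⟩ := hj'
        rw [hc, map_mul, hu, mul_assoc (↑u : V), mul_assoc, mul_assoc]
        exact Dvd.dvd.mul_left ((pow_dvd_pow ϖ i.isLt).mul_right _) _
      · exact (pow_dvd_pow ϖ (Nat.succ_le_of_lt hgt)).mul_left _
    rw [pow_succ', mul_dvd_mul_iff_right (pow_ne_zero _ hϖ.ne_zero)] at hdiv
    exact hϖ.not_isUnit (isUnit_of_dvd_unit hdiv hunit)
  have hrec : ∀ (N : ℕ) (a : Fin e → A), ∑ i, g (a i) * ϖ ^ (i : ℕ) = 0 → ∀ i, π ^ N ∣ a i := by
    intro N
    induction N with
    | zero => intro a _ i; simp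
    | succ N ih =>
      intro a ha i
      choose b hb using key a ha
      have hb0 : ∑ i, g (b i) * ϖ ^ (i : ℕ) = 0 := by
        have hgπ : g π ≠ 0 := by
          rw [hu]; exact mul_ne_zero u.ne_zero (pow_ne_zero _ hϖ.ne_zero)
        refine (mul_eq_zero.1 ?_).resolve_left hgπ
        rw [Finset.mul_sum, ← ha]
        exact Finset.sum_congr rfl fun j _ => by rw [hb j, map_mul]; ring
      rw [hb i, pow_succ']
      exact mul_dvd_mul_left _ (ih b hb0 i)
  have hli : LinearIndependent A (fun i : Fin e => ((ϖ : L) ^ (i : ℕ))) := by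
    rw [Fintype.linearIndependent_iff]
    intro a ha i
    by_contra hne
    have hz : ∑ i, g (a i) * ϖ ^ (i : ℕ) = 0 := Subtype.ext (by
      push_cast
      rw [← ha]
      exact Finset.sum_congr rfl fun j _ => by rw [Algebra.smul_def]; rfl)
    obtain ⟨N, hN⟩ : ∃ N : ℕ, ¬ π ^ N ∣ a i := by
      obtain ⟨N, w, hw⟩ := IsDiscreteValuationRing.eq_unit_mul_pow_irreducible hne hπ
      refine ⟨N + 1, fun hd => ?_⟩
      rw [hw, pow_succ, mul_comm (↑w : A), mul_dvd_mul_iff_left (pow_ne_zero _ hπ.ne_zero)] at hd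
      exact hπ.not_isUnit (isUnit_of_dvd_unit hd w.isUnit)
    exact hN (hrec N a hz i)
  simpa using ((LinearIndependent.iff_fractionRing A K).1 hli).fintype_card_le_finrank

/-- An exponent which kills all ramification of a tame extension. -/
theorem exists_exponent (h : EtRam.IsTamelyRamified A ((algebraMap K L).comp (algebraMap A K))) :
    ∃ e₀ : ℕ, 0 < e₀ ∧ (e₀ : ResidueField A) ≠ 0 ∧
      ∀ (V : ValuationSubring L) (hV : EtRam.Dominates A ((algebraMap K L).comp (algebraMap A K)) V),
        (letI : Algebra A V := (RingHom.codRestrict _ V hV.1).toAlgebra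
         Ideal.ramificationIdx' (maximalIdeal A) (maximalIdeal V)) ∣ e₀ := by
  classical
  let S := (Finset.Icc 1 (Module.finrank K L)).filter fun j : ℕ => (j : ResidueField A) ≠ 0
  refine ⟨∏ j ∈ S, j, Finset.prod_pos fun j hj => (Finset.mem_Icc.1 (Finset.mem_filter.1 hj).1).1, ?_,
    fun V hV => ?_⟩
  · push_cast
    exact Finset.prod_ne_zero_iff.2 fun j hj => (Finset.mem_filter.1 hj).2
  · obtain ⟨π, hπ⟩ := IsDiscreteValuationRing.exists_irreducible A
    obtain ⟨_, ϖ, u, e, hϖ, he, hu, hidx⟩ := exists_factor hπ V hV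
    have hle := ramificationIdx'_le V hV
    letI : Algebra A V := (RingHom.codRestrict _ V hV.1).toAlgebra
    haveI : IsLocalHom (algebraMap A V) := isLocalHom_of_dominates hV
    have htame := (@h V hV _).2
    rw [hidx] at hle htame ⊢
    exact Finset.dvd_prod_of_mem _ (Finset.mem_filter.2 ⟨Finset.mem_Icc.2 ⟨he, hle⟩,
      natCast_ne_zero_of_forall he.ne' htame⟩)

/-- Abhyankar's lemma: after adjoining an `n`-th root `α` of a uniformiser, `n` divisible by the
ramification indices, `α` is a uniformiser and the residue extensions are separable. -/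
theorem unramified_of_kummer (h : EtRam.IsTamelyRamified A ((algebraMap K L).comp (algebraMap A K)))
    {π : A} (hπ : Irreducible π) (n : ℕ) (hn0 : 0 < n)
    (hn : ∀ (V : ValuationSubring L) (hV : EtRam.Dominates A ((algebraMap K L).comp (algebraMap A K)) V),
      (letI : Algebra A V := (RingHom.codRestrict _ V hV.1).toAlgebra
       Ideal.ramificationIdx' (maximalIdeal A) (maximalIdeal V)) ∣ n)
    (M : Type u) [Field M] [Algebra K M] [Algebra L M] [IsScalarTower K L M] [FiniteDimensional K M]
    [Algebra.IsSeparable K M] (α : M) (hα : α ^ n = algebraMap K M (algebraMap A K π))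
    (hgen : Subfield.closure (Set.range (algebraMap L M) ∪ {α}) = ⊤)
    (W : ValuationSubring M) (hW : EtRam.Dominates A ((algebraMap K M).comp (algebraMap A K)) W) :
    ∃ hαW : α ∈ W, maximalIdeal W = Ideal.span {(⟨α, hαW⟩ : W)} ∧
      (letI : Algebra A W := (RingHom.codRestrict _ W hW.1).toAlgebra
       haveI : IsLocalHom (algebraMap A W) := isLocalHom_of_dominates hW
       Algebra.IsSeparable (ResidueField A) (ResidueField W)) := by
  let V := W.comap (algebraMap L M)
  have hV : EtRam.Dominates A ((algebraMap K L).comp (algebraMap A K)) V := by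
    refine ⟨fun a => ?_, fun a ha => ?_⟩
    · show algebraMap L M (algebraMap K L (algebraMap A K a)) ∈ W
      rw [← IsScalarTower.algebraMap_apply K L M]; exact hW.1 a
    · have hmem : algebraMap K L (algebraMap A K a) ∈ V := by
        show algebraMap L M (algebraMap K L (algebraMap A K a)) ∈ W
        rw [← IsScalarTower.algebraMap_apply K L M]; exact hW.1 a
      refine (V.valuation_lt_one_iff ⟨_, hmem⟩).1 fun hu => ?_
      haveI := isLocalHom_of_dominates hW
      refine ha ((isLocalHom_of_dominates hW).map_nonunit a ?_)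
      have := hu.map (EtRam.inclOfComap W (algebraMap L M))
      convert this using 1
      exact Subtype.ext (IsScalarTower.algebraMap_apply K L M _)
  obtain ⟨_, ϖ, u, e, hϖ, he, hu, hidx⟩ := exists_factor hπ V hV
  haveI := CohDer1.TameTower.isDVR_of_dominates A K M W hW
  letI : Algebra A V := (RingHom.codRestrict _ V hV.1).toAlgebra
  haveI : IsLocalHom (algebraMap A V) := isLocalHom_of_dominates hV
  obtain ⟨hsepV, htame⟩ := @h V hV _
  rw [hidx] at htame
  have heV : (e : ResidueField V) ≠ 0 := by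
    rw [← map_natCast (algebraMap (ResidueField A) (ResidueField V))]
    exact (_root_.map_ne_zero _).2 (natCast_ne_zero_of_forall he.ne' htame)
  obtain ⟨m, hnm⟩ := hn V hV
  rw [hidx] at hnm
  have hm : 0 < m := pos_of_mul_pos_right (hnm ▸ hn0 : 0 < e * m) e.zero_le
  let ι := EtRam.inclOfComap W (algebraMap L M)
  haveI : IsLocalHom ι := EtRam.isLocalHom_inclOfComap _ _
  have hι : Function.Injective ι := fun x y hxy =>
    Subtype.ext ((algebraMap L M).injective (congrArg Subtype.val hxy))
  have hπeq : algebraMap K M (algebraMap A K π) = (ι u : M) * (ι ϖ : M) ^ e := by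
    rw [IsScalarTower.algebraMap_apply K L M]
    show algebraMap L M ((RingHom.codRestrict _ V hV.1 π : V) : L) = _
    rw [hu]
    push_cast
    rfl
  have hαW : α ∈ W := by
    rcases W.mem_or_inv_mem α with hmem | hmem
    · exact hmem
    · exfalso
      have hpi : IsUnit (RingHom.codRestrict ((algebraMap K M).comp (algebraMap A K)) W hW.1 π) :=
        IsUnit.of_mul_eq_one (⟨α⁻¹, hmem⟩ ^ n) (Subtype.ext (by
          show algebraMap K M (algebraMap A K π) * α⁻¹ ^ n = 1
          rw [← hα, inv_pow, mul_inv_cancel₀]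
          rw [hα]
          exact (_root_.map_ne_zero _).2 ((map_ne_zero_iff _ (IsFractionRing.injective A K)).2 hπ.ne_zero)))
      haveI := isLocalHom_of_dominates hW
      exact hπ.not_isUnit ((isLocalHom_of_dominates hW).map_nonunit _ hpi)
  have hϖ0 : (ι ϖ : M) ≠ 0 := fun h0 => hϖ.ne_zero (hι (Subtype.ext (by rw [h0, map_zero]; rfl)))
  have htpow : (α ^ m / (ι ϖ : M)) ^ e = (ι u : M) := by
    rw [div_pow, ← pow_mul, mul_comm m e, ← hnm, hα, hπeq, mul_div_assoc, div_self (pow_ne_zero _ hϖ0), mul_one]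
  have htW : α ^ m / (ι ϖ : M) ∈ W := by
    rcases W.mem_or_inv_mem (α ^ m / (ι ϖ : M)) with hmem | hmem
    · exact hmem
    · have hx : IsUnit ((⟨_, hmem⟩ : W) ^ e) := IsUnit.of_mul_eq_one (ι u) (Subtype.ext (by
        show (α ^ m / (ι ϖ : M))⁻¹ ^ e * (ι u : M) = 1
        rw [inv_pow, htpow]
        exact inv_mul_cancel₀ (fun h0 => u.ne_zero (hι (Subtype.ext (by rw [h0, map_zero]; rfl))))))
      obtain ⟨c, hc⟩ := isUnit_iff_exists_inv.1 ((isUnit_pow_iff he.ne').1 hx)
      have hc' : (α ^ m / (ι ϖ : M))⁻¹ * (c : M) = 1 := congrArg Subtype.val hc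
      rw [← inv_inv (α ^ m / (ι ϖ : M)), inv_eq_of_mul_eq_one_right hc']
      exact c.2
  have hgen' : Subfield.closure (Set.range (fun v => (ι v : M)) ∪ {α, α ^ m / (ι ϖ : M)}) = ⊤ := by
    rw [eq_top_iff, ← hgen, Subfield.closure_le]
    rintro x (⟨l, rfl⟩ | hx)
    · rcases V.mem_or_inv_mem l with hl | hl
      · exact Subfield.subset_closure (Or.inl ⟨⟨l, hl⟩, rfl⟩)
      · rw [← inv_inv l, map_inv₀]
        exact inv_mem (Subfield.subset_closure (Or.inl ⟨⟨l⁻¹, hl⟩, rfl⟩))
    · rw [Set.mem_singleton_iff] at hx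
      subst hx
      exact Subfield.subset_closure (Or.inr (Or.inl rfl))
  obtain ⟨hmax, hsep⟩ := uniformiser_and_separable W ι hι ϖ hϖ u e m he heV hm ⟨α, hαW⟩ ⟨_, htW⟩
    (Subtype.ext htpow) (Subtype.ext (by
      show α ^ m = (ι ϖ : M) * (α ^ m / (ι ϖ : M))
      rw [mul_div_cancel₀ _ hϖ0])) hgen'
  refine ⟨hαW, hmax, ?_⟩
  letI : Algebra A W := (RingHom.codRestrict _ W hW.1).toAlgebra
  haveI : IsLocalHom (algebraMap A W) := isLocalHom_of_dominates hW
  letI : Algebra V W := ι.toAlgebra
  haveI : IsLocalHom (algebraMap V W) := ‹IsLocalHom ι›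
  haveI : IsScalarTower A V W := IsScalarTower.of_algebraMap_eq fun a =>
    Subtype.ext (IsScalarTower.algebraMap_apply K L M _)
  haveI := hsepV
  haveI : Algebra.IsSeparable (ResidueField V) (ResidueField W) := hsep
  exact Algebra.IsSeparable.trans (ResidueField A) (ResidueField V) (ResidueField W)

end Groth.Agent.TameKum
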