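import Groth.Agent.TameKum.Extend
import Groth.Agent.HenselLib.HullProps
import Groth.Agent.HenselLib.Olivier
import Mathlib.Algebra.DualNumber

/-!
# Kummer algebras and strict henselisations of regular local rings
-/

set_option autoImplicit false
set_option linter.style.haveILetI false

universe u

open IsLocalRing

namespace Groth.Agent.TameKum

/-- Detecting elements outside the square of the maximal ideal. -/
theorem notMem_sq_of_hom {B Q κ : Type u} [CommRing B] [IsLocalRing B] [CommRing Q] [Field κ] (φ : B →+* Q)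
    (π : Q →+* κ) (hπ : Function.Surjective (π.comp φ)) (hsq : ∀ a b, π a = 0 → π b = 0 → a * b = 0)
    {x : B} (hx : φ x ≠ 0) : x ∉ maximalIdeal B ^ 2 := by
  have hm : ∀ b ∈ maximalIdeal B, π (φ b) = 0 := fun b hb => by
    have := IsLocalRing.eq_maximalIdeal (RingHom.ker_isMaximal_of_surjective (π.comp φ) hπ)
    rw [← this] at hb
    exact hb
  intro hmem
  refine hx ?_
  rw [pow_two] at hmem
  refine Submodule.mul_induction_on hmem (fun a ha b hb => ?_) fun a b ha hb => by rw [map_add, ha, hb, add_zero]
  rw [map_mul]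
  exact hsq _ _ (hm a ha) (hm b hb)

theorem root_notMem_sq {A : Type u} [CommRing A] [IsLocalRing A] {r : ℕ} (f : Fin r → A)
    (hm : ∀ i, f i ∈ maximalIdeal A)
    (hf : LinearIndependent (ResidueField A) (fun i => (maximalIdeal A).toCotangent ⟨f i, hm i⟩))
    (n : Fin r → ℕ) (hn : ∀ i, 1 ≤ n i) [IsLocalRing (SGA1.kummerAlg A f n)] (i : Fin r) :
    CAlgH.KummerAlg.root f n i ∉ maximalIdeal (SGA1.kummerAlg A f n) ^ 2 := by
  classical
  by_cases h1 : n i = 1
  · let J : Ideal A := maximalIdeal A ^ 2 ⊔ Ideal.span (f '' {j | j ≠ i})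
    have hJm : J ≤ maximalIdeal A := sup_le (Ideal.pow_le_self two_ne_zero)
      (Ideal.span_le.2 (by rintro _ ⟨j, -, rfl⟩; exact hm j))
    letI : Algebra A (A ⧸ J) := Ideal.Quotient.algebra A
    obtain ⟨φ, hφ⟩ := CAlgH.KummerAlg.exists_algHom f n (S := A ⧸ J)
      (fun j => if j = i then algebraMap A (A ⧸ J) (f i) else 0) (fun j => by
        by_cases hj : j = i
        · subst hj; rw [if_pos rfl, h1, pow_one]
        · rw [if_neg hj, zero_pow (Nat.one_le_iff_ne_zero.1 (hn j))]
          exact (Ideal.Quotient.eq_zero_iff_mem.2 (Submodule.mem_sup_right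
            (Ideal.subset_span (Set.mem_image_of_mem f hj)))).symm)
    refine notMem_sq_of_hom φ.toRingHom (Ideal.Quotient.lift J (residue A) fun a ha =>
      (residue_eq_zero_iff a).2 (hJm ha)) ?_ ?_ ?_
    · intro y
      obtain ⟨a, rfl⟩ := residue_surjective y
      exact ⟨algebraMap A _ a, by
        rw [RingHom.comp_apply, AlgHom.toRingHom_eq_coe, RingHom.coe_coe, φ.commutes]
        exact Ideal.Quotient.lift_mk _ _ _⟩
    · intro a b ha hb
      obtain ⟨a, rfl⟩ := Ideal.Quotient.mk_surjective a
      obtain ⟨b, rfl⟩ := Ideal.Quotient.mk_surjective b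
      rw [Ideal.Quotient.lift_mk, residue_eq_zero_iff] at ha hb
      rw [← map_mul]
      refine Ideal.Quotient.eq_zero_iff_mem.2 (Submodule.mem_sup_left ?_)
      rw [pow_two]
      exact Ideal.mul_mem_mul ha hb
    · show φ (CAlgH.KummerAlg.root f n i) ≠ 0
      rw [hφ, if_pos rfl]
      intro h0
      have hmem : f i ∈ J := Ideal.Quotient.eq_zero_iff_mem.1 h0
      refine hf.notMem_span_image (s := {j | j ≠ i}) (x := i) (fun h => h rfl) ?_
      obtain ⟨y, hy, z, hz, hyz⟩ := Submodule.mem_sup.1 hmem
      have hspan : ∀ z : A, z ∈ Ideal.span (f '' {j | j ≠ i}) → ∃ hzm : z ∈ maximalIdeal A,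
          (maximalIdeal A).toCotangent ⟨z, hzm⟩ ∈ Submodule.span (ResidueField A)
            ((fun j => (maximalIdeal A).toCotangent ⟨f j, hm j⟩) '' {j | j ≠ i}) := by
        intro z hz
        induction hz using Submodule.span_induction with
        | mem x hx =>
          obtain ⟨j, hj, rfl⟩ := hx
          exact ⟨hm j, Submodule.subset_span ⟨j, hj, rfl⟩⟩
        | zero => exact ⟨zero_mem _, by rw [show (⟨0, zero_mem _⟩ : maximalIdeal A) = 0 from rfl, map_zero]; exact zero_mem _⟩
        | add x w _ _ hx hw =>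
          obtain ⟨hxm, hx'⟩ := hx
          obtain ⟨hwm, hw'⟩ := hw
          exact ⟨add_mem hxm hwm, by
            rw [show (⟨x + w, add_mem hxm hwm⟩ : maximalIdeal A) = ⟨x, hxm⟩ + ⟨w, hwm⟩ from rfl, map_add]
            exact add_mem hx' hw'⟩
        | smul c x _ hx =>
          obtain ⟨hxm, hx'⟩ := hx
          refine ⟨Ideal.mul_mem_left _ c hxm, ?_⟩
          rw [show (⟨c • x, Ideal.mul_mem_left _ c hxm⟩ : maximalIdeal A) = c • ⟨x, hxm⟩ from rfl, map_smul,
            ← algebraMap_smul (ResidueField A)]
          exact Submodule.smul_mem _ _ hx'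
      obtain ⟨hzm, hz'⟩ := hspan z hz
      have hym : y ∈ maximalIdeal A := Ideal.pow_le_self two_ne_zero hy
      have : (maximalIdeal A).toCotangent ⟨f i, hm i⟩ = (maximalIdeal A).toCotangent ⟨z, hzm⟩ := by
        rw [Ideal.toCotangent_eq]
        show f i - z ∈ maximalIdeal A ^ 2
        rw [← hyz, add_sub_cancel_right]
        exact hy
      exact this ▸ hz'
  · obtain ⟨φ, hφ⟩ := CAlgH.KummerAlg.exists_algHom f n (S := DualNumber (ResidueField A))
      (fun j => if j = i then DualNumber.eps else 0) (fun j => by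
        have hf0 : algebraMap A (DualNumber (ResidueField A)) (f j) = 0 := by
          rw [IsScalarTower.algebraMap_apply A (ResidueField A) (DualNumber (ResidueField A)), ResidueField.algebraMap_eq,
            (residue_eq_zero_iff _).2 (hm j), map_zero]
        by_cases hj : j = i
        · subst hj
          obtain ⟨m, hm'⟩ : ∃ m, n j = m + 2 := ⟨n j - 2, by have := hn j; omega⟩
          rw [if_pos rfl, hf0, hm', pow_add, pow_two, DualNumber.eps_mul_eps, mul_zero]
        · rw [if_neg hj, hf0, zero_pow (Nat.one_le_iff_ne_zero.1 (hn j))])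
    refine notMem_sq_of_hom φ.toRingHom (TrivSqZeroExt.fstHom (ResidueField A) (ResidueField A) (ResidueField A)).toRingHom ?_ ?_ ?_
    · intro y
      obtain ⟨a, rfl⟩ := residue_surjective y
      exact ⟨algebraMap A _ a, by
        show TrivSqZeroExt.fst (φ (algebraMap A _ a)) = _
        rw [φ.commutes]
        rfl⟩
    · intro a b ha hb
      change TrivSqZeroExt.fst a = 0 at ha
      change TrivSqZeroExt.fst b = 0 at hb
      exact TrivSqZeroExt.ext (by simp [ha, hb]) (by simp [ha, hb])
    · show φ (CAlgH.KummerAlg.root f n i) ≠ 0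
      rw [hφ, if_pos rfl]
      intro h0
      simpa using congrArg TrivSqZeroExt.snd h0

/-- The strict henselisation of a regular local ring is regular. -/
theorem isRegular_localSH (R : Type u) [CommRing R] [IsRegularLocalRing R] :
    IsRegularLocalRing (HenselLib.LocalSH R) := by
  let S := HenselLib.LocalSH R
  haveI := HenselLib.isNoetherianRing_localSH (R := R)
  refine IsRegularLocalRing.of_spanFinrank_maximalIdeal_le S ?_
  rw [HenselLib.spanFinrank_maximalIdeal_of_flat S HenselLib.map_maximalIdeal_localSH,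
    IsRegularLocalRing.spanFinrank_maximalIdeal, ← IsLocalRing.maximalIdeal_height_eq_ringKrullDim,
    ← IsLocalRing.maximalIdeal_height_eq_ringKrullDim]
  haveI : (maximalIdeal S).LiesOver (maximalIdeal R) := by
    have h : (maximalIdeal S).comap (algebraMap R S) = maximalIdeal R :=
      ((local_hom_TFAE (algebraMap R S)).out 0 4).mp (inferInstance : IsLocalHom (algebraMap R S))
    exact ⟨h.symm⟩
  rw [WithBot.coe_le_coe, Ideal.height_eq_height_add_of_liesOver_of_hasGoingDown (maximalIdeal R) (maximalIdeal S)]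
  exact le_self_add

theorem height_comap_le_of_flat {R S : Type u} [CommRing R] [IsNoetherianRing R] [CommRing S] [IsNoetherianRing S]
    [Algebra R S] [Module.Flat R S] (P : Ideal S) [P.IsPrime] : (P.comap (algebraMap R S)).height ≤ P.height := by
  haveI : P.LiesOver (P.comap (algebraMap R S)) := ⟨rfl⟩
  rw [Ideal.height_eq_height_add_of_liesOver_of_hasGoingDown (P.comap (algebraMap R S)) P]
  exact le_self_add

end Groth.Agent.TameKum
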